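import Cfsg.Agent.FSI.Par
import Cfsg.Agent.Char.Elementary
import Cfsg.Agent.Char.PermChar

/-!
# A twisted Brauer-Witt theorem
-/

set_option autoImplicit false
set_option linter.dupNamespace false

namespace Cfsg.Agent.FSI

open Cfsg Cfsg.Agent.Char
open scoped ComplexConjugate

variable {G : Type*} [Group G] {s : G →* ℤˣ} {K : Subgroup G}

/-- The twisted conjugation action. -/
def act (s : G →* ℤˣ) (k g : G) : G := k * g ^ ((s k : ℤˣ) : ℤ) * k⁻¹

theorem act_even {k : G} (h : s k = 1) (g : G) : act s k g = k * g * k⁻¹ := by simp [act, h]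

theorem act_odd {k : G} (h : s k = -1) (g : G) : act s k g = k * g⁻¹ * k⁻¹ := by simp [act, h]

theorem act_one (g : G) : act s 1 g = g := by simp [act]

theorem act_mul (k l g : G) : act s (k * l) g = act s k (act s l g) := by
  simp only [act, conj_zpow, map_mul, Units.val_mul, mul_comm ((s k : ℤˣ) : ℤ), zpow_mul]
  group

theorem act_inv_act (k g : G) : act s k⁻¹ (act s k g) = g := by
  rw [← act_mul, inv_mul_cancel, act_one]

theorem act_act_inv (k g : G) : act s k (act s k⁻¹ g) = g := by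
  rw [← act_mul, mul_inv_cancel, act_one]

theorem act_mem {k g : G} (hk : k ∈ K) (hg : g ∈ ev s K) : act s k g ∈ ev s K :=
  conj_mem_ev hk (zpow_mem hg _)

theorem act_mul_of_comm (k : G) {a b : G} (h : Commute a b) :
    act s k (a * b) = act s k a * act s k b := by
  simp only [act, h.mul_zpow]; group

theorem act_pow (k g : G) (n : ℕ) : act s k g ^ n = act s k (g ^ n) := by
  rw [act, act, conj_pow, ← zpow_natCast, ← zpow_natCast, ← zpow_mul, ← zpow_mul, mul_comm (n : ℤ)]

theorem orderOf_act (k g : G) : orderOf (act s k g) = orderOf g := by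
  refine orderOf_eq_orderOf_iff.mpr fun n => ?_
  rw [act_pow]
  refine ⟨fun h => ?_, fun h => by simp [h, act]⟩
  rw [← act_inv_act (s := s) k (g ^ n), h]; simp [act]

/-- The twisted centralizer. -/
def cen (s : G →* ℤˣ) (K : Subgroup G) (a : G) : Subgroup G where
  carrier := {k | k ∈ K ∧ act s k a = a}
  one_mem' := ⟨K.one_mem, act_one a⟩
  mul_mem' := fun {k l} hk hl => ⟨K.mul_mem hk.1 hl.1, by rw [act_mul, hl.2, hk.2]⟩
  inv_mem' := fun {k} hk => ⟨K.inv_mem hk.1, by
    conv_lhs => rw [← hk.2]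
    exact act_inv_act k a⟩

theorem comm_of_act {a p : G} (h : act s p a = a) (hs : s p = 1) : p * a = a * p := by
  rw [act_even hs] at h
  exact mul_inv_eq_iff_eq_mul.mp h

/-- Integral combinations of characters. -/
noncomputable def SpA (H : Subgroup G) : Subalgebra (integralClosure ℤ ℂ) (G → ℂ) :=
  (Submodule.span (integralClosure ℤ ℂ) {f : G → ℂ | Ch H f}).toSubalgebra
    (Submodule.subset_span (ch_one H)) fun x y hx hy => by
      have := Submodule.mul_mem_mul hx hy
      rw [Submodule.span_mul_span] at this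
      refine Submodule.span_mono ?_ this
      rintro _ ⟨a, ha, b, hb, rfl⟩
      exact Ch.mul ha hb

/-- Twisted invariant functions. -/
def TI (s : G →* ℤˣ) (K : Subgroup G) : Subalgebra (integralClosure ℤ ℂ) (G → ℂ) where
  carrier := {f | ∀ k ∈ K, ∀ g ∈ ev s K, f (act s k g) = f g}
  mul_mem' := fun ha hb k hk g hg => by simp only [Pi.mul_apply, ha k hk g hg, hb k hk g hg]
  add_mem' := fun ha hb k hk g hg => by simp only [Pi.add_apply, ha k hk g hg, hb k hk g hg]
  algebraMap_mem' := fun _ _ _ _ _ => rfl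

variable [Finite G]

theorem Inv.mem_TI {η : G → ℂ} (hη : Ch (ev s K) η) (hi : Inv s K η) : η ∈ TI s K :=
  fun k hk g hg => by
    rcases Int.units_eq_one_or (s k) with h | h
    · rw [act_even h, hη.conj_eq ⟨hk, h⟩ hg]
    · rw [act_odd h, hi k hk h _ (inv_mem hg), hη.map_inv hg, Complex.conj_conj]

theorem mem_SpA {H : Subgroup G} {f : G → ℂ} (hf : ∀ x ∈ H, ∀ g ∈ H, f (x * g * x⁻¹) = f g)
    (hi : ∀ χ, Ch H χ → IsIntegral ℤ (inn H f χ)) : f ∈ SpA H := by
  rw [← sub_add_cancel f (∑ χ : IrrCharacter H, inn H f (ex χ) • ex χ)]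
  refine add_mem (Submodule.subset_span ?_) (sum_mem fun χ _ => ?_)
  · refine Ch.congr (η := 0) isCharacter_zero fun x hx => ?_
    simp [← eq_sum_ex hf hx]
  · exact (SpA H).smul_mem (Submodule.subset_span (irr_ex χ).ch) ⟨_, hi _ (irr_ex χ).ch⟩

theorem isIntegral_of_SpA {H : Subgroup G} {f : G → ℂ} (hf : f ∈ SpA H) {g : G} (hg : g ∈ H) :
    IsIntegral ℤ (f g) := by
  induction hf using Submodule.span_induction with
  | mem x h => exact Ch.isIntegral h hg
  | zero => exact isIntegral_zero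
  | add x y _ _ h h' => exact h.add h'
  | smul a x _ h => exact a.2.mul h

theorem isIntegral_avg_SpA {H M : Subgroup G} {f : G → ℂ} (hf : f ∈ SpA H) (hM : M ≤ H)
    {χ : G → ℂ} (hχ : Ch M χ) {C : Subgroup G} (hC : C ≤ M) {a : G} (ha : a ∈ M)
    (hc : ∀ c ∈ C, c * a = a * c) :
    IsIntegral ℤ (avg C (fun u => f (a * u) * χ (a * u))) := by
  induction hf using Submodule.span_induction with
  | mem x h => exact ((Ch.mono h hM).mul hχ).isIntegral_avg hC ha hc
  | zero => simpa [avg] using isIntegral_zero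
  | add x y _ _ h h' => simp only [Pi.add_apply, add_mul, avg_add]; exact h.add h'
  | smul r x _ h =>
    have : ∀ u, (r • x) (a * u) * χ (a * u) = r * (x (a * u) * χ (a * u)) := fun u =>
      mul_assoc _ _ _
    simp only [this, avg_mul]; exact r.2.mul h

theorem avg_act_coset {P : Subgroup G} {a p : G} (hp : p ∈ P) (hs : s p = -1)
    (h : act s p a = a) (hP : ∀ u ∈ ev s P, u * a = a * u) (F : G → ℂ) :
    avg (ev s P) (fun u => F (act s p (a * u))) = avg (ev s P) (fun u => F (a * u)) := by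
  rw [← avg_conj_ev hp (fun u => F (a * u)), ← avg_inv (ev s P) (fun u => F (a * (p * u * p⁻¹)))]
  refine avg_congr fun u hu => ?_
  rw [act_mul_of_comm _ (hP u hu).symm, h, act_odd hs]

open Classical in
/-- The basic functions of the Brauer-Witt argument. -/
noncomputable def bf (s : G →* ℤˣ) (K : Subgroup G) (a : G) (P : Subgroup G) (g : G) : ℂ :=
  (Nat.card P : ℂ)⁻¹ * ∑ k ∈ fs (K : Set G), if a⁻¹ * act s k g ∈ ev s P then 1 else 0

theorem bf_mem_TI (a : G) (P : Subgroup G) : bf s K a P ∈ TI s K := fun l hl g _ => by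
  unfold bf
  congr 1
  exact Finset.sum_equiv (Equiv.mulRight l) (fun x => by simp [K.mul_mem_cancel_right hl])
    fun _ _ => by rw [Equiv.coe_mulRight, act_mul]

theorem avg_bf_mul (ho : HasOdd s K) {a : G} (ha : a ∈ ev s K) {P : Subgroup G} (hP : P ≤ K)
    {h : G → ℂ} (hh : h ∈ TI s K) : avg (ev s K) (fun g => bf s K a P g * h g) =
      2 * Nat.card (ev s P) / Nat.card P * avg (ev s P) (fun u => h (a * u)) := by
  classical
  have h1 : ∀ k ∈ fs (K : Set G), ∑ g ∈ fs (ev s K : Set G),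
      (if a⁻¹ * act s k g ∈ ev s P then 1 else 0) * h g =
        ∑ u ∈ fs (ev s P : Set G), h (a * u) := fun k hk => by
    have hk := mem_fs.mp hk
    simp only [ite_mul, one_mul, zero_mul, ← Finset.sum_filter]
    refine Finset.sum_bij' (fun g _ => a⁻¹ * act s k g) (fun u _ => act s k⁻¹ (a * u))
      (fun g hg => by simpa using (Finset.mem_filter.mp hg).2) (fun u hu => ?_)
      (fun g _ => by simp [act_inv_act]) (fun u _ => by simp [act_act_inv]) fun g hg => ?_
    · have hu := mem_fs.mp hu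
      simp only [Finset.mem_filter, mem_fs, act_act_inv, inv_mul_cancel_left]
      exact ⟨act_mem (K.inv_mem hk) (mul_mem ha (ev_mono s hP hu)), hu⟩
    · rw [mul_inv_cancel_left, hh k hk g (mem_fs.mp (Finset.mem_filter.mp hg).1)]
  simp only [avg, bf, mul_assoc, Finset.sum_mul, ← Finset.mul_sum]
  rw [Finset.sum_comm, Finset.sum_congr rfl h1, Finset.sum_const, nsmul_eq_mul,
    show ((fs (K : Set G)).card : ℂ) = Nat.card K by rw [card_eq_sum]; simp, card_eq_two_mul ho]
  have := card_ne_zero (ev s K)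
  have := card_ne_zero (ev s P)
  have := card_ne_zero P
  field_simp

omit [Finite G] in
theorem ev_eq_of_not_hasOdd {P : Subgroup G} (h : ¬ HasOdd s P) : ev s P = P :=
  le_antisymm (ev_le s P) fun x hx => ⟨hx, (Int.units_eq_one_or (s x)).resolve_right
    fun h' => h ⟨x, hx, h'⟩⟩

theorem bf_mem_SpA (ho : HasOdd s K) {a : G} (ha : a ∈ ev s K) {P : Subgroup G}
    (hP : P ≤ cen s K a) : bf s K a P ∈ SpA (ev s K) := by
  have hPK : P ≤ K := fun x hx => (hP hx).1
  have hc : ∀ u ∈ ev s P, u * a = a * u := fun u hu => comm_of_act (hP hu.1).2 hu.2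
  refine mem_SpA (fun x hx g hg => ?_) fun χ hχ => ?_
  · rw [← act_even hx.2, bf_mem_TI a P x hx.1 g hg]
  have key : ∀ t ∈ K, s t = -1 → 2 * inn (ev s K) (bf s K a P) χ =
      2 * Nat.card (ev s P) / Nat.card P * (avg (ev s P) (fun u => conj (χ (a * u))) +
        avg (ev s P) (fun u => conj (χ (act s t (a * u))))) := fun t ht hs => by
    have h1 : ∀ g ∈ ev s K, conj (χ (act s t g)) = χ (t * g * t⁻¹) := fun g hg => by
      rw [← hχ.map_inv (act_mem ht hg), act_odd hs]; congr 1; group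
    have h2 : Ch (ev s K) (fun g => conj (χ g) + χ (t * g * t⁻¹)) :=
      hχ.conj.add (hχ.comp (MulAut.conj t).toMonoidHom fun _ hl => conj_mem_ev ht hl)
    have h3 : Inv s K (fun g => conj (χ g) + χ (t * g * t⁻¹)) := inv_of_one h2 ht hs fun g hg => by
      simp only [map_add, Complex.conj_conj]
      rw [add_comm, ← hχ.conj_eq (sq_mem_ev ht) hg]; congr 2; group
    rw [← avg_add, avg_congr (g := fun u => conj (χ (a * u)) + χ (t * (a * u) * t⁻¹))
      fun u hu => by rw [h1 _ (mul_mem ha (ev_mono s hPK hu))],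
      ← avg_bf_mul ho ha hPK (h3.mem_TI h2), two_mul]
    simp only [mul_add, avg_add]
    congr 1
    rw [inn, ← avg_inv, ← avg_conj_ev ht]
    refine avg_congr fun g hg => ?_
    rw [hχ.map_inv (conj_mem_ev ht hg), Complex.conj_conj, ← bf_mem_TI a P t ht g hg, act_odd hs]
    congr 2; group
  have h4 := hχ.conj.isIntegral_avg (ev_mono s hPK) ha hc
  have := card_ne_zero (ev s P)
  by_cases hO : HasOdd s P
  · obtain ⟨p, hp, hs⟩ := id hO
    have h5 := key p (hPK hp) hs
    rw [avg_act_coset hp hs (hP hp).2 hc (fun g => conj (χ g)), card_eq_two_mul hO,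
      div_self (mul_ne_zero two_ne_zero this), one_mul, ← two_mul] at h5
    rwa [mul_left_cancel₀ two_ne_zero h5]
  · obtain ⟨t, ht, hs⟩ := ho
    have h5 := key t ht hs
    rw [show Nat.card P = Nat.card (ev s P) by rw [ev_eq_of_not_hasOdd hO], mul_div_assoc,
      div_self this, mul_one] at h5
    rw [mul_left_cancel₀ two_ne_zero h5]
    refine h4.add ?_
    rw [avg_congr (g := fun u => χ (t * (a * u) * t⁻¹)) fun u hu => by
      rw [← hχ.map_inv (act_mem ht (mul_mem ha (ev_mono s hPK hu))), act_odd hs]; congr 1; group]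
    exact Ch.isIntegral_avg (χ := fun g => χ (t * g * t⁻¹))
      (hχ.comp (MulAut.conj t).toMonoidHom fun _ hl => conj_mem_ev ht hl) (ev_mono s hPK) ha hc

theorem exists_bf_odd {x : G} (hx : x ∈ ev s K) : ∃ a ∈ ev s K, Odd (orderOf a) ∧
    ∃ P ≤ cen s K a, IsPGroup 2 P ∧ ∃ n : ℕ, Odd n ∧ bf s K a P x = n := by
  classical
  obtain ⟨u, a, hu, ha, rfl, hc, ⟨j, hj⟩, hao⟩ := exists_pPart_mul_pPrimePart Nat.prime_two x
  have hu0 : u ∈ ev s K := Subgroup.zpowers_le.mpr hx hu
  have ha0 : a ∈ ev s K := Subgroup.zpowers_le.mpr hx ha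
  have huC : u ∈ cen s K a := ⟨hu0.1, by rw [act_even hu0.2, hc.eq, mul_inv_cancel_right]⟩
  let C := cen s K a
  let P : Sylow 2 C := default
  have hP : (P : Subgroup C).map C.subtype ≤ C := Subgroup.map_subtype_le _
  have hP2 : IsPGroup 2 ((P : Subgroup C).map C.subtype) := P.2.map _
  refine ⟨a, ha0, Nat.coprime_two_right.mp hao, _, hP, hP2,
    Nat.card (MulAction.fixedBy (C ⧸ (P : Subgroup C)) (⟨u, huC⟩ : C)), ?_, ?_⟩
  · have h1 := PermChar.card_fixedBy_pow_modEq (X := C ⧸ (P : Subgroup C)) Nat.prime_two j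
      (⟨u, huC⟩ : C)
    rw [show (⟨u, huC⟩ : C) ^ 2 ^ j = 1 from Subtype.ext (by
      simp [← hj]), MulAction.fixedBy_one_eq_univ, Nat.card_univ] at h1
    rw [Nat.odd_iff, ← h1, ← Nat.odd_iff, ← Nat.not_even_iff_odd, even_iff_two_dvd]
    exact P.not_dvd_index
  · have h1 := PermChar.card_mul_card_fixedBy_quotient (P : Subgroup C) ⟨u, huC⟩
    rw [bf, Subgroup.card_map_of_injective C.subtype_injective,
      inv_mul_eq_iff_eq_mul₀ (card_ne_zero _), ← Nat.cast_mul, h1, Finset.sum_boole,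
      Nat.cast_inj, ← Nat.card_eq_finsetCard]
    have h2 : ∀ k ∈ C, a⁻¹ * act s k (u * a) = act s k u := fun k hk => by
      rw [hc.eq, act_mul_of_comm _ hc.symm, hk.2, inv_mul_cancel_left]
    have h3 : ∀ k : C, act s k u ∈ ev s ((P : Subgroup C).map C.subtype) ↔
        k * ⟨u, huC⟩ * k⁻¹ ∈ (P : Subgroup C) := fun k => by
      rw [mem_ev, and_iff_left (mem_ev.mp (act_mem k.2.1 hu0)).2,
        ← Subgroup.mem_map_iff_mem C.subtype_injective]
      rcases Int.units_eq_one_or (s k) with h | h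
      · rw [act_even h]; rfl
      · rw [act_odd h, ← inv_mem_iff]; simp [mul_assoc]
    have h4 : ∀ k ∈ K, a⁻¹ * act s k (u * a) ∈ ev s ((P : Subgroup C).map C.subtype) → k ∈ C :=
      fun k hk h => by
        refine ⟨hk, (pPart_unique Nat.prime_two (x := act s k u) (x' := a⁻¹ * act s k (u * a))
          ?_ ?_ (comm_of_act (hP h.1).2 h.2) ⟨j, by rw [act_pow, ← hj]; simp [act]⟩ ?_
          (by rwa [orderOf_act]) hao).2⟩
        · rw [comm_of_act (hP h.1).2 h.2, mul_inv_cancel_left, act_mul_of_comm _ hc]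
        · rw [Commute, SemiconjBy, ← act_mul_of_comm _ hc, ← act_mul_of_comm _ hc.symm, hc.eq]
        · obtain ⟨i, hi⟩ := hP2 ⟨_, h.1⟩
          exact ⟨i, congrArg Subtype.val hi⟩
    refine Nat.card_congr
      { toFun := fun k => ⟨⟨k.1, h4 k.1 (mem_fs.mp (Finset.mem_filter.mp k.2).1)
          (Finset.mem_filter.mp k.2).2⟩⁻¹, by
            rw [inv_inv, ← h3, ← h2 _ (h4 k.1 (mem_fs.mp (Finset.mem_filter.mp k.2).1)
              (Finset.mem_filter.mp k.2).2)]
            exact (Finset.mem_filter.mp k.2).2⟩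
        invFun := fun k => ⟨(k.1⁻¹ : C), Finset.mem_filter.mpr ⟨mem_fs.mpr (k.1⁻¹).2.1, by
          rw [h2 _ (k.1⁻¹).2, h3, inv_inv]; exact k.2⟩⟩
        left_inv := fun k => by simp
        right_inv := fun k => Subtype.ext (Subtype.ext (inv_inv _)) }

theorem pow_two_pow_eq {y : ℂ} (hy : IsIntegral ℤ y) (e : ℕ) :
    ∃ z, IsIntegral ℤ z ∧ (1 + 2 * y) ^ 2 ^ e = 1 + 2 ^ (e + 1) * z := by
  induction e with
  | zero => exact ⟨y, hy, by simp⟩
  | succ e ih =>
    obtain ⟨z, hz, h⟩ := ih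
    refine ⟨z + (2 ^ e : ℕ) * (z * z), hz.add ((isIntegral_nat _).mul (hz.mul hz)), ?_⟩
    rw [pow_succ 2 e, pow_mul, h]; push_cast; ring

/-- The twisted Brauer-Witt theorem. -/
theorem pos_of_bw (h : ∀ a ∈ ev s K, Odd (orderOf a) → ∀ P ≤ cen s K a, IsPGroup 2 P →
    ∃ M ≤ K, a ∈ M ∧ P ≤ M ∧ Pos s M) : Pos s K := fun η hη h1 => by
  classical
  have h0 : tw s K η ≠ 0 := by rw [h1]; norm_num
  have ho := hasOdd_of_tw h0
  have hi := inv_of_tw hη h0
  let A := TI s K ⊓ SpA (ev s K)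
  let Good : (G → ℂ) → Prop := fun f => ∀ f' ∈ A,
    avg (ev s K) (fun g => f g * (f' g * η g * conj (η g))) ∈ Ev
  have hη1 := hi.mem_TI hη.ch
  have key : ∀ x ∈ ev s K, ∃ f ∈ A, Good f ∧ 1 - f x ∈ Ev := fun x hx => by
    obtain ⟨a, ha, hao, P, hP, hP2, n, hn, e⟩ := exists_bf_odd hx
    obtain ⟨M, hM, haM, hPM, hpos⟩ := h a ha hao P hP hP2
    have hPK : P ≤ K := fun x hx => (hP hx).1
    have hc : ∀ u ∈ ev s P, u * a = a * u := fun u hu => comm_of_act (hP hu.1).2 hu.2
    refine ⟨_, ⟨bf_mem_TI a P, bf_mem_SpA ho ha hP⟩, fun f hf => ?_, ?_⟩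
    swap
    · obtain ⟨k, rfl⟩ := hn
      rw [e]
      exact ⟨-k, (isIntegral_nat k).neg, by push_cast; ring⟩
    rw [avg_bf_mul ho ha hPK (h := fun g => f g * η g * conj (η g)) fun k hk g hg => by
      simp only [hf.1 k hk g hg, hη1 k hk g hg]]
    have := card_ne_zero (ev s P)
    have hI : ∀ φ, Ch (ev s M) φ → IsIntegral ℤ
        (avg (ev s P) fun u => f (a * u) * (φ (a * u) * conj (η (a * u)))) := fun φ hφ =>
      isIntegral_avg_SpA hf.2 (ev_mono s hM) (hφ.mul (hη.ch.mono (ev_mono s hM)).conj)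
        (ev_mono s hPM) ⟨haM, ha.2⟩ hc
    by_cases hO : HasOdd s P
    swap
    · rw [show Nat.card P = Nat.card (ev s P) by rw [ev_eq_of_not_hasOdd hO], mul_div_assoc,
        div_self this, mul_one]
      simp only [mul_assoc]
      exact two_mul_mem_Ev (hI η (hη.ch.mono (ev_mono s hM)))
    obtain ⟨p, hp, hs⟩ := id hO
    rw [card_eq_two_mul hO, div_self (mul_ne_zero two_ne_zero this), one_mul]
    by_contra hne
    have hau : ∀ u ∈ ev s P, a * u ∈ ev s M := fun u hu => mul_mem ⟨haM, ha.2⟩ (ev_mono s hPM hu)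
    obtain ⟨χ, hχ, -, m, hm, e⟩ := (hη.ch.mono (ev_mono s hM)).exists_odd (stI (hPM hp))
      (stI_stI _) ((hi.mono hM).inn_stI (hη.ch.mono (ev_mono s hM)) (hPM hp) hs)
      (fun χ => avg (ev s P) fun u => f (a * u) * (ex χ (a * u) * conj (η (a * u))))
      (fun χ => by
        rw [← avg_act_coset hp hs (hP hp).2 hc (fun g => f g * (ex χ g * conj (η g)))]
        refine avg_congr fun u hu => ?_
        have h2 := ev_mono s hM (hau u hu)
        rw [hf.1 p (hPK hp) _ h2, hη1 p (hPK hp) _ h2, ex_stI _ _ (hau u hu), st,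
          ← (irr_ex χ).ch.map_inv (conj_mem_ev (hPM hp) (hau u hu)), act_odd hs]
        congr 3; group)
      (fun χ => hI _ (irr_ex χ).ch) (by
        simp only [← avg_mul, ← avg_sum]
        rwa [avg_congr fun u hu => ?_]
        rw [(hη.ch.mono (ev_mono s hM)).eq_sum (hau u hu), Finset.mul_sum, Finset.sum_mul,
          ← (hη.ch.mono (ev_mono s hM)).eq_sum (hau u hu)]
        exact Finset.sum_congr rfl fun _ _ => by ring)
    exact hpos _ (irr_ex χ) ((tw_eq_of_odd hη hi (irr_ex χ) (inv_of_stI _ hs hχ) (MonoidHom.id G)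
      (fun l hl => ⟨hM hl, rfl⟩) ⟨p, hPM hp, hs⟩ e hm).symm.trans h1)
  choose! f hfA hfG hfx using key
  have hprod : ∀ T : Finset G, (∀ x ∈ T, x ∈ ev s K) →
      (∏ x ∈ T, (1 - f x)) ∈ A ∧ Good (1 - ∏ x ∈ T, (1 - f x)) := fun T => by
    induction T using Finset.induction_on with
    | empty => exact fun _ => ⟨by simp, fun f' _ => by simp [avg]⟩
    | insert x T hx ih =>
      intro hT
      obtain ⟨h2, h3⟩ := ih fun y hy => hT y (Finset.mem_insert_of_mem hy)
      have h4 := hT x (Finset.mem_insert_self _ _)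
      rw [Finset.prod_insert hx]
      refine ⟨A.mul_mem (A.sub_mem A.one_mem (hfA x h4)) h2, fun f' hf' => ?_⟩
      convert Ev.add_mem (h3 f' hf') (hfG x h4 _ (A.mul_mem h2 hf')) using 1
      rw [← avg_add]
      exact avg_congr fun g _ => by simp only [Pi.sub_apply, Pi.mul_apply, Pi.one_apply]; ring
  obtain ⟨h2, h3⟩ := hprod (fs (ev s K : Set G)) fun x hx => mem_fs.mp hx
  set F := 1 - ∏ x ∈ fs (ev s K : Set G), (1 - f x) with hF
  obtain ⟨e, m, hm, hc⟩ := Nat.exists_eq_two_pow_mul_odd (Nat.card_pos (α := ev s K)).ne'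
  have h4 : ∀ g ∈ ev s K, ∃ z, IsIntegral ℤ z ∧ F g ^ 2 ^ e = 1 + 2 ^ (e + 1) * z := fun g hg => by
    have h5 : (∏ x ∈ fs (ev s K : Set G), (1 - f x)) g ∈ Ev := by
      rw [← Finset.mul_prod_erase _ _ (mem_fs.mpr hg)]
      exact Ev_mul (hfx g hg) (isIntegral_of_SpA
        (hprod _ fun x hx => mem_fs.mp (Finset.mem_of_mem_erase hx)).1.2 hg)
    obtain ⟨y, hy, h6⟩ := h5
    rw [hF, Pi.sub_apply, h6, show (1 : G → ℂ) g - 2 * y = 1 + 2 * (-y) by simp; ring]
    exact pow_two_pow_eq hy.neg e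
  choose! z hz hz' using h4
  have h5 := h3 (F ^ (2 ^ e - 1)) (A.pow_mem (A.sub_mem A.one_mem h2) _)
  rw [avg_congr (g := fun g => η g * conj (η g) + 2 ^ (e + 1) * (z g * (η g * conj (η g))))
    fun g hg => by
      rw [Pi.pow_apply, ← mul_assoc, ← mul_assoc, ← pow_succ', Nat.sub_add_cancel Nat.one_le_two_pow,
        hz' g hg]
      ring, avg_add, avg_mul, show avg _ _ = 1 from hη.inn_self, avg, hc] at h5
  have h6 : IsIntegral ℤ (∑ g ∈ fs (ev s K : Set G), z g * (η g * conj (η g))) :=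
    IsIntegral.sum _ fun g hg => (hz g (mem_fs.mp hg)).mul
      ((hη.ch.mul hη.ch.conj).isIntegral (mem_fs.mp hg))
  refine Nat.not_even_iff_odd.mpr hm (nat_mem_Ev.mp ?_)
  convert Ev.sub_mem (Ev_mul h5 (isIntegral_nat m)) (two_mul_mem_Ev h6) using 1
  have : (m : ℂ) ≠ 0 := Nat.cast_ne_zero.mpr hm.pos.ne'
  push_cast
  field_simp
  ring

end Cfsg.Agent.FSI
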