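import Cfsg.Agent.FSI.BW
import Cfsg.Agent.Char.Clifford
import Cfsg.Agent.Char.Gallagher

/-!
# Clifford reduction for twisted indicators
-/

set_option autoImplicit false
set_option linter.dupNamespace false

namespace Cfsg.Agent.FSI

open Cfsg Cfsg.Agent.Char
open scoped ComplexConjugate

variable {G : Type*} [Group G] {H T R : Subgroup G}

theorem Irr.sub {ψ : G → ℂ} (h : Irr T ψ) (hT : T ≤ H) :
    IsIrrCharacter (T.subgroupOf H) (fun x => ψ x) :=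
  h.c.comp_mulEquiv (Subgroup.subgroupOfEquivOfLe hT)

theorem irr_of_sub {ψ : G → ℂ} (hT : T ≤ H) (h : IsIrrCharacter (T.subgroupOf H) (fun x => ψ x)) :
    Irr T ψ :=
  h.comp_mulEquiv (Subgroup.subgroupOfEquivOfLe hT).symm

theorem normal_sub (hn : ∀ h ∈ H, ∀ r ∈ R, h * r * h⁻¹ ∈ R) : (R.subgroupOf H).Normal :=
  ⟨fun n hn' g => hn g g.2 n hn'⟩

variable [Finite G]

theorem inn_sub (hT : T ≤ H) [Fintype (T.subgroupOf H)] (α β : G → ℂ) :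
    inn T α β = classInner (fun x : T.subgroupOf H => α x) (fun x => β x) := by
  have := Fintype.ofFinite T
  rw [inn_eq, ← classInner_comp_mulEquiv (Subgroup.subgroupOfEquivOfLe hT)]
  rfl

theorem exists_between {η lam : G → ℂ} (hη : Ch H η) (hRT : R ≤ T) (hTH : T ≤ H)
    (h : inn R η lam ≠ 0) : ∃ ψ, Irr T ψ ∧ inn T η ψ ≠ 0 ∧ inn R ψ lam ≠ 0 := by
  by_contra hcon
  refine h ?_
  rw [inn, avg_congr (g := fun r => ∑ χ : IrrCharacter T, inn T η (ex χ) * (ex χ r * conj (lam r)))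
    fun r hr => by rw [(hη.mono hTH).eq_sum (hRT hr), Finset.sum_mul]; simp only [mul_assoc],
    avg_sum]
  refine Finset.sum_eq_zero fun χ _ => ?_
  rw [avg_mul]
  by_contra h1
  exact hcon ⟨_, irr_ex χ, left_ne_zero_of_mul h1, right_ne_zero_of_mul h1⟩

theorem exists_below {η : G → ℂ} (hη : Irr H η) (hRH : R ≤ H) :
    ∃ lam, Irr R lam ∧ inn R η lam ≠ 0 := by
  by_contra hcon
  refine hη.one_ne ?_
  rw [(hη.ch.mono hRH).eq_sum R.one_mem]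
  refine Finset.sum_eq_zero fun χ _ => ?_
  by_contra h1
  exact hcon ⟨_, irr_ex χ, left_ne_zero_of_mul h1⟩

theorem exists_conj_of_inn {η lam mu : G → ℂ} (hη : Irr H η) (hRH : R ≤ H)
    (hn : ∀ h ∈ H, ∀ r ∈ R, h * r * h⁻¹ ∈ R) (h1 : Irr R lam) (h2 : Irr R mu)
    (h3 : inn R η lam ≠ 0) (h4 : inn R η mu ≠ 0) :
    ∃ g ∈ H, ∀ r ∈ R, lam (g * r * g⁻¹) = mu r := by
  have := Fintype.ofFinite H
  have := Fintype.ofFinite (R.subgroupOf H)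
  have := normal_sub hn
  rw [inn_sub hRH] at h3 h4
  obtain ⟨g, hg⟩ := exists_conjChar_eq_of_inner_ne_zero (R.subgroupOf H) hη.c (h1.sub hRH)
    (h2.sub hRH) h3 h4
  exact ⟨g, g.2, fun r hr => congrFun hg ⟨⟨r, hRH hr⟩, hr⟩⟩

theorem res_eq_of_inv {η lam : G → ℂ} (hη : Irr H η) (hRH : R ≤ H)
    (hn : ∀ h ∈ H, ∀ r ∈ R, h * r * h⁻¹ ∈ R) (h1 : Irr R lam) (h3 : inn R η lam ≠ 0)
    (hi : ∀ h ∈ H, ∀ r ∈ R, lam (h * r * h⁻¹) = lam r) {r : G} (hr : r ∈ R) :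
    η r = inn R η lam * lam r := by
  have := Fintype.ofFinite H
  have := Fintype.ofFinite (R.subgroupOf H)
  have := normal_sub hn
  rw [inn_sub hRH] at h3 ⊢
  exact congrFun (clifford_invariant (R.subgroupOf H) hη.c (h1.sub hRH) h3
    fun g => funext fun n => hi g g.2 n n.2) ⟨⟨r, hRH hr⟩, hr⟩

theorem cliff {η lam ψ : G → ℂ} (hRT : R ≤ T) (hTH : T ≤ H)
    (hn : ∀ h ∈ H, ∀ r ∈ R, h * r * h⁻¹ ∈ R) (hl : Irr R lam)
    (hT : ∀ h ∈ H, (∀ r ∈ R, lam (h * r * h⁻¹) = lam r) → h ∈ T) (hη : Irr H η) (hψ : Irr T ψ)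
    (h1 : inn R ψ lam ≠ 0) (h2 : inn T η ψ ≠ 0) : inn T η ψ = 1 ∧
      ∀ φ, Irr T φ → inn R φ lam ≠ 0 → inn T η φ ≠ 0 → ∀ x ∈ T, φ x = ψ x := by
  have := Fintype.ofFinite H
  have := Fintype.ofFinite (R.subgroupOf H)
  have := Fintype.ofFinite (T.subgroupOf H)
  have := normal_sub hn
  have hRH := hRT.trans hTH
  have hNT : R.subgroupOf H ≤ T.subgroupOf H := fun x hx => hRT hx
  have hI : inertia (R.subgroupOf H) (fun x => lam x) ≤ T.subgroupOf H := fun g hg =>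
    hT g g.2 fun r hr => congrFun hg ⟨⟨r, hRH hr⟩, hr⟩
  rw [inn_sub hRH] at h1
  rw [inn_sub hTH] at h2 ⊢
  have h3 := (clifford_corr_eq hNT (hψ.sub hTH) (hl.sub hRH) hI h1 hη.c h2).1
  refine ⟨?_, fun φ hφ h4 h5 x hx => ?_⟩
  · have := inner_restrict_indFun_eq_one _ (h3 ▸ hη.c)
    rwa [h3] at this
  · rw [inn_sub hRH] at h4
    rw [inn_sub hTH] at h5
    exact (congrFun (clifford_corr_unique hNT (hψ.sub hTH) (hφ.sub hTH) (hl.sub hRH) hI h1 h4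
      (by rwa [h3])) ⟨⟨x, hTH hx⟩, hx⟩).symm

theorem inn_st' {α β : G → ℂ} (hα : Ch R α) (hβ : Ch R β) {t : G}
    (ht : ∀ r, t * r * t⁻¹ ∈ R ↔ r ∈ R) : inn R (st t α) (st t β) = inn R α β := by
  obtain ⟨m, hm⟩ := hα.exists_nat hβ
  rw [hm, ← Complex.conj_natCast, ← hm, inn, inn, conj_avg,
    ← avg_equiv (MulAut.conj t).toEquiv ht (fun h => conj (α h * conj (β h)))]
  simp [st]

omit [Finite G] in
theorem conj_mem_iff {K : Subgroup G} (hn : ∀ k ∈ K, ∀ r ∈ R, k * r * k⁻¹ ∈ R) {t : G}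
    (ht : t ∈ K) (r : G) : t * r * t⁻¹ ∈ R ↔ r ∈ R :=
  ⟨fun h => by simpa [mul_assoc] using hn _ (K.inv_mem ht) _ h, hn t ht r⟩

variable {s : G →* ℤˣ} {K M : Subgroup G}

/-- Reduction to the stabilizer of a real linear constituent. -/
theorem tw_ne_of_linear (hR : R ≤ ev s K) (hn : ∀ k ∈ K, ∀ r ∈ R, k * r * k⁻¹ ∈ R)
    {η lam : G → ℂ} (hη : Irr (ev s K) η) (hl : Irr R lam) (hl1 : ∀ r ∈ R, ‖lam r‖ = 1)
    (hlr : ∀ r ∈ R, conj (lam r) = lam r) (h1 : inn R η lam ≠ 0) (hM : M ≤ K)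
    (hM1 : ∀ m ∈ M, ∀ r ∈ R, lam (m * r * m⁻¹) = lam r)
    (hM2 : ∀ k ∈ K, (∀ r ∈ R, lam (k * r * k⁻¹) = lam r) → ∃ r ∈ R, ∃ m ∈ M, k = r * m)
    (hpos : Pos s M) : tw s K η ≠ -1 := fun h => by
  have h0 : tw s K η ≠ 0 := by rw [h]; norm_num
  have hi := inv_of_tw hη h0
  let T : Subgroup G :=
    { carrier := {k | k ∈ K ∧ ∀ r ∈ R, lam (k * r * k⁻¹) = lam r}
      one_mem' := ⟨K.one_mem, by simp⟩
      mul_mem' := fun {a b} ha hb => ⟨K.mul_mem ha.1 hb.1, fun r hr => by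
        rw [← hb.2 r hr, ← ha.2 _ (hn b hb.1 r hr)]; congr 1; group⟩
      inv_mem' := fun {a} ha => ⟨K.inv_mem ha.1, fun r hr => by
        rw [← ha.2 _ (hn _ (K.inv_mem ha.1) r hr)]; congr 1; group⟩ }
  have hTK : T ≤ K := fun x hx => hx.1
  have hRT : R ≤ ev s T := fun x hx => ⟨⟨(hR hx).1, fun r hr => hl.ch.conj_eq hx hr⟩, (hR hx).2⟩
  have hn0 : ∀ k ∈ ev s K, ∀ r ∈ R, k * r * k⁻¹ ∈ R := fun k hk => hn k hk.1
  have hst : ∀ t ∈ K, s t = -1 → ∀ φ, Ch R φ → inn R η (st t φ) = inn R η φ :=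
    fun t ht hs φ hφ => by
      rw [← inn_st' (hη.ch.mono hR) hφ (conj_mem_iff hn ht)]
      exact inn_congr (fun x hx => (hi.st_eq ht hs (hR hx)).symm) fun _ _ => rfl
  obtain ⟨t, ht, hs⟩ : HasOdd s T := by
    obtain ⟨t, ht, hs⟩ := hasOdd_of_tw h0
    obtain ⟨g, hg, e⟩ := exists_conj_of_inn hη hR hn0 hl
      (mu := st t lam) (hl.comp (MulAut.conj t).toMonoidHom (hn t ht) fun x hx =>
        ⟨t⁻¹ * x * t⁻¹⁻¹, hn _ (K.inv_mem ht) x hx, by simp [mul_assoc]⟩).conj h1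
      (by rwa [hst t ht hs lam hl.ch])
    refine ⟨t * g⁻¹, ⟨K.mul_mem ht (K.inv_mem hg.1), fun r hr => ?_⟩,
      by simp [hs, show s g = 1 from hg.2]⟩
    have h2 := hn _ (K.inv_mem hg.1) r hr
    have h3 := e _ h2
    rw [st, hlr _ (hn t ht _ h2)] at h3
    convert h3.symm using 2 <;> group
  obtain ⟨ψ, hψ, h2, h3⟩ := exists_between hη.ch hRT (ev_mono s hTK) h1
  obtain ⟨h4, h5⟩ := cliff hRT (ev_mono s hTK) hn0 hl
    (fun k hk hk' => ⟨⟨hk.1, hk'⟩, hk.2⟩) hη hψ h3 h2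
  have hiψ : Inv s T ψ := inv_of_st hψ.ch ht hs (h5 _ (hψ.st ht) (by
    rwa [inn_congr (α' := st t ψ) (β' := st t lam) (fun _ _ => rfl) fun r hr => by
      rw [st, ht.2 r hr, hlr r hr], inn_st' (hψ.ch.mono hRT) hl.ch (conj_mem_iff hn ht.1)]) (by
    rwa [inn_congr (α' := st t η) (β' := st t ψ)
      (fun x hx => (hi.st_eq ht.1 hs (ev_mono s hTK hx)).symm) fun _ _ => rfl,
      inn_st (hη.ch.mono (ev_mono s hTK)) hψ.ch ht]))
  have h6 := (tw_eq_of_odd hη hi hψ hiψ (MonoidHom.id G) (fun l hl => ⟨hTK hl, rfl⟩) ⟨t, ht, hs⟩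
    (m := 1) (h4.trans Nat.cast_one.symm) odd_one).symm.trans h
  have hMT : M ≤ T := fun m hm => ⟨hM hm, hM1 m hm⟩
  have h7 : ∀ r ∈ R, ψ r = inn R ψ lam * lam r := fun r hr =>
    res_eq_of_inv hψ hRT (fun k hk => hn k hk.1.1) hl h3 (fun k hk => hk.1.2) hr
  have h8 : Irr (ev s M) ψ := hψ.res_of_scalar (ev_mono s hMT) fun x hx => by
    obtain ⟨r, hr, m, hm, rfl⟩ := hM2 x hx.1.1 hx.1.2
    refine ⟨r, hRT hr, m, ⟨hm, ?_⟩, by
      rw [h7 r hr, h7 1 R.one_mem, norm_mul, norm_mul, hl1 r hr, hl1 1 R.one_mem], rfl⟩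
    have := hx.2
    simpa [show s r = 1 from (hR hr).2] using this
  refine hpos _ h8 (tw_comp hψ h6 (MonoidHom.id G) (fun l hl => ⟨hMT hl, rfl⟩) ?_ h8)
  obtain ⟨r, hr, m, hm, rfl⟩ := hM2 t ht.1 ht.2
  exact ⟨m, hm, by simpa [show s r = 1 from (hR hr).2] using hs⟩

end Cfsg.Agent.FSI
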