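import Cfsg.Agent.FSI.Real
import Cfsg.Agent.Class.Orth.OmegaCrit
import Cfsg.Agent.Class.FormBasis

/-!
# Reality in the commutator subgroup of an orthogonal group in characteristic two
-/

set_option autoImplicit false
set_option linter.dupNamespace false

namespace Cfsg.Agent.FSI

open Module Polynomial Cfsg.Agent.Class Cfsg.Agent.Class.Char2 Cfsg.Agent.Class.Wall
open LinearMap (fst snd)

variable {F V : Type*} [Field F] [AddCommGroup V] [Module F V] {B : LinearMap.BilinForm F V}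
  {Q : V → F} {g g' t t' : End F V} {α : F} {U P : Submodule F V}

theorem eq_zero_of_gen {x : V} {n : ℕ} (hx : (t ^ (n + 1)) x = 0) (hU : ∀ v ∈ U, t v ∈ U)
    (h0 : (t ^ n) x ∉ U) {v : V} (hv : v ∈ gen t x) (hv' : v ∈ U) : v = 0 := by
  have key : ∀ j ≤ n + 1, ∃ w ∈ gen t x, v = (t ^ j) w := fun j => by
    induction j with
    | zero => exact fun _ => ⟨v, hv, rfl⟩
    | succ j ih =>
      intro hj
      obtain ⟨w, hw, rfl⟩ := ih (by omega)
      obtain ⟨c, u, hu, rfl⟩ := exists_of_mem_gen hw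
      have h1 := pow_mem' hU (n - j) hv'
      rw [pow_pow, Nat.sub_add_cancel (by omega), map_add, pow_t, (nil_gen hx).zero u hu, add_zero,
        map_smul] at h1
      obtain rfl : c = 0 := by_contra fun hc => h0 ((U.smul_mem_iff hc).1 h1)
      exact ⟨u, hu, by rw [zero_smul, zero_add, pow_t]⟩
  obtain ⟨w, hw, rfl⟩ := key _ le_rfl
  exact (nil_gen hx).zero w hw

theorem exists_glue (h : IsCompl U P) (f f' : End F V) :
    ∃ θ : End F V, (∀ v ∈ U, θ v = f v) ∧ ∀ v ∈ P, θ v = f' v :=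
  ⟨LinearMap.ofIsCompl h (f.domRestrict U) (f'.domRestrict P),
    fun v hv => LinearMap.ofIsCompl_apply_left h ⟨v, hv⟩,
    fun v hv => LinearMap.ofIsCompl_apply_right h ⟨v, hv⟩⟩

theorem IV.adj (h : IV B Q g g') (j : ℕ) (x y : V) :
    B (((g' - 1) ^ j) x) y = B x (((g - 1) ^ j) y) := by
  induction j generalizing y with
  | zero => rfl
  | succ j ih =>
    rw [← t_pow, ← pow_t, ← ih, LinearMap.sub_apply, LinearMap.sub_apply, map_sub, map_sub,
      LinearMap.sub_apply, ← h.pres.map_B, h.apply]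
    rfl

variable [FiniteDimensional F V]

theorem finrank_gen {x y : V} {n : ℕ} (hx : (t ^ (n + 1)) x = 0) (h1 : B ((t ^ n) x) y ≠ 0) :
    finrank F (gen t x) = n + 1 := by
  have : Fr ((B.flip y).smulRight (B.flip y ∘ₗ (t ^ n))) t n (LinearMap.toSpanSingleton F V x)
      (gen t x) := ⟨nil_gen hx, fun e => Submodule.smul_mem _ e (mem_gen x),
    fun _ => exists_of_mem_gen, fun e he => by simpa [h1] using he x (mem_gen x)⟩
  simpa using this.finrank_eq

theorem exists_graph (h : OF B Q) (h2 : (2 : F) = 0) {S : Submodule F (V × V)}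
    (h1 : S.map (fst F V V) = ⊤) (h3 : S ≤ perp (prodB B B) S) :
    ∃ e : V ≃ₗ[F] V, (∀ a ∈ S, e a.1 = a.2) ∧ (∀ v, (v, e v) ∈ S) ∧
      ∀ u v, B (e u) (e v) = B u v := by
  obtain ⟨σ, hσ⟩ := ((fst F V V).domRestrict S).exists_rightInverse_of_surjective
    (by rw [LinearMap.range_domRestrict, h1])
  have k : ∀ a ∈ S, ∀ b ∈ S, B a.2 b.2 = B a.1 b.1 := fun a ha b hb => by
    have : B a.1 b.1 + B a.2 b.2 = 0 := h3 hb a ha
    linear_combination this - B a.1 b.1 * h2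
  have k1 : ∀ v, (σ v).1.1 = v := LinearMap.congr_fun hσ
  have hf : ∀ x y, B ((snd F V V ∘ₗ S.subtype ∘ₗ σ) x) ((snd F V V ∘ₗ S.subtype ∘ₗ σ) y) = B x y :=
    fun x y => (k _ (σ x).2 _ (σ y).2).trans (by rw [k1, k1])
  let e := LinearEquiv.ofInjectiveEndo _ (h.injective_of_preserves _ hf)
  refine ⟨e, fun a ha => sub_eq_zero.1 (h.nondeg _ fun y => ?_), fun v => ?_, hf⟩
  · obtain ⟨y, rfl⟩ := e.surjective y
    rw [map_sub, LinearMap.sub_apply, sub_eq_zero]
    exact (hf _ _).trans ((k a ha _ (σ y).2).trans (by rw [k1])).symm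
  · convert (σ v).2 using 1
    exact Prod.ext (k1 v).symm rfl

/-- An element of the centralizer with an odd number of moved dimensions. -/
theorem IV.exists_cent (h : IV B Q g g') {y z : V} {k N : ℕ} (hz : ((g - 1) ^ (2 * k + 1)) z = 0)
    (hy : ((g - 1) ^ (N + 1)) y = 0) (h1 : B (((g - 1) ^ (2 * k)) z) y ≠ 0)
    (h2 : ∀ j : ℕ, Q (((g - 1) ^ j) (y + z)) = Q (((g - 1) ^ j) y)) :
    ∃ e : V ≃ₗ[F] V, (∀ u, Q (e u) = Q u) ∧ (∀ v, e (g v) = g (e v)) ∧
      finrank F (LinearMap.range (LinearMap.id - e.toLinearMap)) = 2 * k + 1 := by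
  have k0 := h.st
  generalize ht : g - 1 = t at *
  have k1 := k0.prod k0
  have h3 : ∀ a : F, a + a = 0 := fun a => by linear_combination a * h.two
  have z1 : (t.prodMap t ^ (N + 2 * k + 1) : End F (V × V)) (y + z, y) = 0 := by
    rw [prodMap_pow, map_add, KSG.pow_apply_eq_zero_of_le (by omega) hz,
      KSG.pow_apply_eq_zero_of_le (by omega) hy, add_zero]; rfl
  have m1 := map_gen (t := t.prodMap t) (t' := t) (fst F V V) (fun _ => rfl) (y + z, y)
  have m2 := map_gen (t := t.prodMap t) (t' := t) (fst F V V - snd F V V)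
    (fun _ => by simp) (y + z, y)
  simp only [LinearMap.sub_apply, LinearMap.fst_apply, LinearMap.snd_apply,
    add_sub_cancel_left] at m1 m2
  let D := (perp B (gen t z)).map (LinearMap.id.prod LinearMap.id : V →ₗ[F] V × V)
  have h4 : gen (t.prodMap t) (y + z, y) ≤ perp (prodB B B) D := by
    rintro a ha _ ⟨w, hw, rfl⟩
    have := hw _ (m2 ▸ Submodule.mem_map_of_mem ha)
    simp only [LinearMap.sub_apply, LinearMap.fst_apply, LinearMap.snd_apply, map_sub,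
      k0.symm _ w] at this
    change B w a.1 + B w a.2 = 0
    linear_combination this + h3 (B w a.2)
  obtain ⟨e, e1, e2, -⟩ := exists_graph h.of h.two (S := D ⊔ gen (t.prodMap t) (y + z, y)) (by
    rw [Submodule.map_sup, m1, ← Submodule.map_comp, LinearMap.fst_prod, Submodule.map_id,
      ← h.of.perp_perp (_ ⊔ _), eq_top_iff]
    intro v _ u hu
    have h5 : u ∈ gen t z := h.of.perp_perp (gen t z) ▸ fun w hw => hu w (Submodule.mem_sup_left hw)
    rw [eq_zero_of_gen hz (U := perp B (gen t (y + z))) (fun _ => k0.perp_mem (nil_gen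
      (congrArg Prod.fst ((prodMap_pow _ _ _).symm.trans z1)))) (fun e => h1 (by
        simpa [k0.symm _ ((t ^ (2 * k)) z), k0.top_even hz] using e _ (mem_gen _))) h5
      fun w hw => hu w (Submodule.mem_sup_right hw), map_zero, LinearMap.zero_apply])
    (k1.sup_le_perp h4 (by rintro _ ⟨v, -, rfl⟩ _ ⟨w, -, rfl⟩; exact h3 _)
      (k1.gen_le_perp_self z1 fun j => by simp only [prodMap_pow, h2, h3]))
  refine ⟨e, fun u => ?_, fun v => ?_, ?_⟩
  · have : Q u + Q (e u) = 0 := k1.Q_eq_zero_of_sup h4 (by rintro _ ⟨v, -, rfl⟩; exact h3 _)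
      (k1.Q_eq_zero_of_gen z1 fun j => by simp only [prodMap_pow, h2, h3]) _ (e2 u)
    linear_combination this - h3 (Q u)
  · have : e (t v) = t (e v) := by
      obtain ⟨_, ⟨w, hw, rfl⟩, b, hb, h5⟩ := Submodule.mem_sup.1 (e2 v)
      refine e1 (t.prodMap t (v, e v)) (h5 ▸ map_add (t.prodMap t) _ b ▸ Submodule.add_mem_sup
        ⟨t w, k0.perp_mem (nil_gen hz) hw, rfl⟩ (t_mem_gen _ b hb))
    simpa [← ht] using this
  · rw [← finrank_gen hz h1, ← m2]
    refine congrArg (fun W : Submodule F V => finrank F W) (le_antisymm ?_ ?_)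
    · rintro _ ⟨v, rfl⟩
      obtain ⟨_, ⟨w, hw, rfl⟩, b, hb, h5⟩ := Submodule.mem_sup.1 (e2 v)
      exact ⟨b, hb, by simpa using congrArg (fst F V V - snd F V V) h5⟩
    · rintro _ ⟨b, hb, rfl⟩
      exact ⟨b.1, by simp [e1 b (Submodule.mem_sup_right hb)]⟩

/-- Data for an inverting isometry which transposes a bilinear form representing `Q`. -/
def Gd (B : LinearMap.BilinForm F V) (Q : V → F) (t t' : End F V) (P : Submodule F V) : Prop :=
  ∃ (S : Submodule F (V × V)) (θ : End F V), S.map (fst F V V) = P ∧ (∀ a ∈ S, a.2 ∈ P) ∧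
    (∀ a ∈ S, t.prodMap t' a ∈ S) ∧ S ≤ perp (prodB B B) S ∧ (∀ x ∈ P, B (θ x) x = Q x) ∧
    ∀ a ∈ S, (θ a.1, θ a.2 + a.2) ∈ S

omit [FiniteDimensional F V] in
theorem Gd.sup (h : St B Q t) (hU : Gd B Q t t' U) (hP : Gd B Q t t' P) (h3 : P ≤ perp B U)
    (h4 : IsCompl U (perp B U)) : Gd B Q t t' (U ⊔ P) := by
  obtain ⟨S, θ, rfl, a1, a2, a3, a4, a5⟩ := hU
  obtain ⟨T, φ, rfl, b1, b2, b3, b4, b5⟩ := hP
  obtain ⟨ψ, c1, c2⟩ := exists_glue h4 θ φ
  have d1 : ∀ a ∈ S, a.1 ∈ S.map (fst F V V) := fun a ha => ⟨a, ha, rfl⟩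
  have d2 : ∀ a ∈ T, a.1 ∈ perp B (S.map (fst F V V)) := fun a ha => h3 ⟨a, ha, rfl⟩
  refine ⟨S ⊔ T, ψ, Submodule.map_sup .., fun a ha => ?_, fun a ha => ?_,
    (h.prod h).sup_le_perp (fun v hv w hw => ?_) a3 b3, fun x hx => ?_, fun a ha => ?_⟩
  · obtain ⟨c, hc, b, hb, rfl⟩ := Submodule.mem_sup.1 ha
    exact Submodule.add_mem_sup (a1 c hc) (b1 b hb)
  · obtain ⟨c, hc, b, hb, rfl⟩ := Submodule.mem_sup.1 ha
    exact map_add (t.prodMap t') c b ▸ Submodule.add_mem_sup (a2 c hc) (b2 b hb)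
  · rw [prodB_apply, d2 v hv _ (d1 w hw), h3 (b1 v hv) _ (a1 w hw), add_zero]
  · obtain ⟨_, ⟨a, ha, rfl⟩, _, ⟨b, hb, rfl⟩, rfl⟩ := Submodule.mem_sup.1 hx
    simp only [LinearMap.fst_apply, map_add, LinearMap.add_apply, c1 _ (d1 a ha), c2 _ (d2 b hb),
      a4 _ (d1 a ha), b4 b.1 ⟨b, hb, rfl⟩, h.add, d2 b hb _ (d1 a ha), d2 b hb _ (d1 _ (a5 a ha)),
      h.symm (φ b.1) a.1, d2 _ (b5 b hb) _ (d1 a ha), add_zero, zero_add]
  · obtain ⟨c, hc, b, hb, rfl⟩ := Submodule.mem_sup.1 ha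
    convert Submodule.add_mem_sup (a5 c hc) (b5 b hb) using 1
    simp only [Prod.fst_add, Prod.snd_add, map_add, c1 _ (d1 c hc), c1 _ (a1 c hc),
      c2 _ (d2 b hb), c2 _ (h3 (b1 b hb)), Prod.mk_add_mk, add_add_add_comm]

theorem IV.gd_pair (h : IV B Q g g') {m : ℕ} (hb : IsBlk α B Q (g - 1) (.pair m false) U) :
    Gd B Q (g - 1) (g' - 1) U := by
  have hn := fun v => hb.nondeg h.st (v := v)
  obtain ⟨-, x, y, rfl, hx, hy, h1, h2, -⟩ := hb
  simp only [Bool.false_eq_true, and_false, if_false] at h1 h2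
  have k0 := h.st
  have k1 := k0.prod h.symm.st
  have p1 := k0.gen_le_perp_self hx fun _ => h1 _
  have p2 := k0.gen_le_perp_self hy fun _ => h2 _
  obtain ⟨C, c1, c2⟩ := Disjoint.exists_isCompl (a := gen (g - 1) y) (b := gen (g - 1) x)
    (Submodule.disjoint_def.2 fun v hv hv' => hn v (Submodule.mem_sup_left hv') fun w hw => by
      obtain ⟨a, ha, b, hb, rfl⟩ := Submodule.mem_sup.1 hw
      rw [map_add, LinearMap.add_apply, p1 hv' a ha, p2 hv b hb, add_zero])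
  obtain ⟨θ, d1, d2⟩ := exists_glue c2 0 1
  have z : ∀ {x y : V}, ((g - 1) ^ (m + 1)) x = 0 → ((g - 1) ^ (m + 1)) y = 0 →
      ((g - 1).prodMap (g' - 1) ^ (m + 1) : End F (V × V)) (x, y) = 0 := fun hx hy => by
    rw [prodMap_pow, hx, h.pow_zero hy]; rfl
  have m1 := map_gen (t := (g - 1).prodMap (g' - 1)) (t' := g - 1) (fst F V V) fun _ => rfl
  have m2 : ∀ {x y a}, a ∈ gen ((g - 1).prodMap (g' - 1)) (x, y) →
      a.1 ∈ gen (g - 1) x ∧ a.2 ∈ gen (g - 1) y := fun {x y a} ha =>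
    ⟨m1 (x, y) ▸ Submodule.mem_map_of_mem ha, h.gen_eq y ▸ map_gen (t := (g - 1).prodMap (g' - 1))
      (t' := g' - 1) (snd F V V) (fun _ => rfl) (x, y) ▸ Submodule.mem_map_of_mem ha⟩
  refine ⟨gen _ (x, y) ⊔ gen _ (y, x), θ, by rw [Submodule.map_sup, m1, m1]; rfl, fun a ha => ?_,
    ((nil_gen (z hx hy)).sup (nil_gen (z hy hx))).mem, k1.sup_le_perp
      (k1.gen_le_perp (z hx hy) fun j => ?_) (k1.gen_le_perp_self (z hx hy) fun j => ?_)
      (k1.gen_le_perp_self (z hy hx) fun j => ?_), fun v hv => ?_, fun a ha => ?_⟩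
  · obtain ⟨c, hc, b, hb, rfl⟩ := Submodule.mem_sup.1 ha
    exact add_mem (Submodule.mem_sup_right (m2 hc).2) (Submodule.mem_sup_left (m2 hb).2)
  · rw [prodMap_pow, prodB_apply, h.adj, k0.symm y]
    linear_combination B (((g - 1) ^ j) x) y * h.two
  · simp only [prodMap_pow, h.Q_pow, h1, h2, add_zero]
  · simp only [prodMap_pow, h.Q_pow, h1, h2, add_zero]
  · obtain ⟨a, ha, b, hb, rfl⟩ := Submodule.mem_sup.1 hv
    simp [d1 _ (c1 hb), d2 _ ha, k0.add, k0.Q_eq_zero_of_gen hx h1 a ha,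
      k0.Q_eq_zero_of_gen hy h2 b hb, k0.alt]
  · obtain ⟨c, hc, b, hb, rfl⟩ := Submodule.mem_sup.1 ha
    convert Submodule.mem_sup_left hc using 1
    simp [d1 _ (c1 (m2 hc).2), d1 _ (c1 (m2 hb).1), d2 _ (m2 hc).1, d2 _ (m2 hb).2, add_left_comm,
      add_self_eq h.two]

theorem IV.gd_dec (h : IV B Q g g') {s : Multiset Blk} (hP : Dec α B Q (g - 1) P s)
    (hs : ∀ b ∈ s, ∃ m, b = .pair m false) : Gd B Q (g - 1) (g' - 1) P := by
  induction hP with
  | nil => exact ⟨⊥, 0, by simp, by simp, by simp, bot_le, by simp [h.st.zero], by simp⟩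
  | cons h1 h2 _ ih =>
    obtain ⟨m, rfl⟩ := hs _ (Multiset.mem_cons_self ..)
    exact (h.gd_pair h1).sup h.st (ih fun b hb => hs b (Multiset.mem_cons_of_mem hb)) h2
      (h.of.isCompl_perp (eq_bot_iff.2 fun v hv => h1.nondeg h.st hv.1 hv.2))

theorem IV.gd_unit (h : IV B Q g g') (hU : ∀ v ∈ U, (g - 1) v ∈ U)
    (h0 : ∀ v ∈ U, (g - 1) v = 0 → v = 0) {e : End F V} (e1 : ∀ u v, B (e u) (e v) = B u v)
    (e2 : ∀ v, e (g v) = g' (e v)) (e3 : ∀ v ∈ U, e v ∈ U) : Gd B Q (g - 1) (g' - 1) U := by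
  let f := LinearEquiv.ofInjectiveEndo ((g - 1).restrict hU)
    ((injective_iff_map_eq_zero _).2 fun v hv => Subtype.ext (h0 v v.2 (congrArg Subtype.val hv)))
  obtain ⟨θ, hθ⟩ := LinearMap.exists_extend (U.subtype ∘ₗ f.symm.toLinearMap)
  have d1 : ∀ w ∈ U, θ (g w - w) = w := fun w hw =>
    (LinearMap.congr_fun hθ (f ⟨w, hw⟩)).trans (by simp)
  have d2 : ∀ v ∈ U, ∃ w ∈ U, g w - w = v := fun v hv =>
    ⟨_, (f.symm ⟨v, hv⟩).2, congrArg Subtype.val (f.apply_symm_apply ⟨v, hv⟩)⟩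
  refine ⟨U.map (LinearMap.id.prod e), θ, ?_, ?_, ?_, ?_, fun v hv => ?_, ?_⟩
  · rw [← Submodule.map_comp, LinearMap.fst_prod, Submodule.map_id]
  · rintro _ ⟨v, hv, rfl⟩
    exact e3 v hv
  · rintro _ ⟨v, hv, rfl⟩
    exact ⟨_, hU v hv, by simp [e2]⟩
  · rintro _ ⟨v, -, rfl⟩ _ ⟨w, -, rfl⟩
    change B w v + B (e w) (e v) = 0
    linear_combination e1 w v + B w v * h.two
  · obtain ⟨w, hw, rfl⟩ := d2 v hv
    rw [d1 w hw, h.st.symm]
    exact (h.st.inv w).symm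
  · rintro _ ⟨v, hv, rfl⟩
    obtain ⟨w, hw, rfl⟩ := d2 v hv
    have d3 : e (g w - w) = g (e (g w)) - e (g w) := by
      rw [map_sub, e2, h.apply]
      linear_combination (norm := module) add_self_eq h.two (g' (e w) - e w)
    refine ⟨w, hw, Prod.ext (d1 w hw).symm ?_⟩
    change e w = θ (e (g w - w)) + e (g w - w)
    rw [d3, d1 _ (e3 _ (by simpa using add_mem (hU w hw) hw)), e2, h.apply, add_sub_cancel]

/-- The alternative for the parity of inverting elements. -/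
theorem IV.exists_or [Finite F] (h : IV B Q g g') :
    (∃ e : V ≃ₗ[F] V, (∀ u, Q (e u) = Q u) ∧ (∀ v, e (g v) = g (e v)) ∧
      Odd (finrank F (LinearMap.range (LinearMap.id - e.toLinearMap)))) ∨
    ∃ (e : V ≃ₗ[F] V) (θ : End F V), (∀ u, Q (e u) = Q u) ∧ (∀ v, e (g v) = g' (e v)) ∧
      (∀ x, B (θ x) x = Q x) ∧ ∀ v, e (θ v) = θ (e v) + e v := by
  obtain ⟨α, -, hα⟩ := exists_alpha h.two
  have hk := (finrank F V).le_succ
  obtain ⟨-, s, h1, -⟩ := h.of.exists_code h.two h.pres hα hk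
  have k0 := h.st
  by_cases hs : ∀ b ∈ s, ∃ m, b = .pair m false
  · obtain ⟨e, e1, -, e2⟩ := h.exists_inv
    obtain ⟨a1, a2, a3⟩ := h.of.range_sup_ker h.pres hk
    have h2 := (h.gd_unit (e := e) (fun v hv => sub_mem (mem_range_aeval g _ v hv) hv)
      (fun v hv h0 => Submodule.disjoint_def.1 a1 v hv (by simp [← pow_t, h0])) e1 e2 (by
        rintro _ ⟨v, rfl⟩
        refine ⟨(g' ^ (finrank F V + 1)) (e v), ?_⟩
        rw [← KSG.aeval_comm_of_comm (f := g) (g' ^ (finrank F V + 1)) (fun v => LinearMap.congr_fun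
          (Commute.pow_left (h.mul'.trans h.mul.symm) (finrank F V + 1)).eq v)]
        refine Eq.trans ?_ (KSG.aeval_comm_of_comm e.toLinearMap e2 _ v).symm
        simp [h.pow_eq])).sup k0 (h.gd_dec h1 hs) a2
      (h.of.isCompl_perp (h.pres.inf_perp_range h.of (by simp) (fit_pow_finrank g _ hk)))
    rw [a3] at h2
    obtain ⟨S, θ, b1, -, b2, b3, b4, b5⟩ := h2
    obtain ⟨e, c1, c2, c3⟩ := exists_graph h.of h.two b1 b3
    have c4 : ∀ v, e (θ v) = θ (e v) + e v := fun v => c1 _ (b5 _ (c2 v))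
    refine Or.inr ⟨e, θ, fun u => ?_, fun v => by simpa using c1 _ (b2 _ (c2 v)),
      fun x => b4 x trivial, c4⟩
    rw [← b4 u trivial, ← c3, c4, map_add, LinearMap.add_apply, k0.alt, add_zero, b4 _ trivial]
  push Not at hs
  obtain ⟨b, hb, h2⟩ := hs
  obtain ⟨U, -, h3, -⟩ := h1.inv k0 hb
  suffices ∃ (y z : V) (k N : ℕ), ((g - 1) ^ (2 * k + 1)) z = 0 ∧ ((g - 1) ^ (N + 1)) y = 0 ∧
      B (((g - 1) ^ (2 * k)) z) y ≠ 0 ∧ ∀ j : ℕ, Q (((g - 1) ^ j) (y + z)) = Q (((g - 1) ^ j) y) by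
    obtain ⟨y, z, k, N, a1, a2, a3, a4⟩ := this
    obtain ⟨e, e1, e2, e3⟩ := h.exists_cent a1 a2 a3 a4
    exact Or.inl ⟨e, e1, e2, e3 ▸ odd_two_mul_add_one k⟩
  obtain ⟨k, β⟩ | ⟨m, _ | _⟩ := b
  · obtain ⟨x, -, hx, h4⟩ := h3
    refine ⟨x, (g - 1) x, k, _, by rwa [pow_t], hx, by rw [pow_t, ← k0.Q_top hx, h4]; simp,
      fun j => ?_⟩
    rw [← h.pres.map_Q (((g - 1) ^ j) x), ← End.mul_apply g,
      (Commute.pow_right (Commute.sub_right (.refl g) (.one_right g)) j).eq]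
    simp
  · exact (h2 m rfl).elim
  obtain ⟨h4, x, y, -, hx, hy, h5, h6, h7⟩ := h3
  obtain ⟨k, rfl⟩ := (even_iff_exists_two_mul.1 (h4 rfl))
  obtain ⟨v, hv, h8⟩ := k0.exists_Q_eq (nil_gen hx) (x := y + x) (mem_gen x)
    (by simp [k0.top_even hx, k0.top_symm hy, h7]) (J := k) (by omega)
    fun i hi => k0.Q_zero hx (by omega)
  have h9 := (nil_gen hx).zero v hv
  refine ⟨y, x + (g - 1) v, k, _, (nil_gen hx).zero _ (add_mem (mem_gen x) (t_mem_gen x v hv)), hy,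
    by rw [map_add, pow_t, h9]; simp [h7], fun j => ?_⟩
  rw [← add_assoc, h8, h6]
  rcases lt_trichotomy j k with hj | rfl | hj
  · simp [hj, hj.ne]
  · rw [if_neg (lt_irrefl _), map_add, k0.add, h5, h6, k0.symm, k0.top_of_eq hy (two_mul j).symm, h7]
    simp [add_assoc, add_self_eq h.two]
  · rw [if_neg hj.not_gt, if_neg fun e => by omega]
    exact k0.Q_zero (n := 2 * k) (by rw [map_add, hx, hy, add_zero]) (by omega)

section Orth

open Cfsg.Agent.Class.Orth QuadraticMap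

variable {Q : QuadraticForm F V} {θ : End F V}

omit [FiniteDimensional F V] in
theorem polarize (hθ : ∀ x, polar Q (θ x) x = Q x) (x y : V) :
    polar Q (θ x) y + polar Q (θ y) x = polar Q x y := by
  have := hθ (x + y)
  rw [map_add, polar_add_left, polar_add_right, polar_add_right, hθ, hθ, Q_add] at this
  linear_combination this

theorem trace_eq_half (h2 : (2 : F) = 0) (hQ : ND Q) (hθ : ∀ x, polar Q (θ x) x = Q x) {m : ℕ}
    (hm : finrank F V = 2 * m) : LinearMap.trace F V θ = m := by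
  obtain ⟨n, b, h1, h3, h4, h5⟩ := exists_symplectic_basis (polarBilin Q)
    (fun x => by simp [h2]) hQ
  obtain rfl : n = m := by omega
  simp only [polarBilin_apply_apply] at h3 h4 h5
  have k1 : ∀ i v, b.repr v (.inl i) = polar Q v (b (.inr i)) := fun i => LinearMap.congr_fun
    (b.ext (f₁ := b.coord (.inl i)) (f₂ := (polarBilin Q).flip (b (.inr i))) (by
      rintro (j | j) <;> simp [h3, h5, Finsupp.single_apply]))
  have k2 : ∀ i v, b.repr v (.inr i) = polar Q v (b (.inl i)) := fun i => LinearMap.congr_fun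
    (b.ext (f₁ := b.coord (.inr i)) (f₂ := (polarBilin Q).flip (b (.inl i))) (by
      rintro (j | j) <;> simp [h3, h4, Finsupp.single_apply, polar_comm Q (b (.inr _)), eq_comm]))
  simp [LinearMap.trace_eq_matrix_trace F b, Matrix.trace, LinearMap.toMatrix_apply, k1, k2,
    ← Finset.sum_add_distrib, polarize hθ, h3]

theorem trace_conj_eq (h2 : (2 : F) = 0) (hQ : ND Q) (hr : ReflGen Q)
    (hθ : ∀ x, polar Q (θ x) x = Q x) (k : OG Q) :
    LinearMap.trace F V (k.1.toLinearMap * θ * (k⁻¹).1.toLinearMap * θ) =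
      LinearMap.trace F V (θ * θ) + finrank F (mov k) := by
  induction k using hr.induction with
  | h1 =>
    rw [mov_one, finrank_bot, inv_one, Nat.cast_zero, add_zero]
    exact congrArg _ (LinearMap.ext fun _ => rfl)
  | hs v k hv ih =>
    have h3 : (finrank F (mov (refl Q v * k)) : F) = finrank F (mov k) + 1 := by
      rcases finrank_mov_refl_mul hQ k hv with e | e <;> rw [e] <;> push_cast
      exacts [by linear_combination -h2, rfl]
    have h4 : ∀ x, polar Q ((k.1.toLinearMap * θ * (k⁻¹).1.toLinearMap) x) x = Q x := fun x => by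
      simp only [End.mul_apply, LinearEquiv.coe_coe]
      rw [OG.polar_apply_left, hθ, OG.map_Q]
    rw [h3, ← add_assoc, ← ih]
    generalize hA : k.1.toLinearMap * θ * (k⁻¹).1.toLinearMap = A at h4
    let φ := (Q v)⁻¹ • (polarBilin Q).flip v
    have h5 : (refl Q v * k).1.toLinearMap * θ * ((refl Q v * k)⁻¹).1.toLinearMap * θ =
        A * θ - (φ ∘ₗ θ).smulRight (A v) - (φ ∘ₗ A ∘ₗ θ).smulRight v +
          φ (A v) • (φ ∘ₗ θ).smulRight v := by
      ext x
      simp only [mul_inv_rev, refl_inv, ← hA, End.mul_apply, LinearEquiv.coe_coe, OG.mul_apply,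
        refl_apply, φ, map_sub, map_smul, LinearMap.add_apply,
        LinearMap.sub_apply, LinearMap.smul_apply, LinearMap.smulRight_apply,
        LinearMap.comp_apply, LinearMap.flip_apply, polarBilin_apply_apply, smul_eq_mul]
      module
    rw [h5]
    simp only [map_add, map_sub, map_smul, LinearMap.trace_smulRight, φ, LinearMap.comp_apply,
      LinearMap.smul_apply, LinearMap.flip_apply, polarBilin_apply_apply, smul_eq_mul, hθ, h4,
      inv_mul_cancel₀ hv]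
    have h6 := polarize h4 (θ v) v
    have h7 := polarize hθ (A v) v
    rw [hθ, polar_comm Q (A v)] at h6
    rw [h4] at h7
    linear_combination (-(Q v)⁻¹) * (h6 + h7) - 2 * inv_mul_cancel₀ hv +
      ((Q v)⁻¹ * polar Q (θ v) (A v) - 1) * h2

omit [FiniteDimensional F V] in
theorem iv_OG (h2 : (2 : F) = 0) (hQ : ND Q) (g : OG Q) :
    IV (polarBilin Q) Q g.1.toLinearMap (g⁻¹).1.toLinearMap :=
  ⟨isFormed_of_quadratic Q ((nd_iff Q).1 hQ), h2, ⟨OG.map_polar g, OG.map_Q g⟩,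
    LinearMap.ext (OG.apply_inv_apply g), LinearMap.ext (OG.inv_apply_apply g)⟩

variable [Finite F]

theorem exists_inv_OG (h2 : (2 : F) = 0) (hQ : ND Q) (g : OG Q) : ∃ k, k * g * k⁻¹ = g⁻¹ := by
  obtain ⟨e, -, e1, e2⟩ := (iv_OG h2 hQ g).exists_inv
  exact ⟨⟨e, e1⟩, mul_inv_eq_iff_eq_mul.2 (OG.ext e2)⟩

theorem exists_inv_commutator (h2 : (2 : F) = 0) (hQ : ND Q) (hr : ReflGen Q) {m : ℕ}
    (hm : finrank F V = 4 * m) (g : OG Q) : ∃ k ∈ commutator (OG Q), k * g * k⁻¹ = g⁻¹ := by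
  have : CharP F 2 := CharTwo.of_one_ne_zero_of_two_eq_zero one_ne_zero h2
  obtain ⟨e, e1, e2, e3⟩ | ⟨e, θ, e1, e2, e3, e4⟩ := (iv_OG h2 hQ g).exists_or
  · obtain ⟨k, hk⟩ := exists_inv_OG h2 hQ g
    by_cases h3 : k ∈ commutator (OG Q)
    · exact ⟨k, h3, hk⟩
    have h4 : (⟨e, e1⟩ : OG Q) * g = g * ⟨e, e1⟩ := OG.ext e2
    refine ⟨k * ⟨e, e1⟩, ?_, by rw [mul_assoc k, h4, ← hk]; group⟩
    rw [commutator_eq_ker_dickson hQ hr h2, MonoidHom.mem_ker] at h3 ⊢
    rw [map_mul]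
    have h5 : Odd (finrank F (mov (⟨e, e1⟩ : OG Q))) := e3
    exact intUnits_mul_eq_one _ _ h3 fun h =>
      Nat.not_even_iff_odd.2 h5 ((dickson_eq_one_iff hQ hr _).1 h)
  obtain ⟨k, rfl⟩ : ∃ k : OG Q, k.1 = e := ⟨⟨e, e1⟩, rfl⟩
  refine ⟨k, (mem_commutator_iff_even hQ hr h2 _).2 ?_, mul_inv_eq_iff_eq_mul.2 (OG.ext e2)⟩
  have h3 := trace_conj_eq h2 hQ hr e3 k
  rw [show k.1.toLinearMap * θ * (k⁻¹).1.toLinearMap = θ + 1 from
    LinearMap.ext fun v => (e4 _).trans (by simp), add_mul, one_mul, map_add,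
    add_right_inj, trace_eq_half h2 hQ e3 (m := 2 * m) (by omega), Nat.cast_mul, Nat.cast_two, h2,
    zero_mul] at h3
  exact even_iff_two_dvd.2 ((CharP.cast_eq_zero_iff F 2 _).1 h3.symm)

end Orth

end Cfsg.Agent.FSI
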