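import Cfsg.Agent.FSI.Geo4
import Cfsg.Agent.FSI.RealOm
import Cfsg.Agent.Char.Restrict

/-!
# Frobenius-Schur indicators of orthogonal and symplectic groups in characteristic two
-/

set_option autoImplicit false
set_option linter.dupNamespace false

namespace Cfsg.Agent.FSI

open Cfsg Cfsg.Agent.Char Cfsg.Agent.Class Cfsg.Agent.Class.Orth QuadraticMap Module

section Abstract

variable {G : Type*} [Group G] [Fintype G] {χ : G → ℂ}

theorem real_of_inv (h : ∀ g : G, ∃ k, k * g * k⁻¹ = g⁻¹) (hχ : IsIrrCharacter G χ) (g : G) :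
    (χ g).im = 0 := by
  obtain ⟨k, hk⟩ := h g
  rw [← Complex.conj_eq_iff_im, ← hχ.map_inv, ← hk]
  exact hχ.isClassFunction g k

theorem fsInd_eq_one_of_pos (h : Pos (MonoidHom.snd G ℤˣ) ⊤)
    (h' : ∀ g : G, ∃ k, k * g * k⁻¹ = g⁻¹) (hχ : IsIrrCharacter G χ) : fsInd χ = 1 := by
  classical
  refine (fsInd_eq_one_or_of_real hχ (real_of_inv h' hχ)).resolve_right fun e => ?_
  let f : ev (MonoidHom.snd G ℤˣ) ⊤ →* G := (MonoidHom.fst _ _).comp (Subgroup.subtype _)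
  have hf : Function.Surjective f := fun g => ⟨⟨(g, 1), trivial, rfl⟩, rfl⟩
  refine h (fun x => χ x.1) (hχ.comp_surjective f hf) ?_
  rw [tw_eq (t := (1, -1)) (Subgroup.mem_top _) rfl, ← e, ← fsInd_comp_surjective f hf]
  exact (avg_congr fun x _ => by simp).trans (avg_sq_eq _ fun x : G × ℤˣ => χ x.1)

theorem fsInd_eq_one_of_index_two (N : Subgroup G) [N.Normal] [Fintype N] (hN : N.index = 2)
    (h : ∀ χ, IsIrrCharacter G χ → fsInd χ = 1) (h' : ∀ g : N, ∃ k, k * g * k⁻¹ = g⁻¹)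
    {η : N → ℂ} (hη : IsIrrCharacter N η) : fsInd η = 1 := by
  obtain ⟨χ, hχ, h1⟩ := exists_irr_over N hη
  obtain ⟨m, hm⟩ := (hχ.isCharacter.comp N.subtype).exists_nat_inner hη.isCharacter
  have h2 := inner_restrict_re_le N χ
  have hm' : classInner (fun n : N => χ n) η = m := hm
  rw [clifford_inner_self N hχ hη h1, hm', hχ.inner_self, hN] at h2
  have h3 : m ^ 2 * (inertia N η).index ≤ 2 := by
    norm_cast at h2
  have h4 : m ≠ 0 := by rintro rfl; exact h1 (by simpa using hm')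
  have h5 := Nat.pos_of_ne_zero (Subgroup.index_ne_zero_of_finite (H := inertia N η))
  obtain rfl : m = 1 := by
    by_contra h6
    have : 2 ≤ m := by omega
    nlinarith
  exact (fsInd_eq_of_odd_inner hχ hη (real_of_fsInd_eq_one hχ (h χ hχ)) (real_of_inv h' hη)
    N.subtype odd_one hm).symm.trans (h χ hχ)

theorem fsInd_of_equiv {H : Type*} [Group H] [Fintype H] (e : H ≃* G)
    (h : ∀ χ, IsIrrCharacter H χ → fsInd χ = 1) (hχ : IsIrrCharacter G χ) :
    (Nat.card G : ℂ)⁻¹ * ∑ᶠ s : G, χ (s * s) = 1 := by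
  rw [finsum_eq_sum_of_fintype, ← fsInd_def, ← fsInd_comp_mulEquiv e, h _ (hχ.comp_mulEquiv e)]

end Abstract

variable {F V : Type*} [Field F] [Finite F] [AddCommGroup V] [Module F V] [FiniteDimensional F V]
  {Q : QuadraticForm F V}

theorem fsInd_OG (h2 : (2 : F) = 0) (hQ : ND Q) [Fintype (OG Q)] (χ : OG Q → ℂ)
    (hχ : IsIrrCharacter _ χ) : fsInd χ = 1 :=
  fsInd_eq_one_of_pos (by
    convert pos_vec h2 hQ 0
    ext k; simp [mem_KR_bot]) (exists_inv_OG h2 hQ) hχ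

theorem fsInd_commutator (h2 : (2 : F) = 0) (hQ : ND Q) {m : ℕ} (hm : finrank F V = 4 * m)
    (hm' : 2 ≤ m) [Fintype (commutator (OG Q))] (χ : commutator (OG Q) → ℂ)
    (hχ : IsIrrCharacter _ χ) : fsInd χ = 1 := by
  have := Fintype.ofFinite (OG Q)
  have hr := hQ.reflGen (Or.inr (by omega))
  refine fsInd_eq_one_of_index_two _ (index_commutator_even hQ hr h2 (by omega)) (fsInd_OG h2 hQ)
    (fun g => ?_) hχ
  obtain ⟨k, hk, e⟩ := exists_inv_commutator h2 hQ hr hm g.1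
  exact ⟨⟨k, hk⟩, Subtype.ext e⟩

instance finite_isom {B : LinearMap.BilinForm F V} {q : V → F} : Finite (Isom B q) := by
  have := Module.finite_of_finite F (M := V)
  exact Finite.of_injective (fun g : Isom B q => (g.1 : V → V))
    fun _ _ h => Isom.ext' (congrFun h)

theorem pos_Sp (h2 : (2 : F) = 0) (hQ : ND Q) :
    Pos (MonoidHom.snd (Isom (polarBilin Q) fun _ => 0) ℤˣ) ⊤ := by
  have hQ' := hQ.prod' (nd_plusQF 1 F)
  have h0 := isFormed_of_quadratic Q ((nd_iff Q).1 hQ)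
  have h1 : ∀ c d : F, polar (plusQF 1 F) (c • 1) (d • 1) = 0 := fun c d => by
    simp only [polar_plusQF, Pi.smul_apply, Pi.one_apply, Finset.sum_const]
    simp only [← two_mul, h2, zero_mul, smul_zero]
  have h3 : ∀ k : KR (Q.prod (plusQF 1 F)) ⊥ ∅ {(0, 1)}, k.1.1.1 (0, 1) = (0, 1) := fun k =>
    k.2.2.2 _ rfl
  have h4 : ∀ (k : KR (Q.prod (plusQF 1 F)) ⊥ ∅ {(0, 1)}) (v : V),
      ∃ c : F, (k.1.1.1 (v, 0)).2 = c • 1 := fun k v => by
    have := OG.map_polar k.1.1 (v, 0) (0, 1)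
    rw [h3] at this
    simp only [polar_prod, polar_zero_right, polar_zero_left, polar_plusQF, zero_add, add_zero,
      Fin.sum_univ_one, Pi.one_apply, mul_one] at this
    refine ⟨(k.1.1.1 (v, 0)).2 (.inl 0), funext ?_⟩
    rintro (i | i) <;> obtain rfl := Subsingleton.elim i 0 <;> simp
    linear_combination this - (k.1.1.1 (v, 0)).2 (.inl 0) * h2
  have h5 : ∀ k : KR (Q.prod (plusQF 1 F)) ⊥ ∅ {(0, 1)}, Wall.Pres (polarBilin Q) (fun _ => 0)
      (LinearMap.fst F _ _ ∘ₗ k.1.1.1.toLinearMap ∘ₗ LinearMap.inl F _ _) := fun k =>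
    ⟨fun x y => by
      obtain ⟨c, hc⟩ := h4 k x
      obtain ⟨d, hd⟩ := h4 k y
      have := OG.map_polar k.1.1 (x, 0) (y, 0)
      rw [polar_prod, polar_prod, hc, hd, h1] at this
      simpa using this, fun _ => rfl⟩
  refine (pos_vec h2 hQ' (0, 1)).top.of_surj (MonoidHom.mk' (fun k => ((h5 k).toIsom h0.nd, k.1.2))
    fun k l => Prod.ext (Isom.ext' fun v => ?_) rfl) (fun _ _ => ⟨trivial, rfl⟩) fun s _ => ?_
  · obtain ⟨c, hc⟩ := h4 l v
    change (k.1.1.1 (l.1.1.1 (v, 0))).1 = (k.1.1.1 ((l.1.1.1 (v, 0)).1, 0)).1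
    conv_lhs => rw [show l.1.1.1 (v, 0) = ((l.1.1.1 (v, 0)).1, 0) + c • (0, 1) from
      Prod.ext (by simp) (by simp [hc]), map_add, map_smul, h3]
    simp
  choose r hr using fun x => Symm2.exists_sq_eq h2 (Q (s.1.1 x) + Q x)
  have h6 : ∀ x y, polar Q (s.1.1 x) (s.1.1 y) = polar Q x y := Isom.map_B s.1
  let φ : V →ₗ[F] F :=
    { toFun := r
      map_add' := fun x y => Symm2.eq_of_sq_eq h2 (by
        rw [hr, add_sq, hr, hr, map_add, Q_add, Q_add, h6]
        linear_combination (polar Q x y - r x * r y) * h2)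
      map_smul' := fun c x => Symm2.eq_of_sq_eq h2 (by
        rw [hr, RingHom.id_apply, smul_eq_mul, mul_pow, hr, map_smul, Q_smul, Q_smul]
        ring) }
  let X : Submodule F (V × (Fin 1 ⊕ Fin 1 → F)) := Submodule.prod ⊤ (Submodule.span F {1})
  obtain ⟨g, -, g1, g2⟩ := (isFormed_of_quadratic _ ((nd_iff _).1 hQ')).witt_map X
    ((s.1.1.toLinearMap ∘ₗ LinearMap.fst F _ _).prod
      (LinearMap.snd F _ _ + (φ ∘ₗ LinearMap.fst F _ _).smulRight 1))
    (fun x _ hx => by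
      have h7 : x.1 = 0 := s.1.1.map_eq_zero_iff.1 (congrArg Prod.fst hx)
      exact Prod.ext h7 (by simpa [h7] using congrArg Prod.snd hx))
    (fun x hx y hy => by
      obtain ⟨c, hc⟩ := Submodule.mem_span_singleton.1 hx.2
      obtain ⟨d, hd⟩ := Submodule.mem_span_singleton.1 hy.2
      simp [h6, ← hc, ← hd, ← add_smul, h2])
    (fun x hx => by
      obtain ⟨c, hc⟩ := Submodule.mem_span_singleton.1 hx.2
      have := hr x.1
      simp [← hc, plusQF_apply, quadFormPlus, φ]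
      linear_combination this + (c * r x.1 + Q (s.1.1 x.1)) * h2)
  refine ⟨⟨(⟨g, g1⟩, s.2), mem_KR_bot.2 ⟨by simp, ?_⟩⟩, trivial, Prod.ext (Isom.ext' fun v => ?_) rfl⟩
  · rintro _ rfl
    exact (g2 _ ⟨trivial, Submodule.mem_span_singleton_self _⟩).trans (by simp)
  · exact congrArg Prod.fst (g2 (v, 0) ⟨trivial, zero_mem _⟩)

theorem fsInd_Sp (h2 : (2 : F) = 0) (hQ : ND Q) [Fintype (Isom (polarBilin Q) fun _ => 0)]
    (χ : Isom (polarBilin Q) (fun _ => 0) → ℂ) (hχ : IsIrrCharacter _ χ) : fsInd χ = 1 := by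
  refine fsInd_eq_one_of_pos (pos_Sp h2 hQ) (fun g => ?_) hχ
  obtain ⟨Q₁, h1, h3⟩ := Char2.OF.exists_pres (isFormed_of_quadratic Q ((nd_iff Q).1 hQ)) h2
    (g := g.1.toLinearMap) (Isom.map_B g)
  obtain ⟨e, e1, -, e2⟩ := IV.exists_inv (g' := (g⁻¹).1.toLinearMap) ⟨h1, h2, h3,
    LinearMap.ext (Isom.apply_inv_apply g), LinearMap.ext (Isom.inv_apply_apply g)⟩
  exact ⟨⟨e, e1, fun _ => rfl⟩, mul_inv_eq_iff_eq_mul.2 (Isom.ext' e2)⟩

end Cfsg.Agent.FSI
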