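import Cfsg.Agent.FSI.Heis
import Cfsg.Agent.Class.Orth.OmegaCrit

/-!
# Twisted centralizers in orthogonal groups: definitions, restriction and splitting
-/

set_option autoImplicit false
set_option linter.dupNamespace false

namespace Cfsg.Agent.FSI

open Cfsg Cfsg.Agent.Class.Orth QuadraticMap Module

section Abstract

variable {G : Type*} [Group G] [Finite G] {s : G →* ℤˣ} {K : Subgroup G}

theorem Pos.top (h : Pos s K) : Pos (s.comp K.subtype) ⊤ := fun η hη h1 => by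
  have h0 : tw (s.comp K.subtype) ⊤ η ≠ 0 := by rw [h1]; norm_num
  have hi := inv_of_tw hη h0
  have h2 : Irr (ev s K) (extendByZero K η) := by
    have := Char.Cfsg.IsIrrCharacter.comp_surjective hη.c (H := ev s K)
      ((Subgroup.inclusion (ev_le s K)).codRestrict _ fun x => ⟨trivial, x.2.2⟩)
      fun x => ⟨⟨x.1, x.1.2, x.2.2⟩, rfl⟩
    unfold Irr
    convert this using 2 with x
    exact Char.extendByZero_of_mem _ _ x.2.1
  refine h _ h2 ((tw_eq_of_odd h2 (fun t ht hs g hg => ?_) hη hi K.subtype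
    (fun l _ => ⟨l.2, rfl⟩) (hasOdd_of_tw h0) (m := 1) ?_ odd_one).trans h1)
  · rw [Char.extendByZero_of_mem _ _ hg.1, Char.extendByZero_of_mem _ _ (conj_mem_ev ht hg).1]
    exact hi ⟨t, ht⟩ trivial hs ⟨g, hg.1⟩ ⟨trivial, hg.2⟩
  · rw [Nat.cast_one, ← hη.inn_self]
    exact inn_congr (fun x _ => Char.extendByZero_coe _ _ _) fun _ _ => rfl

theorem pos_of_mul {A : Type*} [Group A] [Finite A] {K K₁ K₂ : Subgroup (A × ℤˣ)}
    (h₁ : Pos (MonoidHom.snd A ℤˣ) K₁) (h₂ : Pos (MonoidHom.snd A ℤˣ) K₂)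
    (hc : ∀ x ∈ K₁, ∀ y ∈ K₂, x.1 * y.1 = y.1 * x.1)
    (hm : ∀ x ∈ K₁, ∀ y ∈ K₂, x.2 = y.2 → (x.1 * y.1, x.2) ∈ K)
    (hs : ∀ k ∈ K, ∃ a b, (a, k.2) ∈ K₁ ∧ (b, k.2) ∈ K₂ ∧ a * b = k.1) :
    Pos (MonoidHom.snd A ℤˣ) K := by
  refine (h₁.fib h₂).top.of_surj
    (MonoidHom.mk' (fun x => (x.1.1.1 * x.1.2.1, x.1.1.2)) fun x y => Prod.ext ?_ rfl)
    (fun l _ => ⟨hm _ (mem_fib.mp l.2).1 _ (mem_fib.mp l.2).2.1 (mem_fib.mp l.2).2.2, rfl⟩)
    fun k hk => ?_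
  · change (x.1.1.1 * y.1.1.1) * (x.1.2.1 * y.1.2.1) = (x.1.1.1 * x.1.2.1) * (y.1.1.1 * y.1.2.1)
    rw [mul_assoc, mul_assoc, ← mul_assoc y.1.1.1, hc _ (mem_fib.mp y.2).1 _ (mem_fib.mp x.2).2.1,
      mul_assoc]
  · obtain ⟨a, b, ha, hb, e⟩ := hs k hk
    exact ⟨⟨((a, k.2), (b, k.2)), mem_fib.mpr ⟨ha, hb, rfl⟩⟩, trivial, Prod.ext e rfl⟩

end Abstract

variable {F V : Type*} [Field F] [AddCommGroup V] [Module F V] {Q : QuadraticForm F V}

/-- The sign on the ambient group. -/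
abbrev sn (Q : QuadraticForm F V) : OG Q × ℤˣ →* ℤˣ := MonoidHom.snd _ _

/-- Signed isometries fixing `D` and `T` and twisting the relations `R` on `D^⊥`. -/
def KR (Q : QuadraticForm F V) (D : Submodule F V) (R : Set (ℤˣ → Module.End F V)) (T : Set V) :
    Subgroup (OG Q × ℤˣ) where
  carrier := {k | k.1 ∈ fixer Q D ∧
    (∀ p ∈ R, ∀ ε, ∀ x ∈ perp Q D, k.1.1 (p ε x) = p (k.2 * ε) (k.1.1 x)) ∧ ∀ t ∈ T, k.1.1 t = t}
  one_mem' := ⟨one_mem _, fun p _ ε x _ => by simp, fun _ _ => rfl⟩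
  mul_mem' := fun {k l} hk hl => ⟨mul_mem hk.1 hl.1, fun p hp ε x hx => by
    rw [Prod.fst_mul, OG.mul_apply, hl.2.1 p hp ε x hx, hk.2.1 p hp _ _ (fixer_map_perp hl.1 hx),
      Prod.snd_mul, mul_assoc, OG.mul_apply], fun t ht => by
    rw [Prod.fst_mul, OG.mul_apply, hl.2.2 t ht, hk.2.2 t ht]⟩
  inv_mem' := fun {k} hk => ⟨inv_mem hk.1, fun p hp ε x hx => by
    rw [Prod.fst_inv, OG.inv_apply_eq_iff, hk.2.1 p hp _ _ (fixer_map_perp (inv_mem hk.1) hx),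
      Prod.snd_inv, mul_inv_cancel_left, OG.apply_inv_apply], fun t ht => by
    rw [Prod.fst_inv, OG.inv_apply_eq_iff, hk.2.2 t ht]⟩

theorem mem_KR {D : Submodule F V} {R : Set (ℤˣ → Module.End F V)} {T : Set V} {k : OG Q × ℤˣ} :
    k ∈ KR Q D R T ↔ (∀ x ∈ D, k.1.1 x = x) ∧
      (∀ p ∈ R, ∀ ε, ∀ x ∈ perp Q D, k.1.1 (p ε x) = p (k.2 * ε) (k.1.1 x)) ∧
      ∀ t ∈ T, k.1.1 t = t := Iff.rfl

theorem perp_bot' : perp Q ⊥ = ⊤ := eq_top_iff.mpr fun x _ u hu => by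
  rw [(Submodule.mem_bot F).mp hu, polar_zero_left]

theorem mem_KR_bot {R : Set (ℤˣ → Module.End F V)} {T : Set V} {k : OG Q × ℤˣ} :
    k ∈ KR Q ⊥ R T ↔ (∀ p ∈ R, ∀ ε x, k.1.1 (p ε x) = p (k.2 * ε) (k.1.1 x)) ∧
      ∀ t ∈ T, k.1.1 t = t := by
  simp [mem_KR, perp_bot']

theorem KR_zero (D : Submodule F V) (R : Set (ℤˣ → Module.End F V)) :
    KR Q D R {0} = KR Q D R ∅ := by
  ext k; simp [mem_KR]

theorem perp_anti {U W : Submodule F V} (h : U ≤ W) : perp Q W ≤ perp Q U :=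
  fun _ hx u hu => hx u (h hu)

theorem le_perp_perp (U : Submodule F V) : U ≤ perp Q (perp Q U) :=
  fun x hx u hu => by rw [polar_comm]; exact hu x hx

theorem mem_perp_sup {U W : Submodule F V} {x : V} :
    x ∈ perp Q (U ⊔ W) ↔ x ∈ perp Q U ∧ x ∈ perp Q W :=
  ⟨fun h => ⟨perp_anti le_sup_left h, perp_anti le_sup_right h⟩, fun h y hy => by
    obtain ⟨a, ha, b, hb, rfl⟩ := Submodule.mem_sup.mp hy
    rw [polar_add_left, h.1 a ha, h.2 b hb, add_zero]⟩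

section Ext

variable {U : Submodule F V}

/-- Extension by the identity on the orthogonal complement. -/
noncomputable def extO (hU : IsCompl U (perp Q U)) : OG (Q.comp U.subtype) →* OG Q :=
  (OG.congr (U.prodEquivOfIsCompl _ hU) (Q := (Q.comp U.subtype).prod (Q.comp (perp Q U).subtype))
    fun v => by
      simp [Q_add, v.2.2 _ v.1.2]).toMonoidHom.comp ((prodHom _ _).comp (MonoidHom.inl _ _))

theorem extO_mem (hU : IsCompl U (perp Q U)) (g : OG (Q.comp U.subtype)) (x : U) :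
    (extO hU g).1 x = g.1 x := by
  simp [extO, OG.congr_apply, prodHom_apply]

theorem extO_perp (hU : IsCompl U (perp Q U)) (g : OG (Q.comp U.subtype)) {x : V}
    (hx : x ∈ perp Q U) : (extO hU g).1 x = x := by
  have := Submodule.prodEquivOfIsCompl_symm_apply_right U (perp Q U) hU ⟨x, hx⟩
  simp only [extO, MonoidHom.comp_apply, MulEquiv.coe_toMonoidHom, OG.congr_apply,
    MonoidHom.inl_apply, prodHom_apply]
  rw [this]
  simp

theorem eq_of_isCompl {W : Submodule F V} (h : IsCompl U W) {g k : OG Q}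
    (h1 : ∀ x ∈ U, g.1 x = k.1 x) (h2 : ∀ x ∈ W, g.1 x = k.1 x) : g = k := OG.ext fun v => by
  obtain ⟨a, ha, b, hb, rfl⟩ := Submodule.mem_sup.mp (h.sup_eq_top ▸ Submodule.mem_top (x := v))
  rw [map_add, map_add, h1 a ha, h2 b hb]

variable [FiniteDimensional F V]

/-- Restriction to an invariant subspace. -/
noncomputable def resO (g : OG Q) (hg : ∀ x ∈ U, g.1 x ∈ U) : OG (Q.comp U.subtype) :=
  ⟨LinearEquiv.ofInjectiveEndo (g.1.toLinearMap.restrict hg)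
    fun _ _ h => Subtype.ext (g.1.injective (congrArg Subtype.val h)),
    fun v => OG.map_Q g v⟩

theorem resO_apply (g : OG Q) (hg : ∀ x ∈ U, g.1 x ∈ U) (x : U) :
    ((resO g hg).1 x : V) = g.1 x := rfl

theorem map_perp_of_map (g : OG Q) (hg : ∀ x ∈ U, g.1 x ∈ U) {x : V} (hx : x ∈ perp Q U) :
    g.1 x ∈ perp Q U := fun u hu => by
  obtain ⟨v, hv⟩ := (resO g hg).1.surjective ⟨u, hu⟩
  rw [← show g.1 v = u from congrArg Subtype.val hv, OG.map_polar]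
  exact hx v v.2

variable [Finite F]

instance finite_OG : Finite (OG Q) := by
  have := Module.finite_of_finite F (M := V)
  exact Finite.of_injective (fun g : OG Q => (g.1 : V → V))
    fun _ _ h => OG.ext (congrFun h)

/-- Passing from a nondegenerate subspace to the ambient space. -/
theorem pos_bridge (hQ : ND Q) {D : Submodule F V} (hD : IsCompl D (perp Q D))
    {R : Set (ℤˣ → Module.End F V)} {R' : Set (ℤˣ → Module.End F (perp Q D))} {T : Set V}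
    {T' : Set (perp Q D)}
    (h1 : ∀ p ∈ R, ∃ p' ∈ R', ∀ ε (x : perp Q D), p ε x = p' ε x)
    (h2 : ∀ p' ∈ R', ∃ p ∈ R, ∀ ε (x : perp Q D), p ε x = p' ε x)
    (h3 : ∀ t ∈ T, ∃ t' ∈ T', ↑t' = t) (h4 : ∀ t' ∈ T', ↑t' ∈ T)
    (h : Pos (sn _) (KR (Q.comp (perp Q D).subtype) ⊥ R' T')) : Pos (sn Q) (KR Q D R T) := by
  have hU : IsCompl (perp Q D) (perp Q (perp Q D)) := by rw [hQ.perp_perp]; exact hD.symm
  refine h.of_surj ((extO hU).prodMap (MonoidHom.id _)) (fun l hl => ⟨⟨fun x hx => ?_,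
    fun p hp ε x hx => ?_, fun t ht => ?_⟩, rfl⟩) fun k hk => ?_
  · exact extO_perp hU _ (le_perp_perp D hx)
  · obtain ⟨p', hp', e⟩ := h1 p hp
    change (extO hU l.1).1 _ = p (l.2 * ε) ((extO hU l.1).1 (⟨x, hx⟩ : perp Q D))
    rw [e ε ⟨x, hx⟩, extO_mem, extO_mem, e, (mem_KR_bot.mp hl).1 p' hp']
  · obtain ⟨t', ht', rfl⟩ := h3 t ht
    change (extO hU l.1).1 _ = _
    rw [extO_mem, (mem_KR_bot.mp hl).2 t' ht']
  · refine ⟨(resO k.1 fun x hx => fixer_map_perp hk.1 hx, k.2), mem_KR_bot.mpr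
      ⟨fun p' hp' ε x => Subtype.ext ?_, fun t ht => Subtype.ext (hk.2.2 _ (h4 t ht))⟩,
      Prod.ext (eq_of_isCompl hD (fun x hx => ?_) fun x hx => extO_mem hU _ ⟨x, hx⟩) rfl⟩
    · obtain ⟨p, hp, e⟩ := h2 p' hp'
      rw [resO_apply, ← e, ← e, hk.2.1 p hp ε x x.2, resO_apply]
    · exact (extO_perp hU _ (le_perp_perp D hx)).trans (hk.1 x hx).symm

/-- Splitting along an invariant nondegenerate subspace. -/
theorem pos_split (hQ : ND Q) (hU : IsCompl U (perp Q U)) {D : Submodule F V} (hD : U ≤ perp Q D)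
    {R : Set (ℤˣ → Module.End F V)} {T T' : Set V} (hT : T ⊆ U) (hT' : T' ⊆ perp Q U)
    (hR : ∀ p ∈ R, ∀ ε, ∀ x ∈ U, p ε x ∈ U)
    (hR' : ∀ p ∈ R, ∀ ε, ∀ x ∈ perp Q (D ⊔ U), p ε x ∈ perp Q U) {M : Subgroup (OG Q × ℤˣ)}
    (hM : ∀ k, k ∈ M ↔ k ∈ KR Q D R (T ∪ T') ∧ ∀ x ∈ U, k.1.1 x ∈ U)
    (h₁ : Pos (sn Q) (KR Q (perp Q U) R T)) (h₂ : Pos (sn Q) (KR Q (D ⊔ U) R T')) :
    Pos (sn Q) M := by
  have hD' : D ≤ perp Q U := fun x hx u hu => by rw [polar_comm]; exact hD hu x hx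
  have hx : ∀ x ∈ KR Q (perp Q U) R T, ∀ v ∈ U, x.1.1 v ∈ U := fun x hx v hv => by
    rw [← hQ.perp_perp U]; exact fixer_map_perp hx.1 (le_perp_perp U hv)
  have hy : ∀ y ∈ KR Q (D ⊔ U) R T', ∀ v ∈ U, y.1.1 v = v := fun y hy v hv =>
    hy.1 v (Submodule.mem_sup_right hv)
  have hy' : ∀ y ∈ KR Q (D ⊔ U) R T', ∀ v ∈ perp Q U, y.1.1 v ∈ perp Q U := fun y hy v hv =>
    fixer_map_perp (fun u hu => hy.1 u (Submodule.mem_sup_right hu)) hv
  refine pos_of_mul h₁ h₂ (fun x hx' y hy'' => eq_of_isCompl hU (fun v hv => ?_) fun v hv => ?_)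
    (fun x hx' y hy'' e => (hM _).mpr ⟨⟨fun v hv => ?_, fun p hp ε v hv => ?_, fun t ht => ?_⟩,
      fun v hv => ?_⟩) fun k hk => ?_
  · rw [OG.mul_apply, OG.mul_apply, hy y hy'' v hv, hy y hy'' _ (hx x hx' v hv)]
  · rw [OG.mul_apply, OG.mul_apply, hx'.1 v hv, hx'.1 _ (hy' y hy'' v hv)]
  · rw [OG.mul_apply, hy''.1 v (Submodule.mem_sup_left hv), hx'.1 v (hD' hv)]
  · obtain ⟨a, ha, b, hb, rfl⟩ := Submodule.mem_sup.mp (hU.sup_eq_top ▸ Submodule.mem_top (x := v))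
    have hb' : b ∈ perp Q (D ⊔ U) := mem_perp_sup.mpr
      ⟨by simpa using (perp Q D).sub_mem hv (hD ha), hb⟩
    simp only [map_add, OG.mul_apply]
    rw [hy y hy'' _ (hR p hp ε a ha), hy y hy'' a ha, hx'.2.1 p hp ε a (le_perp_perp U ha),
      hx'.1 _ (hy' y hy'' b hb), hx'.1 _ (hy' y hy'' _ (hR' p hp ε b hb')), hy''.2.1 p hp ε b hb', e]
  · rcases ht with ht | ht
    · rw [OG.mul_apply, hy y hy'' t (hT ht), hx'.2.2 t ht]
    · rw [OG.mul_apply, hy''.2.2 t ht, hx'.1 t (hT' ht)]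
  · rw [OG.mul_apply, hy y hy'' v hv]; exact hx x hx' v hv
  · obtain ⟨hk, hkU⟩ := (hM k).mp hk
    have h1 : ∀ v ∈ U, (extO hU (resO k.1 hkU)).1 v = k.1.1 v := fun v hv => extO_mem hU _ ⟨v, hv⟩
    have h2 : ∀ v ∈ perp Q U, ((extO hU (resO k.1 hkU))⁻¹ * k.1).1 v = k.1.1 v := fun v hv => by
      rw [OG.mul_apply, OG.inv_apply_eq_iff, extO_perp hU _ (map_perp_of_map k.1 hkU hv)]
    refine ⟨extO hU (resO k.1 hkU), (extO hU (resO k.1 hkU))⁻¹ * k.1,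
      ⟨fun v hv => extO_perp hU _ hv, fun p hp ε v hv => ?_, fun t ht => ?_⟩,
      ⟨fun v hv => ?_, fun p hp ε v hv => ?_, fun t ht => ?_⟩, mul_inv_cancel_left _ _⟩
    · rw [hQ.perp_perp] at hv
      rw [h1 v hv, h1 _ (hR p hp ε v hv), hk.2.1 p hp ε v (hD hv)]
    · rw [h1 t (hT ht), hk.2.2 t (Or.inl ht)]
    · obtain ⟨a, ha, b, hb, rfl⟩ := Submodule.mem_sup.mp hv
      rw [map_add, h2 a (hD' ha), hk.1 a ha, OG.mul_apply, ← h1 b hb, OG.inv_apply_apply]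
    · rw [h2 v (mem_perp_sup.mp hv).2, h2 _ (hR' p hp ε v hv),
        hk.2.1 p hp ε v (mem_perp_sup.mp hv).1]
    · rw [h2 t (hT' ht), hk.2.2 t (Or.inr ht)]

end Ext

end Cfsg.Agent.FSI
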