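import Cfsg.Agent.FSI.Geo1

/-!
# Linear characters of unipotent radicals; stabilizers of singular vectors
-/

set_option autoImplicit false
set_option linter.dupNamespace false

namespace Cfsg.Agent.FSI

open Cfsg Cfsg.Agent.Class.Orth QuadraticMap Module
open scoped ComplexConjugate

theorem exists_inn_ne {G X : Type*} [Group G] [Finite G] [Fintype X] {R Z : Subgroup G}
    (hZ : Z ≤ R) {η : G → ℂ} (h1 : η 1 ≠ 0) (lam : X → G → ℂ) {N : ℂ} (hN : N ≠ 0)
    (h2 : ∀ r ∈ Z, ∑ x, conj (lam x r) = N ∧ η r = η 1)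
    (h3 : ∀ r ∈ R, r ∉ Z → ∑ x, conj (lam x r) = 0) : ∃ x, inn R η (lam x) ≠ 0 := by
  classical
  by_contra h
  push Not at h
  have h4 : ∑ x, inn R η (lam x) = 0 := Finset.sum_eq_zero fun x _ => h x
  simp only [inn, ← avg_sum, ← Finset.mul_sum] at h4
  rw [avg, ← Finset.sum_subset (s₁ := fs (Z : Set G)) (fun x hx => mem_fs.mpr (hZ (mem_fs.mp hx)))
    (fun x hx hx' => by rw [h3 x (mem_fs.mp hx) (fun h => hx' (mem_fs.mpr h)), mul_zero]),
    Finset.sum_congr rfl (g := fun _ => η 1 * N * 1) fun x hx => by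
      rw [(h2 x (mem_fs.mp hx)).1, (h2 x (mem_fs.mp hx)).2, mul_one], ← Finset.mul_sum,
    ← card_eq_sum] at h4
  exact mul_ne_zero (inv_ne_zero (Char.card_ne_zero R))
    (mul_ne_zero (mul_ne_zero h1 hN) (Char.card_ne_zero Z)) h4

variable {F V : Type*} [Field F] [AddCommGroup V] [Module F V] {Q : QuadraticForm F V}

/-- The unipotent radical attached to a totally singular subspace. -/
def RR (K : Subgroup (OG Q × ℤˣ)) (W : Submodule F V) (hW : W ≤ perp Q W) :
    Subgroup (OG Q × ℤˣ) where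
  carrier := {k | k ∈ ev (sn Q) K ∧ ∀ x ∈ perp Q W, k.1.1 x - x ∈ W}
  one_mem' := ⟨one_mem _, fun x _ => by simp⟩
  mul_mem' := fun {k l} hk hl => ⟨mul_mem hk.1 hl.1, fun x hx => by
    have h1 := hl.2 x hx
    have h2 := hk.2 (l.1.1 x) (by simpa using (perp Q W).add_mem (hW h1) hx)
    simpa using W.add_mem h2 h1⟩
  inv_mem' := fun {k} hk => ⟨inv_mem hk.1, fun x hx => by
    have h1 : (k.1⁻¹).1 x ∈ perp Q W := fun u hu => by
      rw [← OG.polar_apply_left, show k.1.1 u = (k.1.1 u - u) + u by simp, polar_add_left,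
        hx _ (hk.2 u (hW hu)), hx u hu, add_zero]
    simpa using W.neg_mem (hk.2 _ h1)⟩

variable [Finite F]

/-- A nontrivial additive character. -/
noncomputable abbrev psi (F : Type*) [Field F] [Finite F] : AddChar F ℂ :=
  AddChar.FiniteField.primitiveChar_to_Complex F

theorem eq_zero_of_psi {a : F} (h : ∀ c, psi F (c * a) = 1) : a = 0 := by
  by_contra ha
  refine AddChar.FiniteField.primitiveChar_to_Complex_isPrimitive F ha ?_
  ext c
  simpa [mul_comm] using h c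

theorem sum_psi {U : Type*} [AddCommGroup U] [Module F U] [Fintype U] (f : U →ₗ[F] F)
    (hf : f ≠ 0) : ∑ x, psi F (f x) = 0 := by
  refine (AddChar.sum_eq_zero_iff_ne_zero
    (ψ := (psi F).compAddMonoidHom f.toAddMonoidHom)).mpr fun h => hf ?_
  ext x
  refine eq_zero_of_psi fun c => ?_
  have := DFunLike.congr_fun h (c • x)
  simpa using this

theorem psi_add_self (h2 : (2 : F) = 0) (a : F) : psi F a * psi F a = 1 := by
  rw [← AddChar.map_add_eq_mul, ← two_mul, h2, zero_mul, AddChar.map_zero_eq_one]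

theorem conj_psi (h2 : (2 : F) = 0) (a : F) : conj (psi F a) = psi F a := by
  rcases mul_self_eq_one_iff.mp (psi_add_self h2 a) with h | h <;> simp [h]

theorem norm_psi (h2 : (2 : F) = 0) (a : F) : ‖psi F a‖ = 1 := by
  rcases mul_self_eq_one_iff.mp (psi_add_self h2 a) with h | h <;> simp [h]

variable [FiniteDimensional F V] {K : Subgroup (OG Q × ℤˣ)} {W D N : Submodule F V} {w' : V}

omit [Finite F] in
theorem RR_normal (hW : W ≤ perp Q W) (hK : ∀ k ∈ K, ∀ x ∈ W, k.1.1 x ∈ W) :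
    ∀ k ∈ K, ∀ r ∈ RR K W hW, k * r * k⁻¹ ∈ RR K W hW := fun k hk r hr =>
  ⟨conj_mem_ev hk hr.1, fun x hx => by
    have := hK k hk _ (hr.2 _ (map_perp_of_map _ (hK _ (K.inv_mem hk)) hx))
    simpa [OG.mul_apply] using this⟩

/-- Characters lying over a linear character of the radical. -/
theorem tw_ne_geo (h2 : (2 : F) = 0) (hQ : ND Q) (hW : W ≤ perp Q W) (hWD : W ≤ D) (hw' : w' ∈ D)
    (hK : ∀ k ∈ K, ∀ x ∈ W, k.1.1 x ∈ W) (hK0 : ∀ k ∈ ev (sn Q) K, ∀ x ∈ W, k.1.1 x = x)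
    (hKL : ∀ k ∈ K, ∃ r ∈ RR K W hW, r.1.1 w' = k.1.1 w')
    (hLD : ∀ l ∈ K, l.1.1 w' = w' → ∀ x ∈ perp Q D, l.1.1 x ∈ perp Q D)
    (hN1 : ∀ u ∈ N, ∃ r ∈ RR K W hW, ∀ x ∈ perp Q D, polar Q (r.1.1 w') x = polar Q u x)
    (hN2 : ∀ r ∈ RR K W hW, ∃ u ∈ N, ∀ x ∈ perp Q D, polar Q (r.1.1 w') x = polar Q u x)
    (hM : ∀ x ∈ perp Q D, ∃ M, Pos (sn Q) M ∧ ∀ l, l ∈ M ↔ l ∈ K ∧ l.1.1 w' = w' ∧
      ∀ u ∈ N, polar Q u (l.1.1 x) = polar Q u x)
    {η : OG Q × ℤˣ → ℂ} (hη : Irr (ev (sn Q) K) η)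
    (hZ : ∀ r ∈ RR K W hW, r.1.1 w' ∈ D → η r = η 1) : tw (sn Q) K η ≠ -1 := by
  have := Module.finite_of_finite F (M := V)
  have := Fintype.ofFinite (perp Q D)
  have hDW := perp_anti (Q := Q) hWD
  have h1 : ∀ r ∈ RR K W hW, ∀ r' ∈ RR K W hW, ∀ x ∈ perp Q D, polar Q ((r * r').1.1 w') x =
      polar Q (r.1.1 w') x + polar Q (r'.1.1 w') x := fun r hr r' hr' x hx => by
    have h3 : r'.1.1 w' - w' ∈ perp Q W := fun u hu => by
      rw [polar_sub_right, ← hK0 r' hr'.1 u hu, OG.map_polar, hK0 r' hr'.1 u hu, sub_self]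
    have h4 := hx _ (hWD (hr.2 _ h3))
    simp only [map_sub, polar_sub_left, hx w' hw'] at h4
    rw [Prod.fst_mul, OG.mul_apply]
    linear_combination h4
  let lam : V → OG Q × ℤˣ → ℂ := fun x r => psi F (polar Q (r.1.1 w') x)
  have hl : ∀ x ∈ perp Q D, Irr (RR K W hW) (lam x) := fun x hx => by
    let f : RR K W hW →* ℂ :=
      { toFun := fun r => lam x r
        map_one' := by simp [lam, hx w' hw']
        map_mul' := fun r r' => by
          simp only [lam, Subgroup.coe_mul, h1 r r.2 r' r'.2 x hx, AddChar.map_add_eq_mul] }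
    exact Char.isIrrCharacter_linear f.toHomUnits
  let Z : Subgroup (OG Q × ℤˣ) :=
    { carrier := {r | r ∈ RR K W hW ∧ ∀ x ∈ perp Q D, polar Q (r.1.1 w') x = 0}
      one_mem' := ⟨one_mem _, fun x hx => hx w' hw'⟩
      mul_mem' := fun {a b} ha hb => ⟨mul_mem ha.1 hb.1, fun x hx => by
        rw [h1 a ha.1 b hb.1 x hx, ha.2 x hx, hb.2 x hx, add_zero]⟩
      inv_mem' := fun {a} ha => ⟨inv_mem ha.1, fun x hx => by
        have := h1 a ha.1 _ (inv_mem ha.1) x hx
        rw [mul_inv_cancel, ha.2 x hx, zero_add] at this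
        rw [← this]; exact hx w' hw'⟩ }
  obtain ⟨x, hx⟩ := exists_inn_ne (R := RR K W hW) (Z := Z) (fun r hr => hr.1) hη.one_ne
    (fun x : perp Q D => lam x) (N := Nat.card (perp Q D)) (Nat.cast_ne_zero.mpr Nat.card_pos.ne')
    (fun r hr => ⟨by simp [lam, hr.2], hZ r hr.1 (by
      rw [← hQ.perp_perp D]; exact fun x hx => by rw [polar_comm]; exact hr.2 x hx)⟩)
    fun r hr hr' => by
      simp only [lam, conj_psi h2]
      refine sum_psi (polarBilin Q (r.1.1 w') ∘ₗ (perp Q D).subtype) fun h => hr' ⟨hr, fun x hx => ?_⟩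
      exact LinearMap.congr_fun h ⟨x, hx⟩
  obtain ⟨M, hpos, hM⟩ := hM x x.2
  have h3 : ∀ l ∈ K, l.1.1 w' = w' → ∀ r : OG Q × ℤˣ, lam x (l⁻¹ * r * l⁻¹⁻¹) =
      psi F (polar Q (r.1.1 w') (l.1.1 x)) := fun l _ hl r => by
    simp only [lam, inv_inv, Prod.fst_mul, OG.mul_apply, hl, Prod.fst_inv, OG.polar_inv_apply_left]
  refine tw_ne_of_linear (R := RR K W hW) (fun r hr => hr.1) (RR_normal hW hK) hη (hl x x.2)
    (fun r _ => norm_psi h2 _) (fun r _ => conj_psi h2 _) hx (fun m hm => ((hM m).mp hm).1)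
    (fun m hm r hr => ?_) (fun k hk h => ?_) hpos
  · obtain ⟨h4, h5, h6⟩ := (hM _).mp (M.inv_mem hm)
    obtain ⟨u, hu, e⟩ := hN2 r hr
    rw [← inv_inv m, h3 _ h4 h5, e _ (hLD _ h4 h5 x x.2), h6 u hu, ← e x x.2]
  · obtain ⟨r, hr, e⟩ := hKL k hk
    have h4 : k⁻¹ * r ∈ K := mul_mem (inv_mem hk) hr.1.1
    have h5 : (k⁻¹ * r).1.1 w' = w' := by
      rw [Prod.fst_mul, OG.mul_apply, e, Prod.fst_inv, OG.inv_apply_apply]
    refine ⟨r, hr, (k⁻¹ * r)⁻¹, M.inv_mem ((hM _).mpr ⟨h4, h5, fun u hu => ?_⟩), by group⟩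
    rw [← sub_eq_zero]
    refine eq_zero_of_psi fun c => ?_
    obtain ⟨r', hr', e'⟩ := hN1 _ (N.smul_mem c hu)
    have h6 := h3 _ h4 h5 r'
    rw [show (k⁻¹ * r)⁻¹ * r' * (k⁻¹ * r)⁻¹⁻¹ = r⁻¹ * (k * r' * k⁻¹) * r⁻¹⁻¹ by group,
      (hl x x.2).ch.conj_eq (inv_mem hr) (RR_normal hW hK k hk r' hr'), h r' hr',
      e' _ (hLD _ h4 h5 x x.2)] at h6
    simp only [lam, e' x x.2, polar_smul_left'] at h6
    rw [mul_sub, sub_eq_add_neg, AddChar.map_add_eq_mul, ← h6, ← AddChar.map_add_eq_mul,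
      add_neg_cancel, AddChar.map_zero_eq_one]

omit [Finite F] [FiniteDimensional F V] in
theorem isCompl_of_nd [FiniteDimensional F V] (hQ : ND Q) {U : Submodule F V}
    (h : ∀ x ∈ U, x ∈ perp Q U → x = 0) : IsCompl U (perp Q U) := by
  have h1 : Disjoint U (perp Q U) := Submodule.disjoint_def.mpr h
  exact (Submodule.isCompl_iff_disjoint _ _ (hQ.finrank_perp U).ge).mpr h1

omit [Finite F] in
theorem isCompl_pair (h2 : (2 : F) = 0) (hQ : ND Q) {x y : V} (h : polar Q x y ≠ 0) :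
    IsCompl (Submodule.span F {x, y}) (perp Q (Submodule.span F {x, y})) :=
  isCompl_of_nd hQ fun v hv hv' => by
    obtain ⟨a, b, rfl⟩ := Submodule.mem_span_pair.mp hv
    have h3 := hv' x (Submodule.subset_span (by simp))
    have h4 := hv' y (Submodule.subset_span (by simp))
    simp only [polar_add_right, polar_smul_right', polar_self', h2, zero_mul, mul_zero, zero_add,
      add_zero, polar_comm Q y x] at h3 h4
    rw [(mul_eq_zero.mp h3).resolve_right h, (mul_eq_zero.mp h4).resolve_right h]; simp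

omit [Finite F] [FiniteDimensional F V] in
theorem mem_perp_pair {x y v : V} :
    v ∈ perp Q (Submodule.span F {x, y}) ↔ polar Q x v = 0 ∧ polar Q y v = 0 :=
  ⟨fun h => ⟨h x (Submodule.subset_span (by simp)), h y (Submodule.subset_span (by simp))⟩,
    fun h u hu => by
      obtain ⟨a, b, rfl⟩ := Submodule.mem_span_pair.mp hu
      simp [h.1, h.2]⟩

omit [FiniteDimensional F V] in
theorem exists_singular_add (h2 : (2 : F) = 0) {x y : V} (hy : Q y ≠ 0) (h : polar Q x y = 0) :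
    ∃ c : F, Q (x + c • y) = 0 := by
  have : CharP F 2 := CharTwo.of_one_ne_zero_of_two_eq_zero one_ne_zero h2
  obtain ⟨c, hc⟩ := (bijective_frobenius F 2).2 (Q x / Q y)
  refine ⟨c, ?_⟩
  rw [Q_add, Q_smul, polar_smul_right', h, show c ^ 2 = _ from hc, div_mul_cancel₀ _ hy]
  linear_combination Q x * h2

omit [Finite F] [FiniteDimensional F V] in
theorem eq_zero_of_singular {x y : V} (hy : Q y ≠ 0) (h : polar Q x y = 0)
    {c : F} (hc : Q (x + c • y) = Q x) : c = 0 := by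
  rw [Q_add, Q_smul, polar_smul_right', h] at hc
  have : c ^ 2 * Q y = 0 := by linear_combination hc
  exact pow_eq_zero_iff two_ne_zero |>.mp ((mul_eq_zero.mp this).resolve_right hy)

/-- The stabilizer of a singular vector. -/
theorem pos_sing (h2 : (2 : F) = 0) (hQ : ND Q)
    (IA : ∀ D : Submodule F V, D ≠ ⊥ → IsCompl D (perp Q D) → ∀ x ∈ perp Q D,
      Pos (sn Q) (KR Q D ∅ {x}))
    (IB : ∀ D : Submodule F V, D ≠ ⊥ → IsCompl D (perp Q D) → ∀ y ∈ perp Q D, ∀ x ∈ perp Q D,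
      Q y ≠ 0 → Q x = 0 → polar Q y x = 0 → Pos (sn Q) (KR Q D ∅ {y, x}))
    {y w : V} (hy : y = 0 ∨ Q y ≠ 0) (hw : w ≠ 0) (hw0 : Q w = 0) (hyw : polar Q y w = 0) :
    Pos (sn Q) (KR Q ⊥ ∅ {y, w}) := fun η hη => by
  have hwy : ∀ c : F, w ≠ c • y := fun c e => by
    rcases hy with rfl | hy
    · exact hw (by simpa using e)
    · rw [e, Q_smul] at hw0
      rw [pow_eq_zero_iff two_ne_zero |>.mp ((mul_eq_zero.mp hw0).resolve_right hy)] at e
      exact hw (by simpa using e)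
  obtain ⟨v, -, hv1, hv2⟩ := hQ.ndon_top.exists_polar_eq_eq_zero trivial trivial hwy 1
  have hh := isHyp_of_polar_eq_one hw0 hv1
  set w' := v - Q v • w
  have hyw' : polar Q y w' = 0 := by simp [w', hv2, hyw]
  have hmem : ∀ k, k ∈ KR Q ⊥ ∅ {y, w} ↔ k.1.1 y = y ∧ k.1.1 w = w := fun k => by
    simp [mem_KR_bot]
  set K := KR Q ⊥ ∅ {y, w}
  let W := Submodule.span F {w}
  let D := Submodule.span F {w, w'}
  have hD : IsCompl D (perp Q D) := isCompl_pair h2 hQ (by rw [hh.pol]; exact one_ne_zero)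
  have hwD : w ∈ D := Submodule.subset_span (by simp)
  have hw'D : w' ∈ D := Submodule.subset_span (by simp)
  have hD0 : D ≠ ⊥ := fun h => hw (by simpa [h] using hwD)
  have hyD : y ∈ perp Q D := mem_perp_pair.mpr ⟨by rwa [polar_comm], by rwa [polar_comm]⟩
  have hW : W ≤ perp Q W := (ts_span_singleton hw0).le_perp le_rfl
  have hfix : ∀ k ∈ K, ∀ x ∈ W, k.1.1 x = x := fun k hk x hx => by
    obtain ⟨c, rfl⟩ := Submodule.mem_span_singleton.mp hx
    rw [map_smul, ((hmem k).mp hk).2]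
  have hfixD : ∀ k : OG Q × ℤˣ, (∀ x ∈ D, k.1.1 x = x) ↔ k.1.1 w = w ∧ k.1.1 w' = w' := fun k =>
    ⟨fun h => ⟨h w hwD, h w' hw'D⟩, fun h x hx => by
      obtain ⟨a, b, rfl⟩ := Submodule.mem_span_pair.mp hx
      simp [h.1, h.2]⟩
  have heich : ∀ u, polar Q w u = 0 → polar Q y u = 0 → (eichler Q w u, 1) ∈ RR K W hW :=
    fun u h3 h4 => ⟨⟨(hmem _).mpr ⟨eichler_apply_of_perp_perp hyw h4, eichler_apply_self hw0 h3⟩,
      rfl⟩, fun x hx => by
        rw [eichler_apply_of_perp hw0 h3 (by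
          rw [polar_comm]; exact mem_perp_span_singleton.mp hx), add_sub_cancel_left]
        exact W.smul_mem _ (Submodule.mem_span_singleton_self w)⟩
  have hN : ∀ v ∈ perp Q D, (∀ u ∈ perp Q D ⊓ perp Q (Submodule.span F {y}), polar Q u v = 0) →
      ∃ c : F, v = c • y := fun v hv h => by
    by_contra hcon
    push Not at hcon
    obtain ⟨u, hu, h3, h4⟩ := (hQ.ndon_perp (U := D) fun x => by
      obtain ⟨a, ha, b, hb, rfl⟩ := Submodule.mem_sup.mp (hD.sup_eq_top ▸ Submodule.mem_top (x := x))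
      exact ⟨a, ha, by simpa using hb⟩).exists_polar_eq_eq_zero hv hyD hcon 1
    rw [polar_comm, h u ⟨hu, mem_perp_span_singleton.mpr h4⟩] at h3
    exact zero_ne_one h3
  refine tw_ne_geo h2 hQ hW (Submodule.span_mono (by simp)) hw'D
    (fun k hk x hx => by rwa [hfix k hk x hx]) (fun k hk => hfix k hk.1) (fun k hk => ?_)
    (fun l hl hl' x hx => fixer_map_perp ((hfixD l).mpr ⟨((hmem l).mp hl).2, hl'⟩) hx)
    (N := perp Q D ⊓ perp Q (Submodule.span F {y})) (fun u hu => ?_) (fun r hr => ?_)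
    (fun x hx => ?_) hη fun r hr h => ?_
  · obtain ⟨h3, h4⟩ := (hmem k).mp hk
    have h5 : polar Q w' w = polar Q (k.1.1 w') w := by
      conv_rhs => rw [← h4, OG.map_polar]
    refine ⟨_, heich ((polar Q w' w)⁻¹ • (w' - k.1.1 w')) ?_ ?_,
      eichler_map hw0 h5 (by rw [hh.pol']; exact one_ne_zero) (OG.map_Q _ _).symm⟩
    · rw [polar_smul_right', polar_sub_right, polar_comm Q w, polar_comm Q w, ← h5]; simp
    · rw [polar_smul_right', polar_sub_right]
      conv_lhs => rw [← h3, OG.map_polar, h3, hyw']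
      simp
  · refine ⟨_, heich (-u) (by simp [hu.1 w hwD])
      (by simp [mem_perp_span_singleton.mp hu.2]), fun x hx => ?_⟩
    rw [eichler_apply hw0 (by simp [hu.1 w hwD])]
    simp [hx w hwD, hx w' hw'D, hh.pol']
  · refine ⟨hproj Q w w' (r.1.1 w'), ⟨mem_perp_pair.mpr (mem_perp2.mp (hh.hproj_mem _)),
      mem_perp_span_singleton.mpr ?_⟩, fun x hx => ?_⟩
    · rw [polar_hproj (mem_perp2.mpr (mem_perp_pair.mp hyD)), ← ((hmem r).mp hr.1.1).1,
        OG.map_polar, hyw']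
    · rw [polar_comm Q _ x, polar_comm Q _ x, polar_hproj (mem_perp2.mpr (mem_perp_pair.mp hx))]
  · have key : ∀ l, (l ∈ K ∧ l.1.1 w' = w' ∧ ∀ u ∈ perp Q D ⊓ perp Q (Submodule.span F {y}),
        polar Q u (l.1.1 x) = polar Q u x) ↔ (∀ v ∈ D, l.1.1 v = v) ∧ l.1.1 y = y ∧
          ∃ c : F, l.1.1 x = x + c • y := fun l => by
      rw [hmem, hfixD]
      constructor
      · rintro ⟨⟨h3, h4⟩, h5, h6⟩
        obtain ⟨c, hc⟩ := hN (l.1.1 x - x) (sub_mem (fixer_map_perp ((hfixD l).mpr ⟨h4, h5⟩) hx) hx)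
          fun u hu => by rw [polar_sub_right, h6 u hu, sub_self]
        exact ⟨⟨h4, h5⟩, h3, c, by rw [← hc]; simp⟩
      · rintro ⟨⟨h4, h5⟩, h3, c, hc⟩
        refine ⟨⟨h3, h4⟩, h5, fun u hu => ?_⟩
        rw [hc, polar_add_right, polar_smul_right', polar_comm Q u y,
          mem_perp_span_singleton.mp hu.2]
        simp
    simp only [key]
    rcases hy with rfl | hy
    · exact ⟨_, IA D hD0 hD x hx, fun l => by simp [mem_KR]⟩
    by_cases hxy : polar Q x y = 0
    · obtain ⟨c, hc⟩ := exists_singular_add h2 hy hxy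
      refine ⟨_, IB D hD0 hD y hyD _ (add_mem hx ((perp Q D).smul_mem c hyD)) hy hc
        (by simp [polar_comm Q y x, hxy, two_smul, ← two_mul, h2]), fun l => ?_⟩
      simp only [mem_KR, Set.mem_empty_iff_false, false_imp_iff, implies_true, true_and,
        Set.mem_insert_iff, Set.mem_singleton_iff, forall_eq_or_imp, forall_eq, map_add, map_smul]
      refine and_congr_right fun _ => and_congr_right fun h3 => ?_
      rw [h3, add_left_inj]
      refine ⟨fun h => ⟨0, by simpa using h⟩, fun ⟨d, hd⟩ => ?_⟩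
      rw [hd, eq_zero_of_singular hy hxy (c := d) (hd ▸ OG.map_Q _ _)]; simp
    · let U := Submodule.span F {x, y}
      have hU : IsCompl U (perp Q U) := isCompl_pair h2 hQ hxy
      have hxU : x ∈ U := Submodule.subset_span (by simp)
      have hyU : y ∈ U := Submodule.subset_span (by simp)
      have hUD : U ≤ perp Q D := Submodule.span_le.mpr (by
        rintro _ (rfl | rfl); exacts [hx, hyD])
      let M : Subgroup (OG Q × ℤˣ) :=
        { carrier := {l | l ∈ KR Q D ∅ ({y} ∪ ∅) ∧ ∀ v ∈ U, l.1.1 v ∈ U}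
          one_mem' := ⟨one_mem _, fun _ h => h⟩
          mul_mem' := fun {a b} ha hb => ⟨mul_mem ha.1 hb.1, fun v hv => ha.2 _ (hb.2 v hv)⟩
          inv_mem' := fun {a} ha => ⟨inv_mem ha.1, fun v hv => by
            obtain ⟨z, hz⟩ := (resO a.1 ha.2).1.surjective ⟨v, hv⟩
            rw [Prod.fst_inv, ← show a.1.1 z = v from congrArg Subtype.val hz, OG.inv_apply_apply]
            exact z.2⟩ }
      refine ⟨M, pos_split hQ hU hUD (by simpa using hyU) (Set.empty_subset _) (by simp) (by simp)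
        (fun _ => Iff.rfl) (IA _ (fun h => hw ?_) (by rw [hQ.perp_perp]; exact hU.symm) y
          (le_perp_perp U hyU)) (KR_zero (Q := Q) _ _ ▸ IA _ (fun h => hD0 (le_bot_iff.mp
            (h ▸ le_sup_left))) (isCompl_of_nd hQ fun v hv hv' => ?_) 0 (zero_mem _)), fun l => ?_⟩
      · simpa [h] using perp_anti hUD (le_perp_perp D hwD)
      · obtain ⟨a, ha, b, hb, rfl⟩ := Submodule.mem_sup.mp hv
        have h3 : a = 0 := Submodule.disjoint_def.mp hD.disjoint a ha
          (by simpa using sub_mem (mem_perp_sup.mp hv').1 (hUD hb))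
        rw [h3, zero_add] at hv' ⊢
        exact Submodule.disjoint_def.mp hU.disjoint b hb (mem_perp_sup.mp hv').2
      · change (_ ∧ _) ↔ _
        simp only [mem_KR, Set.mem_empty_iff_false, false_imp_iff, implies_true, true_and,
          Set.union_empty, Set.mem_singleton_iff, forall_eq, and_assoc]
        refine and_congr_right fun _ => and_congr_right fun h3 => ⟨fun h => ?_, fun ⟨d, hd⟩ v hv => ?_⟩
        · obtain ⟨a, b, e⟩ := Submodule.mem_span_pair.mp (h x hxU)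
          have h4 : polar Q (l.1.1 x) (l.1.1 y) = polar Q x y := OG.map_polar _ _ _
          rw [← e, h3] at h4
          simp only [polar_add_left, polar_smul_left', polar_self', h2, zero_mul, mul_zero,
            add_zero] at h4
          exact ⟨b, by rw [← e, mul_left_eq_self₀.mp h4 |>.resolve_right hxy, one_smul]⟩
        · obtain ⟨a, b, rfl⟩ := Submodule.mem_span_pair.mp hv
          rw [map_add, map_smul, map_smul, hd, h3]
          exact add_mem (U.smul_mem _ (add_mem hxU (U.smul_mem _ hyU))) (U.smul_mem _ hyU)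
  · obtain ⟨a, b, e⟩ := Submodule.mem_span_pair.mp h
    have h3 := ((hmem r).mp hr.1.1).2
    have h4 : polar Q (r.1.1 w) (r.1.1 w') = polar Q w w' := OG.map_polar _ _ _
    have h5 : Q (r.1.1 w') = Q w' := OG.map_Q _ _
    rw [← e, h3] at h4
    simp only [polar_add_right, polar_smul_right', hh.ee, hh.pol, mul_zero, zero_add, mul_one] at h4
    rw [← e, hh.Q_comb, h4, mul_one, hh.right] at h5
    rw [h4, h5, zero_smul, zero_add, one_smul] at e
    congr 1
    refine Prod.ext (eq_of_isCompl hD ((hfixD r).mpr ⟨h3, e.symm⟩) fun x hx => ?_) hr.1.2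
    obtain ⟨c, hc⟩ := Submodule.mem_span_singleton.mp
      (hr.2 x (perp_anti (Submodule.span_mono (by simp)) hx))
    have h6 := fixer_map_perp ((hfixD r).mpr ⟨h3, e.symm⟩) hx w' hw'D
    rw [show r.1.1 x = c • w + x by rw [hc]; simp] at h6 ⊢
    simp only [polar_add_right, polar_smul_right', hh.pol', hx w' hw'D, mul_one, add_zero] at h6
    simp [h6]

end Cfsg.Agent.FSI
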