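import Cfsg.Agent.FSI.Geo2
import Cfsg.Agent.Char.ExtraspecialChar

/-!
# The hermitian case: vector stabilizers in extended unitary and linear groups
-/

set_option autoImplicit false
set_option linter.dupNamespace false
set_option linter.unusedSectionVars false

namespace Cfsg.Agent.FSI

open Cfsg Cfsg.Agent.Class.Orth QuadraticMap Module

variable {F V E : Type*} [Field F] [AddCommGroup V] [Module F V] {Q : QuadraticForm F V}
  [CommRing E] [Algebra F E] [Module E V] [IsScalarTower F E V]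

/-- The involution to a sign power. -/
def ts (σ : E →+* E) (ε : ℤˣ) : E →+* E := if ε = 1 then RingHom.id E else σ

@[simp] theorem ts_one (σ : E →+* E) (e : E) : ts σ 1 e = e := rfl

@[simp] theorem ts_neg (σ : E →+* E) (e : E) : ts σ (-1) e = σ e := rfl

/-- The relations given by a ring with involution. -/
def RE (F V : Type*) [Field F] [AddCommGroup V] [Module F V] [Algebra F E] [Module E V]
    [IsScalarTower F E V] (σ : E →+* E) : Set (ℤˣ → Module.End F V) :=
  Set.range fun e ε => Algebra.lsmul F F V (ts σ ε e)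

/-- A module over a ring with involution whose fixed ring is a field. -/
structure HS (Q : QuadraticForm F V) (σ : E →+* E) (α : E) : Prop where
  nd : ND Q
  two : (2 : F) = 0
  inv : ∀ e, σ (σ e) = e
  adj : ∀ e x y, polar Q (e • x) y = polar Q x (σ e • y)
  faith : ∀ e : E, (∀ x : V, e • x = 0) → e = 0
  fld : ∀ e, σ e = e → e = 0 ∨ IsUnit e
  un : α * σ α = 1
  ne : α + σ α ≠ 0
  iso : ∀ x, Q (α • x) = Q x
  odd : ∃ n, Odd n ∧ α ^ n = 1

/-- The associated hermitian form. -/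
structure HD (Q : QuadraticForm F V) (σ : E →+* E) (α : E) (τ : E →ₗ[F] F) (h : V → V → E) :
    Prop extends HS Q σ α where
  τσ : ∀ e, τ (σ e) = τ e
  τnd : ∀ e, (∀ f, τ (e * f) = 0) → e = 0
  spec : ∀ x y e, τ (h x y * e) = polar Q (e • x) y

variable {σ : E →+* E} {α : E} {τ : E →ₗ[F] F} {h : V → V → E}

namespace HS

theorem twoE (H : HS Q σ α) : (2 : E) = 0 := by
  rw [← map_ofNat (algebraMap F E) 2, H.two, map_zero]

omit [Algebra F E] [IsScalarTower F E V] in
theorem ts_mul (H : HS Q σ α) (ε δ : ℤˣ) (e : E) : ts σ (ε * δ) e = ts σ ε (ts σ δ e) := by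
  rcases Int.units_eq_one_or ε with rfl | rfl <;> rcases Int.units_eq_one_or δ with rfl | rfl <;>
    simp [H.inv]

omit [Algebra F E] [IsScalarTower F E V] in
theorem ts_ts (H : HS Q σ α) (ε : ℤˣ) (e : E) : ts σ ε (ts σ ε e) = e := by
  rw [← H.ts_mul, Int.units_mul_self, ts_one]

theorem mem (H : HS Q σ α) {D : Submodule F V} {T : Set V} {k : OG Q × ℤˣ} :
    k ∈ KR Q D (RE F V σ) T ↔ (∀ x ∈ D, k.1.1 x = x) ∧
      (∀ e, ∀ x ∈ perp Q D, k.1.1 (e • x) = ts σ k.2 e • k.1.1 x) ∧ ∀ t ∈ T, k.1.1 t = t := by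
  refine and_congr_right fun _ => and_congr_left fun _ => ⟨fun h e x hx => ?_, ?_⟩
  · simpa using h _ ⟨e, rfl⟩ 1 x hx
  · rintro h _ ⟨e, rfl⟩ ε x hx
    simpa [H.ts_mul] using h _ x hx

theorem mem_bot (H : HS Q σ α) {T : Set V} {k : OG Q × ℤˣ} :
    k ∈ KR Q ⊥ (RE F V σ) T ↔
      (∀ e x, k.1.1 (e • x) = ts σ k.2 e • k.1.1 x) ∧ ∀ t ∈ T, k.1.1 t = t := by
  simp [H.mem, perp_bot']

theorem eq_zero_of_ideal (H : HS Q σ α) (I : Ideal E) (hI : ∀ e ∈ I, σ e ∈ I) (h1 : I ≠ ⊤)
    {e : E} (he : e ∈ I) : e = 0 := by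
  have key : ∀ e ∈ I, σ e = e → e = 0 := fun e he h =>
    (H.fld e h).resolve_right fun hu => h1 (I.eq_top_of_isUnit_mem he hu)
  refine key e he ?_
  have := key _ (I.add_mem he (hI e he)) (by rw [map_add, H.inv, add_comm])
  linear_combination this - e * H.twoE

omit [Algebra F E] [IsScalarTower F E V] in
theorem exists_trace (H : HS Q σ α) {c : E} (hc : σ c = c) : ∃ d, d + σ d = c := by
  have h1 : σ (α + σ α) = α + σ α := by rw [map_add, H.inv, add_comm]
  obtain ⟨b, hb⟩ := ((H.fld _ h1).resolve_left H.ne).exists_right_inv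
  have h2 : σ b = b := by
    have := congrArg σ hb
    rw [map_mul, h1, map_one] at this
    linear_combination b * this - σ b * hb
  refine ⟨c * b * α, ?_⟩
  rw [map_mul, map_mul, hc, h2]
  linear_combination c * hb

theorem exists_inv (H : HS Q σ α) : ∃ b, (α + 1) * b = 1 := by
  have h1 : σ (α + σ α) = α + σ α := by rw [map_add, H.inv, add_comm]
  obtain ⟨b, hb⟩ := ((H.fld _ h1).resolve_left H.ne).exists_right_inv
  exact ⟨(α + 1) * σ α * b, by linear_combination hb + (α + 2) * b * H.un + b * H.twoE⟩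

theorem exists_hd [FiniteDimensional F E] (H : HS Q σ α) : ∃ τ h, HD Q σ α τ h := by
  obtain ⟨v, e₀, h0⟩ : ∃ (v : V) (e : E), polar Q (e • v) v ≠ 0 := by
    by_contra hc
    push Not at hc
    refine H.ne (H.faith _ fun x => H.nd _ fun y => ?_)
    have := hc (x + y) α
    rw [smul_add, polar_add_left, polar_add_right, polar_add_right, hc, hc, H.adj α y,
      polar_comm Q y] at this
    rw [add_smul, polar_add_left]
    linear_combination this
  let τ : E →ₗ[F] F := polarBilin Q v ∘ₗ (LinearMap.toSpanSingleton E V v).restrictScalars F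
  have hτ : ∀ e, τ e = polar Q (e • v) v := fun e => polar_comm _ _ _
  have h1 : ∀ e, τ (σ e) = τ e := fun e => by rw [hτ, hτ, H.adj e, polar_comm]
  have h2 : ∀ e, (∀ f, τ (e * f) = 0) → e = 0 := fun e he =>
    H.eq_zero_of_ideal
      { carrier := {e | ∀ f, τ (e * f) = 0}
        zero_mem' := fun f => by simp
        add_mem' := fun ha hb f => by rw [add_mul, map_add, ha f, hb f, add_zero]
        smul_mem' := fun c a ha f => by rw [smul_eq_mul, mul_comm c, mul_assoc]; exact ha _ }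
      (fun e he f => by rw [← h1, map_mul, H.inv]; exact he _)
      (fun h => h0 (by
        have := (Ideal.eq_top_iff_one _).mp h e₀
        rwa [one_mul, hτ] at this)) he
  have h3 : ∀ x y : V, ∃ c, ∀ e, τ (c * e) = polar Q (e • x) y := fun x y => by
    obtain ⟨c, hc⟩ := Class.exists_sesq_eq_dual (σ := RingHom.id F) Function.surjective_id
      ((LinearMap.mul F E).compr₂ τ) (fun a ha => h2 a fun f => by rw [mul_comm]; exact ha f)
      (polarBilin Q y ∘ₗ (LinearMap.toSpanSingleton E V x).restrictScalars F)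
    exact ⟨c, fun e => (LinearMap.congr_fun hc e).trans (polar_comm _ _ _)⟩
  choose h hh using h3
  exact ⟨τ, h, { H with τσ := h1, τnd := h2, spec := hh }⟩

end HS

namespace HD

theorem eq_of (H : HD Q σ α τ h) {x y : V} {c : E} (hc : ∀ e, τ (c * e) = polar Q (e • x) y) :
    h x y = c := sub_eq_zero.mp (H.τnd _ fun f => by rw [sub_mul, map_sub, H.spec, hc, sub_self])

theorem pol (H : HD Q σ α τ h) (x y : V) : polar Q x y = τ (h x y) := by
  simpa using (H.spec x y 1).symm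

theorem add_left (H : HD Q σ α τ h) (x x' y : V) : h (x + x') y = h x y + h x' y :=
  H.eq_of fun e => by rw [add_mul, map_add, H.spec, H.spec, smul_add, polar_add_left]

theorem smul_left (H : HD Q σ α τ h) (c : E) (x y : V) : h (c • x) y = c * h x y :=
  H.eq_of fun e => by rw [mul_comm c, mul_assoc, H.spec, mul_comm c, mul_smul]

theorem symm (H : HD Q σ α τ h) (x y : V) : h y x = σ (h x y) :=
  H.eq_of fun e => by rw [← H.τσ, map_mul, H.inv, H.spec, H.adj e, polar_comm]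

theorem add_right (H : HD Q σ α τ h) (x y y' : V) : h x (y + y') = h x y + h x y' := by
  rw [H.symm, H.add_left, map_add, ← H.symm, ← H.symm]

theorem smul_right (H : HD Q σ α τ h) (c : E) (x y : V) : h x (c • y) = σ c * h x y := by
  rw [H.symm, H.smul_left, map_mul, ← H.symm]

theorem symm_zero (H : HD Q σ α τ h) {x y : V} (h0 : h x y = 0) : h y x = 0 := by
  rw [H.symm, h0, map_zero]

/-- The form as a linear map in the first variable. -/
def hL (H : HD Q σ α τ h) (y : V) : V →ₗ[E] E where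
  toFun x := h x y
  map_add' x x' := H.add_left x x' y
  map_smul' c x := H.smul_left c x y

theorem sub_left (H : HD Q σ α τ h) (x x' y : V) : h (x - x') y = h x y - h x' y :=
  (H.hL y).map_sub x x'

theorem map (H : HD Q σ α τ h) {k : OG Q × ℤˣ}
    (hk : ∀ e x, k.1.1 (e • x) = ts σ k.2 e • k.1.1 x) (x y : V) :
    h (k.1.1 x) (k.1.1 y) = ts σ k.2 (h x y) := H.eq_of fun e => by
  rw [← H.ts_ts k.2 e, ← hk, OG.map_polar, ← H.spec, ← map_mul]
  rcases Int.units_eq_one_or k.2 with h1 | h1 <;> simp [h1, -map_mul, H.τσ]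

theorem mem_perp (H : HD Q σ α τ h) {T : Set V} {x : V} :
    x ∈ perp Q ((Submodule.span E T).restrictScalars F) ↔ ∀ t ∈ T, h x t = 0 :=
  ⟨fun hx t ht => H.symm_zero (H.eq_of fun e => by
    rw [zero_mul, map_zero, hx _ (Submodule.smul_mem _ e (Submodule.subset_span ht))]),
    fun hx u hu => by
      rw [H.pol, show h u x = 0 from (Submodule.span_le (p := LinearMap.ker (H.hL x))).mpr
        (fun t ht => H.symm_zero (hx t ht)) hu, map_zero]⟩

theorem smul_mem_perp (H : HD Q σ α τ h) {T : Set V} (e : E) {x : V}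
    (hx : x ∈ perp Q ((Submodule.span E T).restrictScalars F)) :
    e • x ∈ perp Q ((Submodule.span E T).restrictScalars F) :=
  H.mem_perp.mpr fun t ht => by rw [H.smul_left, H.mem_perp.mp hx t ht, mul_zero]

variable [FiniteDimensional F V]

/-- A linear map preserving the hermitian form as an isometry. -/
noncomputable def mkU (H : HD Q σ α τ h) (f : V →ₗ[E] V) (hf : ∀ x y, h (f x) (f y) = h x y) :
    OG Q :=
  ⟨LinearEquiv.ofInjectiveEndo (f.restrictScalars F) ((injective_iff_map_eq_zero _).mpr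
    fun x hx => H.nd x fun y => by
      rw [H.pol, ← hf, show f x = 0 from hx, show h 0 (f y) = 0 from (H.hL _).map_zero, map_zero]),
    fun x => by
      obtain ⟨b, hb⟩ := H.exists_inv
      have h1 : ∀ y, Q ((α + 1) • y) = τ (h y y * α) := fun y => by
        rw [add_smul, one_smul, Q_add, H.iso, H.spec]
        linear_combination Q y * H.two
      change Q (f x) = Q x
      rw [← one_smul E x, ← hb, mul_smul, map_smul, h1, h1, hf]⟩

/-- Unitary Siegel transformations. -/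
noncomputable def sieg (H : HD Q σ α τ h) {w u : V} {c : E} (hw : h w w = 0) (hu : h u w = 0)
    (hc : c + σ c = h u u) : OG Q :=
  H.mkU (LinearMap.id + (H.hL u).smulRight w + (H.hL w).smulRight (u + c • w)) fun x y => by
    change h (x + h x u • w + h x w • (u + c • w)) (y + h y u • w + h y w • (u + c • w)) = _
    simp only [H.add_left, H.add_right, H.smul_left, H.smul_right, hw, hu, H.symm_zero hu, ← hc,
      H.symm y u, H.symm y w]
    linear_combination (h x w * σ (h y u) + h x u * σ (h y w) +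
      (c + σ c) * h x w * σ (h y w)) * H.twoE

theorem sieg_apply (H : HD Q σ α τ h) {w u : V} {c : E} (hw : h w w = 0) (hu : h u w = 0)
    (hc : c + σ c = h u u) (x : V) :
    (H.sieg hw hu hc).1 x = x + h x u • w + h x w • (u + c • w) := rfl

variable [Finite F]

theorem pos_stab (H : HD Q σ α τ h)
    (IH : ∀ D : Submodule F V, D ≠ ⊥ → IsCompl D (perp Q D) →
      (∀ e : E, ∀ x ∈ perp Q D, e • x ∈ perp Q D) → ∀ x ∈ perp Q D,
      Pos (sn Q) (KR Q D (RE F V σ) {x}))
    {T : Set V} {w : V} (hw : w ∈ T) (hw0 : w ≠ 0)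
    (hU : IsCompl ((Submodule.span E T).restrictScalars F)
      (perp Q ((Submodule.span E T).restrictScalars F))) {x : V}
    (hx : x ∈ perp Q ((Submodule.span E T).restrictScalars F)) :
    Pos (sn Q) (KR Q ⊥ (RE F V σ) (T ∪ {x})) := by
  refine pos_split H.nd hU (D := ⊥) (by simp [perp_bot']) (fun t ht => Submodule.subset_span ht)
    (by simpa using hx) ?_ ?_ (fun k => ⟨fun hk => ⟨hk, fun v hv => ?_⟩, fun hk => hk.1⟩)
    (pos_of_sq fun k hk _ => ?_) ?_
  · rintro _ ⟨e, rfl⟩ ε v hv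
    exact Submodule.smul_mem (Submodule.span E T) _ hv
  · rintro _ ⟨e, rfl⟩ ε v hv
    exact H.smul_mem_perp _ (mem_perp_sup.mp hv).2
  · obtain ⟨h1, h2⟩ := H.mem_bot.mp hk
    induction hv using Submodule.span_induction with
    | mem t ht => rw [h2 t (Or.inl ht)]; exact Submodule.subset_span ht
    | zero => simp
    | add a b _ _ ha hb => rw [map_add]; exact add_mem ha hb
    | smul e a _ ha => rw [h1]; exact Submodule.smul_mem (Submodule.span E T) _ ha
  · obtain ⟨h1, h2, h3⟩ := H.mem.mp hk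
    rw [H.nd.perp_perp] at h2
    refine Prod.ext (eq_of_isCompl hU (fun v hv => ?_) fun v hv => by
      rw [Prod.fst_mul, OG.mul_apply, h1 v hv, h1 v hv]; rfl) (Int.units_mul_self _)
    have : k.1.1 v ∈ Submodule.span E T ∧ k.1.1 (k.1.1 v) = v := by
      induction hv using Submodule.span_induction with
      | mem t ht => rw [h3 t ht, h3 t ht]; exact ⟨Submodule.subset_span ht, rfl⟩
      | zero => simp
      | add a b _ _ ha hb => rw [map_add, map_add, ha.2, hb.2]; exact ⟨add_mem ha.1 hb.1, rfl⟩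
      | smul e a h ha =>
        rw [h2 e a h, h2 _ _ ha.1, ha.2, H.ts_ts]
        exact ⟨Submodule.smul_mem _ _ ha.1, rfl⟩
    exact this.2
  · rw [bot_sup_eq]
    exact IH _ (fun h => hw0 (by
      have : w ∈ (Submodule.span E T).restrictScalars F := Submodule.subset_span hw
      simpa [h] using this)) hU (fun e x hx => H.smul_mem_perp e hx) x hx

theorem pos_isotropic (H : HD Q σ α τ h)
    (IH : ∀ D : Submodule F V, D ≠ ⊥ → IsCompl D (perp Q D) →
      (∀ e : E, ∀ x ∈ perp Q D, e • x ∈ perp Q D) → ∀ x ∈ perp Q D,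
      Pos (sn Q) (KR Q D (RE F V σ) {x}))
    {w w' : V} (hw0 : w ≠ 0) (hw : h w w = 0) (hw' : h w' w' = 0) (hww : h w w' = 1) :
    Pos (sn Q) (KR Q ⊥ (RE F V σ) {w}) := fun η hη => by
  have hww' : h w' w = 1 := by rw [H.symm, hww, map_one]
  have hmem : ∀ k, k ∈ KR Q ⊥ (RE F V σ) {w} ↔
      (∀ e x, k.1.1 (e • x) = ts σ k.2 e • k.1.1 x) ∧ k.1.1 w = w := fun k => by simp [H.mem_bot]
  set K := KR Q ⊥ (RE F V σ) {w}
  let W := (Submodule.span E {w}).restrictScalars F
  let D := (Submodule.span E {w, w'}).restrictScalars F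
  have hWm : ∀ x, x ∈ W ↔ ∃ e : E, e • w = x := fun x => Submodule.mem_span_singleton
  have hDm : ∀ x, x ∈ D ↔ ∃ e f : E, e • w + f • w' = x := fun x => Submodule.mem_span_pair
  have hWp : ∀ x, x ∈ perp Q W ↔ h x w = 0 := fun x => by simp [W, H.mem_perp]
  have hDp : ∀ x, x ∈ perp Q D ↔ h x w = 0 ∧ h x w' = 0 := fun x => by simp [D, H.mem_perp]
  have hdec : ∀ x, ∃ u ∈ perp Q D, x = h x w' • w + h x w • w' + u := fun x =>
    ⟨x - (h x w' • w + h x w • w'), (hDp _).mpr (by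
      simp [H.sub_left, H.add_left, H.smul_left, hw, hw', hww, hww']), by simp⟩
  have hD : IsCompl D (perp Q D) := isCompl_of_nd H.nd fun x hx hx' => by
    obtain ⟨e, f, rfl⟩ := (hDm x).mp hx
    have := (hDp _).mp hx'
    simp only [H.add_left, H.smul_left, hw, hw', hww, hww', mul_zero, mul_one, zero_add,
      add_zero] at this
    simp [this.1, this.2]
  have hW : W ≤ perp Q W := fun x hx => by
    obtain ⟨e, rfl⟩ := (hWm x).mp hx
    rw [hWp, H.smul_left, hw, mul_zero]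
  have hK : ∀ k ∈ K, ∀ x ∈ W, k.1.1 x ∈ W := fun k hk x hx => by
    obtain ⟨e, rfl⟩ := (hWm x).mp hx
    rw [((hmem k).mp hk).1, ((hmem k).mp hk).2]
    exact (hWm _).mpr ⟨_, rfl⟩
  have hlin : ∀ k ∈ ev (sn Q) K, ∀ (e : E) x, k.1.1 (e • x) = e • k.1.1 x := fun k hk e x => by
    rw [((hmem k).mp hk.1).1, show k.2 = 1 from hk.2, ts_one]
  have hpres : ∀ k ∈ ev (sn Q) K, ∀ x y, h (k.1.1 x) (k.1.1 y) = h x y := fun k hk x y => by
    rw [H.map ((hmem k).mp hk.1).1, show k.2 = 1 from hk.2, ts_one]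
  have hsieg : ∀ {u c} (hu : h u w = 0) (hc : c + σ c = h u u),
      (H.sieg hw hu hc, 1) ∈ RR K W hW := fun {u c} hu hc =>
    ⟨⟨(hmem _).mpr ⟨fun e x => by
      simp only [H.sieg_apply, H.smul_left, ts_one, smul_add, mul_smul], by
      simp [H.sieg_apply, hw, H.symm_zero hu]⟩, rfl⟩, fun x hx => (hWm _).mpr ⟨h x u, by
        rw [H.sieg_apply, (hWp x).mp hx, zero_smul, add_zero, add_sub_cancel_left]⟩⟩
  set R := RR K W hW
  have hKw : ∀ k ∈ K, ∃ u ∈ perp Q D, ∃ c, c + σ c = h u u ∧ k.1.1 w' = w' + (u + c • w) :=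
    fun k hk => by
      obtain ⟨h1, h2⟩ := (hmem k).mp hk
      obtain ⟨u, hu, e⟩ := hdec (k.1.1 w')
      have h3 := H.map h1 w' w
      have h4 := H.map h1 w' w'
      rw [h2, hww', map_one] at h3
      rw [h3, one_smul] at e
      obtain ⟨h5, h6⟩ := (hDp u).mp hu
      rw [hw', map_zero, e] at h4
      simp only [H.add_left, H.add_right, H.smul_left, H.smul_right, hw, hw', hww, hww', h5, h6,
        H.symm_zero h5, H.symm_zero h6] at h4
      exact ⟨u, hu, h (k.1.1 w') w', by linear_combination h4 - h u u * H.twoE,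
        e.trans (by abel)⟩
  have hKL : ∀ k ∈ K, ∃ r ∈ R, r.1.1 w' = k.1.1 w' := fun k hk => by
    obtain ⟨u, hu, c, hc, e⟩ := hKw k hk
    refine ⟨_, hsieg ((hDp u).mp hu).1 hc, ?_⟩
    rw [H.sieg_apply, H.symm_zero ((hDp u).mp hu).2, hww', zero_smul, add_zero, one_smul, e]
  have hRx : ∀ r ∈ R, ∀ u ∈ perp Q D, ∀ c : E, r.1.1 w' = w' + (u + c • w) → ∀ x ∈ perp Q D,
      r.1.1 x = x + h x u • w := fun r hr u hu c e x hx => by
    obtain ⟨d, hd⟩ := (hWm _).mp (hr.2 x ((hWp x).mpr ((hDp x).mp hx).1))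
    have h1 : r.1.1 x = x + d • w := by rw [hd]; simp
    have h2 := hpres r hr.1 x w'
    rw [h1, e] at h2
    simp only [H.add_left, H.add_right, H.smul_left, H.smul_right, hw, hww, ((hDp x).mp hx).1,
      ((hDp x).mp hx).2, H.symm_zero ((hDp u).mp hu).1] at h2
    rw [h1, show d = h x u by linear_combination h2 - h x u * H.twoE]
  have hRw : ∀ r ∈ R, r.1.1 w = w := fun r hr => ((hmem r).mp hr.1.1).2
  have hZ : ∀ r ∈ R, r.1.1 w' ∈ D → ∃ a, σ a = a ∧ ∀ x, r.1.1 x = x + (h x w * a) • w :=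
    fun r hr hrD => by
      obtain ⟨u, hu, c, hc, e⟩ := hKw r hr.1.1
      have h1 : u = 0 := Submodule.disjoint_def.mp hD.disjoint u (by
        have := D.sub_mem hrD ((hDm _).mpr ⟨c, 1, rfl⟩)
        rwa [e, show w' + (u + c • w) - (c • w + (1 : E) • w') = u by rw [one_smul]; abel] at this) hu
      subst h1
      rw [show h 0 0 = 0 from (H.hL 0).map_zero] at hc
      refine ⟨c, by linear_combination hc - c * H.twoE, fun x => ?_⟩
      obtain ⟨v, hv, e'⟩ := hdec x
      conv_lhs => rw [e', map_add, map_add, hlin r hr.1, hlin r hr.1, hRw r hr, hRx r hr 0 hu c e v hv,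
        e, H.symm_zero (show h 0 v = 0 from (H.hL v).map_zero)]
      conv_rhs => rw [mul_smul]; lhs; rw [e']
      module
  have hZc : ∀ r ∈ R, r.1.1 w' ∈ D → r * r = 1 ∧ ∀ k ∈ K, k * r = r * k := fun r hr hrD => by
    obtain ⟨a, ha, e⟩ := hZ r hr hrD
    refine ⟨Prod.ext (OG.ext fun x => ?_) (Int.units_mul_self _),
      fun k hk => Prod.ext (OG.ext fun x => ?_) (mul_comm _ _)⟩
    · rw [Prod.fst_mul, OG.mul_apply, e x, map_add, hlin r hr.1, hRw r hr, e x, add_assoc,
        ← add_smul, ← two_mul, H.twoE, zero_mul, zero_smul, add_zero]; rfl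
    · obtain ⟨h1, h2⟩ := (hmem k).mp hk
      have h3 := H.map h1 x w
      rw [h2] at h3
      rw [Prod.fst_mul, Prod.fst_mul, OG.mul_apply, OG.mul_apply, e, e, map_add, h1, h2, h3, map_mul]
      rcases Int.units_eq_one_or k.2 with h4 | h4 <;> simp [h4, ha]
  have hR1 : ∀ r ∈ R, r.1.1 w' = w' → r = 1 := fun r hr e => by
    obtain ⟨a, -, e'⟩ := hZ r hr (by rw [e]; exact (hDm _).mpr ⟨0, 1, by simp⟩)
    have h1 := congrArg (fun x => h x w') (e' w')
    simp only [e, H.add_left, H.smul_left, hww, hww', one_mul, mul_one, left_eq_add] at h1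
    exact Prod.ext (OG.ext fun x => by rw [e', h1]; simp) hr.1.2
  have hLD : ∀ l ∈ K, l.1.1 w' = w' → ∀ x ∈ perp Q D, l.1.1 x ∈ perp Q D := fun l hl e x hx => by
    obtain ⟨h1, h2⟩ := (hmem l).mp hl
    have h3 := H.map h1 x w
    have h4 := H.map h1 x w'
    rw [h2, ((hDp x).mp hx).1, map_zero] at h3
    rw [e, ((hDp x).mp hx).2, map_zero] at h4
    exact (hDp _).mpr ⟨h3, h4⟩
  have hM : ∀ x ∈ perp Q D, Pos (sn Q) (KR Q ⊥ (RE F V σ) ({w, w'} ∪ {x})) := fun x hx =>
    H.pos_stab IH (by simp) hw0 hD hx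
  have hpol : ∀ u (c : E), ∀ x ∈ perp Q D, polar Q (w' + (u + c • w)) x = polar Q u x :=
    fun u c x hx => by
      rw [polar_add_left, polar_add_left, hx w' ((hDm _).mpr ⟨0, 1, by simp⟩),
        hx (c • w) ((hDm _).mpr ⟨c, 0, by simp⟩)]; simp
  have hsurj : ∀ u ∈ perp Q D, ∃ r ∈ R, ∃ c : E, r.1.1 w' = w' + (u + c • w) := fun u hu => by
    obtain ⟨c, hc⟩ := H.exists_trace (H.symm u u).symm
    refine ⟨_, hsieg ((hDp u).mp hu).1 hc, c, ?_⟩
    rw [H.sieg_apply, H.symm_zero ((hDp u).mp hu).2, hww', zero_smul, add_zero, one_smul]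
  by_cases hA : ∀ r ∈ R, r.1.1 w' ∈ D → η r = η 1
  · refine tw_ne_geo H.two H.nd hW (Submodule.span_mono (by simp)) ((hDm _).mpr ⟨0, 1, by simp⟩) hK
      (fun k hk x hx => ?_) hKL hLD (N := perp Q D) (fun u hu => ?_) (fun r hr => ?_)
      (fun x hx => ⟨_, hM x hx, fun l => ?_⟩) hη hA
    · obtain ⟨e, rfl⟩ := (hWm x).mp hx
      rw [hlin k hk, ((hmem k).mp hk.1).2]
    · obtain ⟨r, hr, c, e⟩ := hsurj u hu
      exact ⟨r, hr, fun x hx => by rw [e, hpol u c x hx]⟩
    · obtain ⟨u, hu, c, -, e⟩ := hKw r hr.1.1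
      exact ⟨u, hu, fun x hx => by rw [e, hpol u c x hx]⟩
    · rw [hmem, H.mem_bot]
      simp only [Set.union_singleton, Set.mem_insert_iff, Set.mem_singleton_iff, forall_eq_or_imp,
        forall_eq]
      refine ⟨fun ⟨h1, h2, h3, h4⟩ => ⟨⟨h1, h3⟩, h4, fun u _ => by rw [h2]⟩,
        fun ⟨h1, h2, h3⟩ => ⟨h1.1, sub_eq_zero.mp (Submodule.disjoint_def.mp hD.disjoint _ ?_
          (sub_mem (hLD l ((hmem l).mpr h1) h2 x hx) hx)), h1.2, h2⟩⟩
      rw [← H.nd.perp_perp D]
      exact fun u hu => by rw [polar_sub_right, h3 u hu, sub_self]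
  push Not at hA
  obtain ⟨z₁, hz₁, hz₁D, hz₁η⟩ := hA
  have hRK : R ≤ ev (sn Q) K := fun r hr => hr.1
  obtain ⟨θ, hθ, hθη⟩ := exists_below hη hRK
  have hθz : θ z₁ ≠ θ 1 := fun e => by
    obtain ⟨ω, -, h1⟩ := (Char.isCharacter_norm_eq_iff hη.ch.c ⟨z₁, hz₁.1⟩).mp
      (hη.norm_of_comm hz₁.1 fun x hx => (hZc z₁ hz₁ hz₁D).2 x hx.1)
    have h2 : ∀ r ∈ R, θ (z₁ * r) = θ r := fun r hr =>
      (Char.mem_charKer_iff hθ.ch.c (g := ⟨z₁, hz₁⟩)).mpr e ⟨r, hr⟩
    have h3 := avg_mul_left hz₁ (fun r => η r * (starRingEnd ℂ) (θ r))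
    rw [avg_congr (g := fun r => ω * (η r * (starRingEnd ℂ) (θ r))) fun r hr => by
      rw [h2 r hr, show η (z₁ * r) = ω * η r from h1 ⟨r, hr.1⟩, mul_assoc], avg_mul] at h3
    have h4 := h1 1
    rw [mul_one, (mul_eq_right₀ hθη).mp h3, one_mul] at h4
    exact hz₁η h4
  have hU : IsCompl (perp Q D) (perp Q (perp Q D)) := by rw [H.nd.perp_perp]; exact hD.symm
  let a₀ : OG Q := H.mkU (LinearMap.lsmul E V α) fun x y => by
    simp only [LinearMap.lsmul_apply, H.smul_left, H.smul_right, ← mul_assoc, H.un, one_mul]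
  let z : OG Q := extO hU (resO a₀ fun x hx => H.smul_mem_perp α hx)
  have hz1 : ∀ x ∈ perp Q D, z.1 x = α • x := fun x hx => extO_mem hU _ ⟨x, hx⟩
  have hz2 : ∀ x ∈ D, z.1 x = x := fun x hx => extO_perp hU _ (le_perp_perp D hx)
  have hLm : ∀ l, l ∈ KR Q ⊥ (RE F V σ) ({w, w'} ∪ {0}) ↔ l ∈ K ∧ l.1.1 w' = w' := fun l => by
    rw [hmem, H.mem_bot]; simp [and_assoc]
  have hwD : w ∈ D := (hDm _).mpr ⟨1, 0, by simp⟩
  have hw'D : w' ∈ D := (hDm _).mpr ⟨0, 1, by simp⟩
  refine tw_ne_of_heis hRK (fun l hl => ((hLm l).mp hl).1) (RR_normal hW hK) (fun k hk => ?_)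
    (fun r hr hl => hR1 r hr ((hLm r).mp hl).2) (fun r => ⟨2, Subtype.ext ?_⟩) (z := (z, 1))
    ⟨(hLm _).mpr ⟨(hmem _).mpr ⟨fun e x => ?_, hz2 w hwD⟩, hz2 w' hw'D⟩, rfl⟩ ?_ (fun l hl => ?_)
    (fun r hr e => (hZc r hr ?_).2) hη hθ hθη (fun r hr h0 => hZc r hr ?_) (hM 0 (zero_mem _))
  · obtain ⟨r, hr, e⟩ := hKL k hk
    exact ⟨r, hr, r⁻¹ * k, (hLm _).mpr ⟨mul_mem (inv_mem hr.1.1) hk, by
      rw [Prod.fst_mul, OG.mul_apply, ← e, Prod.fst_inv, OG.inv_apply_apply]⟩, by group⟩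
  · obtain ⟨u, hu, c, -, e⟩ := hKw r r.2.1.1
    have h1 := (hZc _ (mul_mem r.2 r.2) ((hDm _).mpr ⟨h u u, 1, by
      rw [Prod.fst_mul, OG.mul_apply, e, map_add, map_add, hlin _ r.2.1, hRw _ r.2,
        hRx _ r.2 u hu c e u hu, e]
      have : (2 : E) • (u + c • w) = 0 := by rw [H.twoE, zero_smul]
      linear_combination (norm := module) -this⟩)).1
    simpa [pow_succ, mul_assoc] using h1
  · obtain ⟨a, ha, b, hb, rfl⟩ := Submodule.mem_sup.mp (hD.sup_eq_top ▸ Submodule.mem_top (x := x))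
    rw [smul_add, map_add, map_add, hz2 a ha, hz2 _ (Submodule.smul_mem (Submodule.span E _) e ha),
      hz1 b hb, hz1 _ (H.smul_mem_perp e hb), ts_one, smul_add, smul_comm]
  · obtain ⟨n, hn, e⟩ := H.odd
    refine hn.of_dvd_nat (orderOf_dvd_of_pow_eq_one (Prod.ext ?_ (one_pow n)))
    have h1 : ∀ m : ℕ, (∀ x ∈ D, (z ^ m).1 x = x) ∧ ∀ x ∈ perp Q D, (z ^ m).1 x = α ^ m • x :=
      fun m => by
        induction m with
        | zero => exact ⟨fun _ _ => rfl, fun x _ => (one_smul E x).symm.trans (by simp)⟩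
        | succ m ih => exact ⟨fun x hx => by rw [pow_succ, OG.mul_apply, hz2 x hx, ih.1 x hx],
            fun x hx => by
              rw [pow_succ, OG.mul_apply, hz1 x hx, ih.2 _ (H.smul_mem_perp α hx), pow_succ,
                mul_smul]⟩
    exact eq_of_isCompl hD (h1 n).1 fun x hx => by rw [Prod.pow_fst, (h1 n).2 x hx, e, one_smul]; rfl
  · obtain ⟨h1, h2⟩ := (hLm l).mp hl
    have h3 : ∀ x ∈ D, l.1.1 x ∈ D := fun x hx => by
      rw [← H.nd.perp_perp D] at hx ⊢
      exact map_perp_of_map _ (hLD l h1 h2) hx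
    rcases Int.units_eq_one_or l.2 with h4 | h4
    · rw [act_even h4, mul_inv_eq_iff_eq_mul]
      refine Prod.ext (eq_of_isCompl hD (fun x hx => ?_) fun x hx => ?_) (mul_comm _ _)
      · rw [Prod.fst_mul, Prod.fst_mul, OG.mul_apply, OG.mul_apply, hz2 x hx, hz2 _ (h3 x hx)]
      · rw [Prod.fst_mul, Prod.fst_mul, OG.mul_apply, OG.mul_apply, hz1 x hx,
          hz1 _ (hLD l h1 h2 x hx), hlin l ⟨h1, h4⟩]
    · rw [act_odd h4, mul_inv_eq_iff_eq_mul, mul_inv_eq_iff_eq_mul]
      refine Prod.ext (eq_of_isCompl hD (fun x hx => ?_) fun x hx => ?_) (by simp)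
      · simp only [Prod.fst_mul, OG.mul_apply, hz2 x hx, hz2 _ (h3 x hx)]
      · simp only [Prod.fst_mul, OG.mul_apply, hz1 x hx]
        rw [hz1 _ (hLD l h1 h2 _ (H.smul_mem_perp α hx)), ((hmem l).mp h1).1, h4, ts_neg,
          ← mul_smul, H.un, one_smul]
  · obtain ⟨u, hu, c, -, e'⟩ := hKw r hr.1.1
    have h1 := congrArg (fun k : OG Q × ℤˣ => k.1.1 w') e
    simp only [Prod.fst_mul, OG.mul_apply, hz2 w' hw'D, e', map_add, hz1 u hu,
      hz2 (c • w) ((hDm _).mpr ⟨c, 0, by simp⟩), add_right_inj, add_left_inj] at h1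
    obtain ⟨b, hb⟩ := H.exists_inv
    have h2 : u = 0 := by
      rw [← one_smul E u, ← hb, mul_comm, mul_smul, add_smul, ← h1, one_smul, ← two_smul E, H.twoE]
      simp
    rw [e', h2]
    exact (hDm _).mpr ⟨c, 1, by simp [add_comm]⟩
  · obtain ⟨u, hu, c, -, e⟩ := hKw r hr.1.1
    by_cases hu0 : u = 0
    · rw [e, hu0]
      exact (hDm _).mpr ⟨c, 1, by simp [add_comm]⟩
    refine (h0 ?_).elim
    obtain ⟨a, ha, ez⟩ := hZ z₁ hz₁ hz₁D
    obtain ⟨v, hv, h1⟩ : ∃ v ∈ perp Q D, polar Q v u ≠ 0 := by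
      by_contra hc
      push Not at hc
      exact hu0 (Submodule.disjoint_def.mp hU.disjoint u hu hc)
    have h2 : σ (h v u + σ (h v u)) = h v u + σ (h v u) := by rw [map_add, H.inv, add_comm]
    obtain ⟨b, hb⟩ := ((H.fld _ h2).resolve_left fun h3 => h1 (by
      obtain ⟨d, hd⟩ := H.exists_trace (c := h v u) (by linear_combination h3 - h v u * H.twoE)
      rw [H.pol, ← hd, map_add, H.τσ, ← two_mul, H.two, zero_mul])).exists_right_inv
    have h3 : σ b = b := by
      have := congrArg σ hb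
      rw [map_mul, h2, map_one] at this
      linear_combination b * this - σ b * hb
    have hu' := H.smul_mem_perp (a * b) hv
    obtain ⟨r', hr', c', e'⟩ := hsurj _ hu'
    have h4 : r' * r = z₁ * (r * r') := by
      rw [← inv_mul_eq_one]
      refine hR1 _ (mul_mem (inv_mem (mul_mem hr' hr)) (mul_mem hz₁ (mul_mem hr hr'))) ?_
      rw [Prod.fst_mul, OG.mul_apply, Prod.fst_inv, OG.inv_apply_eq_iff]
      simp only [Prod.fst_mul, OG.mul_apply, ez, e, e', map_add, hlin r hr.1 c', hlin r' hr'.1 c,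
        hRw r hr, hRw r' hr', hRx r hr u hu c e _ hu', hRx r' hr' _ hu' c' e' u hu,
        H.add_left, H.smul_left, H.smul_right, hw, hww', ((hDp u).mp hu).1, ((hDp v).mp hv).1,
        map_mul, ha, h3, show h u v = σ (h v u) from H.symm v u]
      have h5 : (a * b * h v u + a - a * b * σ (h v u)) • w = 0 := by
        rw [show a * b * h v u + a - a * b * σ (h v u) = 0 by
          linear_combination a * hb + (a - a * b * σ (h v u)) * H.twoE, zero_smul]
      linear_combination (norm := module) h5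
    have h5 := Char.irr_one_mul_apply_central_mul hθ.c (z := ⟨z₁, hz₁⟩)
      (Subgroup.mem_center_iff.mpr fun x => Subtype.ext ((hZc z₁ hz₁ hz₁D).2 x x.2.1.1)) ⟨r, hr⟩
    have h6 : θ (z₁ * r) = θ r := by
      rw [← hθ.ch.conj_eq hr' hr, h4]; congr 1; group
    change θ 1 * θ (z₁ * r) = θ z₁ * θ r at h5
    rw [h6] at h5
    exact (mul_eq_mul_right_iff.mp h5).resolve_left hθz.symm

end HD

/-- Vector stabilizers in the hermitian case. -/
theorem HS.pos [FiniteDimensional F V] [Finite F] [FiniteDimensional F E] (H : HS Q σ α)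
    (IH : ∀ D : Submodule F V, D ≠ ⊥ → IsCompl D (perp Q D) →
      (∀ e : E, ∀ x ∈ perp Q D, e • x ∈ perp Q D) → ∀ x ∈ perp Q D,
      Pos (sn Q) (KR Q D (RE F V σ) {x}))
    {w : V} (hw0 : w ≠ 0) : Pos (sn Q) (KR Q ⊥ (RE F V σ) {w}) := by
  obtain ⟨τ, h, H⟩ := H.exists_hd
  rcases H.fld _ (H.symm w w).symm with hw | hw
  swap
  · have := H.pos_stab IH (T := {w}) rfl hw0 (isCompl_of_nd H.nd fun x hx hx' => by
      obtain ⟨e, rfl⟩ := Submodule.mem_span_singleton.mp hx
      have := H.mem_perp.mp hx' w rfl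
      rw [H.smul_left, hw.mul_left_eq_zero] at this
      simp [this]) (zero_mem _)
    convert this using 1
    ext k; simp [H.mem_bot]
  intro η hη h1
  obtain ⟨t, ht, hs⟩ := hasOdd_of_tw (η := η) (by rw [h1]; norm_num)
  obtain ⟨h2, h3⟩ := H.mem_bot.mp ht
  have h4 : LinearMap.ker ((LinearMap.toSpanSingleton E V w).restrictScalars F) = ⊥ :=
    eq_bot_iff.mpr fun e he => H.eq_zero_of_ideal (LinearMap.ker (LinearMap.toSpanSingleton E V w))
      (fun e he => by
        have := h2 e w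
        rwa [show e • w = 0 from he, map_zero, h3 w rfl, show t.2 = -1 from hs, eq_comm] at this)
      (fun h => hw0 (by simpa using (Ideal.eq_top_iff_one _).mp h)) he
  obtain ⟨g, hg⟩ := LinearMap.exists_leftInverse_of_injective _ h4
  obtain ⟨v, hv⟩ := Class.exists_sesq_eq_dual (σ := RingHom.id F) Function.surjective_id
    (polarBilin Q) (fun y hy => H.nd y fun x => (polar_comm _ _ _).trans (hy x)) (τ ∘ₗ g)
  have h5 : h w v = 1 := H.eq_of fun e => by
    rw [one_mul, polar_comm]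
    exact ((LinearMap.congr_fun hv (e • w)).trans (congrArg τ (LinearMap.congr_fun hg e))).symm
  obtain ⟨d, hd⟩ := H.exists_trace (H.symm v v).symm
  refine H.pos_isotropic IH hw0 hw (w' := v + d • w) ?_ ?_ η hη h1
  · simp only [H.add_left, H.add_right, H.smul_left, H.smul_right, hw, h5, H.symm w v, map_one]
    linear_combination hd + h v v * H.twoE
  · simp [H.add_right, H.smul_right, hw, h5]

end Cfsg.Agent.FSI
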