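import Cfsg.Agent.FSI.Geo3
import Cfsg.Agent.Perm.PermModule

/-!
# Twisted indicators of centralizers in orthogonal groups of characteristic two
-/

set_option autoImplicit false
set_option linter.dupNamespace false
set_option linter.unusedSectionVars false

namespace Cfsg.Agent.FSI

open Cfsg Cfsg.Agent.Class.Orth QuadraticMap Module

universe u

section

variable {F V : Type*} [Field F] [AddCommGroup V] [Module F V] {Q : QuadraticForm F V}

/-- The relation given by an isometry. -/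
def pw (a : OG Q) (ε : ℤˣ) : Module.End F V := (a ^ (ε : ℤ)).1.toLinearMap

theorem pw_apply (a : OG Q) (ε : ℤˣ) (x : V) : pw a ε x = (a ^ (ε : ℤ)).1 x := rfl

theorem pw_one (a : OG Q) (x : V) : pw a 1 x = a.1 x := by simp [pw_apply]

theorem pw_neg (a : OG Q) (x : V) : pw a (-1) x = (a⁻¹).1 x := by simp [pw_apply]

/-- Commuting isometries of odd order. -/
def Adm (S : Set (OG Q)) : Prop := (∀ a ∈ S, Odd (orderOf a)) ∧ ∀ a ∈ S, ∀ b ∈ S, a * b = b * a

theorem rel_iff {a : OG Q} {k : OG Q × ℤˣ} :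
    (∀ ε x, k.1.1 (pw a ε x) = pw a (k.2 * ε) (k.1.1 x)) ↔ act (sn Q) k (a, 1) = (a, 1) := by
  constructor
  · intro h
    rw [act, mul_inv_eq_iff_eq_mul]
    refine Prod.ext (OG.ext fun x => ?_) (by simp)
    have := h k.2 x
    rwa [Int.units_mul_self, pw_one] at this
  · intro h ε x
    have h1 : k.1 * a ^ (k.2 : ℤ) * k.1⁻¹ = a := congrArg Prod.fst h
    have h2 : k.1 * a ^ (ε : ℤ) = a ^ ((k.2 * ε : ℤˣ) : ℤ) * k.1 := by
      conv_rhs => rw [← h1, conj_zpow, ← zpow_mul, ← Units.val_mul, ← mul_assoc,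
        Int.units_mul_self, one_mul, inv_mul_cancel_right]
    exact congrArg (fun g : OG Q => g.1 x) h2

theorem mem_KS {S : Set (OG Q)} {w : V} {k : OG Q × ℤˣ} : k ∈ KR Q ⊥ (pw '' S) {w} ↔
    (∀ a ∈ S, act (sn Q) k (a, 1) = (a, 1)) ∧ k.1.1 w = w := by
  rw [mem_KR_bot]
  simp only [Set.forall_mem_image, rel_iff, Set.mem_singleton_iff, forall_eq]

theorem inv_mem_of_map [FiniteDimensional F V] {U : Submodule F V} (g : OG Q)
    (hg : ∀ x ∈ U, g.1 x ∈ U) {x : V} (hx : x ∈ U) : (g⁻¹).1 x ∈ U := by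
  obtain ⟨z, hz⟩ := (resO g hg).1.surjective ⟨x, hx⟩
  rw [← show g.1 z = x from congrArg Subtype.val hz, OG.inv_apply_apply]
  exact z.2

theorem pw_mem [FiniteDimensional F V] {U : Submodule F V} (g : OG Q)
    (hg : ∀ x ∈ U, g.1 x ∈ U) (ε : ℤˣ) {x : V} (hx : x ∈ U) : pw g ε x ∈ U := by
  rcases Int.units_eq_one_or ε with rfl | rfl
  · rw [pw_one]; exact hg x hx
  · rw [pw_neg]; exact inv_mem_of_map g hg hx

/-- The enveloping algebra. -/
abbrev EA (S : Set (OG Q)) : Subalgebra F (Module.End F V) :=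
  Algebra.adjoin F ((fun a => pw a 1) '' S)

theorem Adm.comm {S : Set (OG Q)} (h : Adm S) : IsMulCommutative (EA S) :=
  Algebra.isMulCommutative_adjoin F (by
    rintro _ ⟨a, ha, rfl⟩ _ ⟨b, hb, rfl⟩
    ext x
    simp only [Module.End.mul_apply, pw_one, ← OG.mul_apply, h.2 a ha b hb])

theorem Adm.mcomm {S : Set (OG Q)} (h : Adm S) {e f : Module.End F V} (he : e ∈ EA S)
    (hf : f ∈ EA S) : e * f = f * e :=
  congrArg Subtype.val (h.comm.is_comm.comm (⟨e, he⟩ : EA S) ⟨f, hf⟩)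

theorem pw_pow (a : OG Q) (n : ℕ) : pw a 1 ^ n = pw (a ^ n) 1 := by
  induction n with
  | zero => ext x; simp [pw_one]
  | succ n ih => ext x; simp only [pow_succ, ih, Module.End.mul_apply, pw_one, OG.mul_apply]

theorem Adm.pwm {S : Set (OG Q)} (h : Adm S) {a : OG Q} (ha : a ∈ S) (ε : ℤˣ) :
    pw a ε ∈ EA S := by
  have h1 : pw a 1 ∈ EA S := Algebra.subset_adjoin ⟨a, ha, rfl⟩
  rcases Int.units_eq_one_or ε with rfl | rfl
  · exact h1
  · have h2 : a⁻¹ = a ^ (orderOf a - 1) := inv_eq_of_mul_eq_one_right (by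
      rw [← pow_succ', Nat.sub_add_cancel (h.1 a ha).pos, pow_orderOf_eq_one])
    convert pow_mem h1 (orderOf a - 1)
    ext x; rw [pw_pow, pw_neg, pw_one, h2]

theorem Adm.exists_adj {S : Set (OG Q)} (h : Adm S) {e : Module.End F V} (he : e ∈ EA S) :
    ∃ e' ∈ EA S, ∀ x y, polar Q (e x) y = polar Q x (e' y) := by
  induction he using Algebra.adjoin_induction with
  | mem x hx =>
    obtain ⟨a, ha, rfl⟩ := hx
    exact ⟨_, h.pwm ha (-1), fun x y => by rw [pw_one, pw_neg, OG.polar_apply_left]⟩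
  | algebraMap r => exact ⟨_, algebraMap_mem _ r, fun x y => by simp⟩
  | add e f _ _ he hf =>
    obtain ⟨e', h1, h2⟩ := he
    obtain ⟨f', h3, h4⟩ := hf
    exact ⟨e' + f', add_mem h1 h3, fun x y => by simp [h2, h4]⟩
  | mul e f _ _ he hf =>
    obtain ⟨e', h1, h2⟩ := he
    obtain ⟨f', h3, h4⟩ := hf
    exact ⟨f' * e', mul_mem h3 h1, fun x y => by simp [h2, h4]⟩

theorem adj_unique (hQ : ND Q) {e e' e'' : Module.End F V}
    (h1 : ∀ x y, polar Q (e x) y = polar Q x (e' y))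
    (h2 : ∀ x y, polar Q (e x) y = polar Q x (e'' y)) : e' = e'' := by
  ext y
  refine sub_eq_zero.mp (hQ _ fun x => ?_)
  rw [polar_sub_left, polar_comm Q (e' y), polar_comm Q (e'' y), ← h1, ← h2, sub_self]

theorem Adm.exists_sigma (hQ : ND Q) {S : Set (OG Q)} (h : Adm S) :
    ∃ σ : EA S →+* EA S, ∀ (e : EA S) x y, polar Q (e.1 x) y = polar Q x ((σ e).1 y) := by
  choose f hf hf' using fun e : EA S => h.exists_adj e.2
  refine ⟨{ toFun := fun e => ⟨f e, hf e⟩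
            map_one' := Subtype.ext (adj_unique hQ (hf' 1) fun _ _ => rfl)
            map_mul' := fun a b => Subtype.ext (adj_unique hQ (hf' _) fun x y => ?_)
            map_zero' := Subtype.ext (adj_unique hQ (hf' 0) fun _ _ => by simp)
            map_add' := fun a b => Subtype.ext (adj_unique hQ (hf' _) fun x y => by
              simp [hf']) }, hf'⟩
  change polar Q ((a.1 * b.1) x) y = polar Q x ((f a * f b) y)
  rw [h.mcomm (hf a) (hf b)]
  simp [hf']

theorem add_pow_two_pow {A : Type*} [Ring A] (h2 : (2 : A) = 0) {x y : A} (h : Commute x y)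
    (n : ℕ) : (x + y) ^ 2 ^ n = x ^ 2 ^ n + y ^ 2 ^ n := by
  induction n with
  | zero => simp
  | succ n ih =>
    rw [pow_succ 2 n, pow_mul, pow_mul, pow_mul, ih, (h.pow_pow _ _).add_sq, h2]; simp

theorem pow_two_pow_mul {A : Type*} [Monoid A] {x : A} {n : ℕ} (h : x ^ 2 ^ n = x) (k : ℕ) :
    x ^ 2 ^ (n * k) = x := by
  induction k with
  | zero => simp
  | succ k ih => rw [Nat.mul_succ, pow_add, pow_mul, ih, h]

theorem exists_pow_two_pow_of_odd {A : Type*} [Monoid A] {x : A} {m : ℕ} (hm : Odd m)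
    (h : x ^ (m + 1) = x) : ∃ n, 0 < n ∧ x ^ 2 ^ n = x := by
  refine ⟨m.totient, Nat.totient_pos.mpr hm.pos, ?_⟩
  obtain ⟨k, hk⟩ := (Nat.modEq_iff_dvd' Nat.one_le_two_pow).mp
    (Nat.ModEq.pow_totient (Nat.coprime_two_left.mpr hm)).symm
  rw [← Nat.sub_add_cancel (Nat.one_le_two_pow (n := m.totient)), hk]
  clear hk
  induction k with
  | zero => simp
  | succ k ih => rw [Nat.mul_succ, add_assoc, pow_add, h, ← pow_succ, ih]

theorem Adm.exists_pow [Finite F] (h2 : (2 : F) = 0) {S : Set (OG Q)} (h : Adm S)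
    {e : Module.End F V} (he : e ∈ EA S) : ∃ n, 0 < n ∧ e ^ 2 ^ n = e := by
  induction he using Algebra.adjoin_induction with
  | mem x hx =>
    obtain ⟨a, ha, rfl⟩ := hx
    exact exists_pow_two_pow_of_odd (h.1 a ha) (by rw [pw_pow, pow_succ, pow_orderOf_eq_one, one_mul])
  | algebraMap r =>
    have := Fintype.ofFinite F
    have : CharP F 2 := CharTwo.of_one_ne_zero_of_two_eq_zero one_ne_zero h2
    obtain ⟨n, -, hn⟩ := FiniteField.card F 2
    exact ⟨n, n.2, by rw [← map_pow, ← hn, FiniteField.pow_card]⟩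
  | add e f he' hf' he hf =>
    obtain ⟨n, hn, h3⟩ := he
    obtain ⟨m, hm, h4⟩ := hf
    refine ⟨n * m, Nat.mul_pos hn hm, ?_⟩
    rw [add_pow_two_pow (by rw [← map_ofNat (algebraMap F _) 2, h2, map_zero]) (h.mcomm he' hf'),
      pow_two_pow_mul h3, mul_comm n, pow_two_pow_mul h4]
  | mul e f he' hf' he hf =>
    obtain ⟨n, hn, h3⟩ := he
    obtain ⟨m, hm, h4⟩ := hf
    refine ⟨n * m, Nat.mul_pos hn hm, ?_⟩
    rw [Commute.mul_pow (h.mcomm he' hf'), pow_two_pow_mul h3, mul_comm n, pow_two_pow_mul h4]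

variable [FiniteDimensional F V]

theorem Adm.KR_eq (hQ : ND Q) {S : Set (OG Q)} (h : Adm S) {σ : EA S →+* EA S}
    (hσ : ∀ (e : EA S) x y, polar Q (e.1 x) y = polar Q x ((σ e).1 y)) {D : Submodule F V}
    (hD : ∀ a ∈ S, ∀ x ∈ perp Q D, a.1 x ∈ perp Q D) {T : Set V} {k : OG Q × ℤˣ} :
    k ∈ KR Q D (pw '' S) T ↔ (∀ x ∈ D, k.1.1 x = x) ∧ (∀ e : EA S, ∀ x ∈ perp Q D,
      k.1.1 (e.1 x) = (if k.2 = 1 then e else σ e).1 (k.1.1 x)) ∧ ∀ t ∈ T, k.1.1 t = t := by
  have h1 : ∀ a (ha : a ∈ S) ε, σ ⟨_, h.pwm ha ε⟩ = ⟨_, h.pwm ha (-ε)⟩ := fun a ha ε =>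
    Subtype.ext (adj_unique hQ (hσ _) fun x y => by
      simp only [pw_apply, OG.polar_apply_left, Units.val_neg, zpow_neg])
  refine and_congr_right fun _ => and_congr_left fun _ => ⟨fun hk e => ?_, ?_⟩
  · obtain ⟨e, he⟩ := e
    suffices ∀ x ∈ perp Q D, e x ∈ perp Q D ∧ k.1.1 (e x) =
      (if k.2 = 1 then ⟨e, he⟩ else σ ⟨e, he⟩).1 (k.1.1 x) from fun x hx => (this x hx).2
    induction he using Algebra.adjoin_induction with
    | mem x hx =>
      obtain ⟨a, ha, rfl⟩ := hx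
      refine fun x hx => ⟨pw_mem a (hD a ha) 1 hx, ?_⟩
      rw [hk _ ⟨a, ha, rfl⟩ 1 x hx, h1 a ha 1]
      rcases Int.units_eq_one_or k.2 with h2 | h2 <;> simp [h2]
    | algebraMap r =>
      refine fun x hx => ⟨(perp Q D).smul_mem r hx, ?_⟩
      rw [show σ ⟨_, algebraMap_mem _ r⟩ = ⟨_, algebraMap_mem _ r⟩ from
        Subtype.ext (adj_unique hQ (hσ _) fun x y => by simp)]
      simp
    | add e f he' hf' he hf =>
      refine fun x hx => ⟨add_mem (he x hx).1 (hf x hx).1, ?_⟩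
      rw [LinearMap.add_apply, map_add, (he x hx).2, (hf x hx).2,
        show (⟨e + f, _⟩ : EA S) = ⟨e, he'⟩ + ⟨f, hf'⟩ from rfl, map_add]
      split_ifs <;> rfl
    | mul e f he' hf' he hf =>
      refine fun x hx => ⟨(he _ (hf x hx).1).1, ?_⟩
      rw [Module.End.mul_apply, (he _ (hf x hx).1).2, (hf x hx).2,
        show (⟨e * f, _⟩ : EA S) = ⟨e, he'⟩ * ⟨f, hf'⟩ from rfl, map_mul]
      split_ifs <;> rfl
  · rintro hk _ ⟨a, ha, rfl⟩ ε x hx
    rw [hk ⟨_, h.pwm ha ε⟩ x hx, h1 a ha ε]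
    rcases Int.units_eq_one_or k.2 with h2 | h2 <;> simp [h2]

variable [Finite F]

/-- The inductive hypothesis for twisted centralizers. -/
def IHA (Q : QuadraticForm F V) : Prop :=
  ∀ D : Submodule F V, D ≠ ⊥ → IsCompl D (perp Q D) → ∀ S : Set (OG Q), Adm S →
    (∀ a ∈ S, ∀ x ∈ perp Q D, a.1 x ∈ perp Q D) → ∀ x ∈ perp Q D,
      Pos (sn Q) (KR Q D (pw '' S) {x})

theorem Adm.pos_or (h2 : (2 : F) = 0) (hQ : ND Q) (IA : IHA Q) {S : Set (OG Q)} (h : Adm S) :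
    (∀ w, Pos (sn Q) (KR Q ⊥ (pw '' S) {w})) ∨ (∀ a ∈ S, a = 1) ∨
      ∀ w ≠ 0, Pos (sn Q) (KR Q ⊥ (pw '' S) {w}) := by
  obtain ⟨σ, hσ⟩ := h.exists_sigma hQ
  by_cases h3 : ∃ e : EA S, σ e = e ∧ LinearMap.ker e.1 ≠ ⊥ ∧ e ≠ 0
  · obtain ⟨e, he, h4, h5⟩ := h3
    refine Or.inl fun w => ?_
    obtain ⟨n, hn, h6⟩ := h.exists_pow h2 e.2
    let U := LinearMap.ker e.1
    have h7 : perp Q (LinearMap.range e.1) ≤ U := fun x hx => hQ _ fun y => by
      rw [hσ, he, polar_comm]; exact hx _ ⟨y, rfl⟩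
    have hU : IsCompl U (perp Q U) := isCompl_of_nd hQ fun x hx hx' => by
      have h8 := perp_anti h7 hx'
      rw [hQ.perp_perp] at h8
      obtain ⟨y, rfl⟩ := h8
      rw [← h6, ← Nat.sub_add_cancel (show 2 ≤ 2 ^ n from Nat.le_self_pow hn.ne' 2), pow_add,
        Module.End.mul_apply, pow_two, Module.End.mul_apply, show e.1 (e.1 y) = 0 from hx, map_zero]
    have hS : ∀ a ∈ S, ∀ x ∈ U, a.1 x ∈ U := fun a ha x hx => by
      have := LinearMap.congr_fun (h.mcomm e.2 (h.pwm ha 1)) x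
      exact (by simpa [pw_one, show e.1 x = 0 from hx] using this : e.1 (a.1 x) = 0)
    have hS' : ∀ a ∈ S, ∀ x ∈ perp Q U, a.1 x ∈ perp Q U := fun a ha x hx =>
      map_perp_of_map a (hS a ha) hx
    have hK : ∀ T, ∀ k ∈ KR Q ⊥ (pw '' S) T, ∀ x ∈ U, k.1.1 x ∈ U := fun T k hk x hx => by
      have := ((h.KR_eq hQ hσ (by simp [perp_bot'])).mp hk).2.1 e x (by simp [perp_bot'])
      rw [he, ite_self, show e.1 x = 0 from hx, map_zero] at this
      exact this.symm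
    obtain ⟨a, ha, b, hb, rfl⟩ := Submodule.mem_sup.mp (hU.sup_eq_top ▸ Submodule.mem_top (x := w))
    refine pos_split hQ hU (D := ⊥) (by simp [perp_bot']) (T := {a}) (T' := {b}) (by simpa using ha)
      (by simpa using hb) ?_ ?_ (fun k => ⟨fun hk => ⟨?_, hK _ k hk⟩, fun hk => ?_⟩)
      (IA _ (fun h8 => h5 ?_) (by rw [hQ.perp_perp]; exact hU.symm) S h (by rwa [hQ.perp_perp]) a
        (le_perp_perp U ha)) (by rw [bot_sup_eq]; exact IA _ h4 hU S h hS' b hb)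
    · rintro _ ⟨c, hc, rfl⟩ ε x hx
      exact pw_mem c (hS c hc) ε hx
    · rintro _ ⟨c, hc, rfl⟩ ε x hx
      exact pw_mem c (hS' c hc) ε (mem_perp_sup.mp hx).2
    · have h8 := hk.2.2 _ rfl
      have h9 : k.1.1 a - a = 0 := Submodule.disjoint_def.mp hU.disjoint _
        (sub_mem (hK _ k hk a ha) ha) (by
          rw [show k.1.1 a - a = b - k.1.1 b by rw [map_add] at h8; linear_combination (norm := abel) h8]
          exact sub_mem hb (map_perp_of_map _ (hK _ k hk) hb))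
      rw [sub_eq_zero] at h9
      refine ⟨hk.1, hk.2.1, ?_⟩
      rintro _ (rfl | rfl)
      · exact h9
      · rwa [map_add, h9, add_right_inj] at h8
    · refine ⟨hk.1.1, hk.1.2.1, ?_⟩
      rintro _ rfl
      rw [map_add, hk.1.2.2 a (Or.inl rfl), hk.1.2.2 b (Or.inr rfl)]
    · have := hU.sup_eq_top
      rw [h8, sup_bot_eq] at this
      exact Subtype.ext (LinearMap.ker_eq_top.mp this)
  refine Or.inr (or_iff_not_imp_left.mpr fun h4 w hw => ?_)
  push Not at h3 h4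
  obtain ⟨a, ha, ha1⟩ := h4
  have := h.comm
  let _ : CommRing (EA S) := { mul_comm := fun a b => Subtype.ext (h.mcomm a.2 b.2) }
  have h1 : σ ⟨_, h.pwm ha 1⟩ = ⟨_, h.pwm ha (-1)⟩ :=
    Subtype.ext (adj_unique hQ (hσ _) fun x y => by rw [pw_one, pw_neg, OG.polar_apply_left])
  have H : HS Q σ ⟨_, h.pwm ha 1⟩ :=
    { nd := hQ
      two := h2
      inv := fun e => Subtype.ext (adj_unique hQ (hσ _) fun x y => by
        rw [polar_comm, ← hσ, polar_comm])
      adj := hσ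
      faith := fun e he => Subtype.ext (LinearMap.ext he)
      fld := fun e he => or_iff_not_imp_left.mpr fun h0 => by
        obtain ⟨n, hn, h6⟩ := h.exists_pow h2 e.2
        have h7 : 2 ≤ 2 ^ n := Nat.le_self_pow hn.ne' 2
        refine IsUnit.of_pow_eq_one (n := 2 ^ n - 1) (Subtype.ext (LinearMap.ext fun x => ?_))
          (by omega)
        refine LinearMap.ker_eq_bot.mp (not_not.mp fun h8 => h0 (h3 e he h8)) ?_
        rw [← Module.End.mul_apply, SubmonoidClass.coe_pow, ← pow_succ',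
          Nat.sub_add_cancel (by omega), h6]
        rfl
      un := by
        rw [h1]
        exact Subtype.ext (LinearMap.ext fun x => by
          simp [pw_one, pw_neg])
      ne := fun h5 => ha1 (by
        rw [h1] at h5
        have h6 : a * a = 1 := OG.ext fun x => by
          have := LinearMap.congr_fun (congrArg Subtype.val h5) (a.1 x)
          simp only [Subalgebra.coe_add, LinearMap.add_apply, pw_one, pw_neg, OG.inv_apply_apply,
            Subalgebra.coe_zero, LinearMap.zero_apply] at this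
          have h7 : (2 : F) • x = 0 := by rw [h2, zero_smul]
          rw [OG.mul_apply, OG.one_apply]
          linear_combination (norm := module) this - h7
        obtain ⟨m, hm⟩ := h.1 a ha
        rw [← pow_orderOf_eq_one a, hm, pow_succ, pow_mul, pow_two, h6, one_pow, one_mul])
      iso := fun x => (congrArg Q (pw_one a x)).trans (OG.map_Q a x)
      odd := ⟨_, h.1 a ha, Subtype.ext (by
        rw [SubmonoidClass.coe_pow, pw_pow, pow_orderOf_eq_one]; ext x; simp [pw_one])⟩ }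
  have h5 : ∀ D : Submodule F V, (∀ a ∈ S, ∀ x ∈ perp Q D, a.1 x ∈ perp Q D) → ∀ T,
      KR Q D (RE F V σ) T = KR Q D (pw '' S) T := fun D hD T => by
    ext k
    rw [H.mem, h.KR_eq hQ hσ hD]
    refine and_congr_right fun _ => and_congr_left fun _ => forall_congr' fun e => ?_
    rcases Int.units_eq_one_or k.2 with h6 | h6 <;> simp only [h6] <;> rfl
  rw [← h5 _ (by simp [perp_bot'])]
  refine H.pos (fun D hD hD' he x hx => ?_) hw
  have h6 : ∀ a ∈ S, ∀ x ∈ perp Q D, a.1 x ∈ perp Q D := fun a ha x hx => by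
    rw [← pw_one]; exact he ⟨_, h.pwm ha 1⟩ x hx
  rw [h5 _ h6]
  exact IA D hD hD' S h h6 x hx

/-- The natural representation of a subgroup. -/
def natRep (P : Subgroup (OG Q × ℤˣ)) : Representation F P V :=
  LinearEquiv.automorphismGroup.toLinearMapMonoidHom.comp
    ((OG Q).subtype.comp ((MonoidHom.fst _ _).comp P.subtype))

theorem exists_fix (h2 : (2 : F) = 0) {P : Subgroup (OG Q × ℤˣ)} (hP : IsPGroup 2 P)
    (hV : ∃ v : V, v ≠ 0) : ∃ w ≠ 0, ∀ k ∈ P, k.1.1 w = w := by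
  have : CharP F 2 := CharTwo.of_one_ne_zero_of_two_eq_zero one_ne_zero h2
  obtain ⟨v, hv⟩ := hV
  obtain ⟨w, -, h1, h3⟩ := Perm.exists_fixed_vector_of_isPGroup hP (natRep P) ⊤
    (fun _ _ _ => trivial) ((Submodule.ne_bot_iff _).mpr ⟨v, trivial, hv⟩)
  exact ⟨w, h1, fun k hk => h3 ⟨k, hk⟩⟩

theorem exists_fix_sing (h2 : (2 : F) = 0) {P : Subgroup (OG Q × ℤˣ)} (hP : IsPGroup 2 P) {y : V}
    (hy : Q y ≠ 0) (hPy : ∀ k ∈ P, k.1.1 y = y) {v : V} (hv : polar Q y v = 0)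
    (hv' : v ∉ Submodule.span F {y}) :
    ∃ w ≠ 0, Q w = 0 ∧ polar Q y w = 0 ∧ ∀ k ∈ P, k.1.1 w = w := by
  have : CharP F 2 := CharTwo.of_one_ne_zero_of_two_eq_zero one_ne_zero h2
  obtain ⟨_, ⟨u, hu, rfl⟩, h1, h3⟩ := Perm.exists_fixed_vector_of_isPGroup hP
    ((natRep P).quotient (Submodule.span F {y}) fun g => Submodule.span_le.mpr (by
      intro z hz
      rw [hz]
      change g.1.1.1 y ∈ Submodule.span F {y}
      rw [hPy g g.2]
      exact Submodule.mem_span_singleton_self _))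
    ((perp Q (Submodule.span F {y})).map (Submodule.span F {y}).mkQ) (by
      rintro g _ ⟨u, hu, rfl⟩
      refine ⟨g.1.1.1 u, mem_perp_span_singleton.mpr ?_, rfl⟩
      rw [← hPy g g.2, OG.map_polar]; exact mem_perp_span_singleton.mp hu)
    ((Submodule.ne_bot_iff _).mpr ⟨_, ⟨v, mem_perp_span_singleton.mpr hv, rfl⟩, by simpa using hv'⟩)
  have hu' : polar Q u y = 0 := by rw [polar_comm]; exact mem_perp_span_singleton.mp hu
  obtain ⟨c, hc⟩ := exists_singular_add h2 hy hu'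
  have h4 : polar Q (u + c • y) y = 0 := by simp [hu', two_smul, ← two_mul, h2]
  refine ⟨u + c • y, fun h => h1 ?_, hc, by rwa [polar_comm], fun k hk => ?_⟩
  · rw [Submodule.mkQ_apply, Submodule.Quotient.mk_eq_zero, eq_neg_of_add_eq_zero_left h]
    exact neg_mem (Submodule.smul_mem _ _ (Submodule.mem_span_singleton_self _))
  · obtain ⟨d, hd⟩ := Submodule.mem_span_singleton.mp ((Submodule.Quotient.eq _).mp (h3 ⟨k, hk⟩))
    have h5 : k.1.1 (u + c • y) = u + c • y + d • y := by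
      rw [map_add, map_smul, hPy k hk, hd]
      change _ = u + c • y + (k.1.1 u - u)
      abel
    rw [h5, eq_zero_of_singular hy h4 (c := d) (h5 ▸ OG.map_Q _ _)]; simp

theorem pos_step (h2 : (2 : F) = 0) (hQ : ND Q) (IA : IHA Q)
    (IB : ∀ D : Submodule F V, D ≠ ⊥ → IsCompl D (perp Q D) → ∀ y ∈ perp Q D, ∀ x ∈ perp Q D,
      Q y ≠ 0 → Q x = 0 → polar Q y x = 0 → Pos (sn Q) (KR Q D ∅ {y, x})) {w : V}
    (hw : w = 0 → ∀ v ≠ 0, Pos (sn Q) (KR Q ⊥ ∅ {v})) (m : ℕ) :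
    ∀ S : Set (OG Q), Adm S → Nat.card (KR Q ⊥ (pw '' S) {w}) = m →
      Pos (sn Q) (KR Q ⊥ (pw '' S) {w}) := by
  have IA' : ∀ D : Submodule F V, D ≠ ⊥ → IsCompl D (perp Q D) → ∀ x ∈ perp Q D,
      Pos (sn Q) (KR Q D ∅ {x}) := fun D h3 h4 x hx => by
    simpa using IA D h3 h4 ∅ ⟨by simp, by simp⟩ (by simp) x hx
  induction m using Nat.strong_induction_on with
  | _ m ih =>
  intro S hS hm
  refine pos_of_bw fun a ha hao P hP hP2 => ?_
  obtain ⟨a, ε⟩ := a
  obtain rfl : ε = 1 := ha.2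
  have hS' : Adm (insert a S) := by
    have h3 : ∀ b ∈ S, a * b = b * a := fun b hb =>
      congrArg Prod.fst (comm_of_act ((mem_KS.mp ha.1).1 b hb) rfl)
    refine ⟨?_, ?_⟩
    · rintro b (rfl | hb)
      · exact hao.of_dvd_nat (orderOf_fst_dvd_orderOf)
      · exact hS.1 b hb
    · rintro b (rfl | hb) c (rfl | hc)
      exacts [rfl, h3 c hc, (h3 b hb).symm, hS.2 b hb c hc]
  have hmem : ∀ k, k ∈ KR Q ⊥ (pw '' insert a S) {w} ↔
      k ∈ cen (sn Q) (KR Q ⊥ (pw '' S) {w}) (a, 1) := fun k => by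
    change _ ↔ _ ∧ _
    simp only [mem_KS, Set.mem_insert_iff, forall_eq_or_imp]; tauto
  have hle : KR Q ⊥ (pw '' insert a S) {w} ≤ KR Q ⊥ (pw '' S) {w} := fun k hk => ((hmem k).mp hk).1
  have haM : (a, 1) ∈ KR Q ⊥ (pw '' insert a S) {w} :=
    (hmem _).mpr ⟨ha.1, by rw [act_even rfl, mul_inv_cancel_right]⟩
  have hPM : P ≤ KR Q ⊥ (pw '' insert a S) {w} := fun k hk => (hmem k).mpr (hP hk)
  suffices ∃ M ≤ KR Q ⊥ (pw '' insert a S) {w}, (a, 1) ∈ M ∧ P ≤ M ∧ Pos (sn Q) M by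
    obtain ⟨M, h3, h4⟩ := this
    exact ⟨M, h3.trans hle, h4⟩
  rcases hle.lt_or_eq with hlt | -
  · exact ⟨_, le_rfl, haM, hPM, ih _ (hm ▸ lt_of_le_of_ne (Subgroup.card_le_of_le hle) fun e =>
      hlt.ne (Subgroup.eq_of_le_of_card_ge hle e.ge)) _ hS' rfl⟩
  by_cases hV : ∃ v : V, v ≠ 0
  swap
  · push Not at hV
    exact ⟨_, le_rfl, haM, hPM, pos_of_sq fun k _ _ =>
      Prod.ext (OG.ext fun v => (hV _).trans (hV _).symm) (Int.units_mul_self _)⟩
  rcases hS'.pos_or h2 hQ IA with h3 | h3 | h3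
  · exact ⟨_, le_rfl, haM, hPM, h3 w⟩
  · have h4 : ∀ k, k ∈ KR Q ⊥ (pw '' insert a S) {w} ↔ k.1.1 w = w := fun k => by
      rw [mem_KS, and_iff_right]
      intro b hb
      rw [h3 b hb]; simp [act, Prod.mk_one_one]
    obtain rfl := h3 a (Or.inl rfl)
    by_cases hw0 : w = 0
    · obtain ⟨v, hv, h5⟩ := exists_fix h2 hP2 hV
      exact ⟨_, fun k _ => (h4 k).mpr (by simp [hw0]), one_mem _,
        fun k hk => by simpa [mem_KR_bot] using h5 k hk, hw hw0 v hv⟩
    by_cases hw1 : Q w = 0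
    · refine ⟨KR Q ⊥ ∅ {0, w}, fun k hk => (h4 k).mpr (hk.2.2 w (by simp)), one_mem _,
        fun k hk => ?_, pos_sing h2 hQ IA' IB (Or.inl rfl) hw0 hw1 (polar_zero_left _ _)⟩
      simpa [mem_KR_bot] using (h4 k).mp (hPM hk)
    by_cases h5 : ∃ v, polar Q w v = 0 ∧ v ∉ Submodule.span F {w}
    · obtain ⟨v, hv, hv'⟩ := h5
      obtain ⟨u, hu0, hu1, hu2, hu3⟩ :=
        exists_fix_sing h2 hP2 hw1 (fun k hk => (h4 k).mp (hPM hk)) hv hv'
      refine ⟨KR Q ⊥ ∅ {w, u}, fun k hk => (h4 k).mpr (hk.2.2 w (by simp)), one_mem _,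
        fun k hk => ?_, pos_sing h2 hQ IA' IB (Or.inr hw1) hu0 hu1 hu2⟩
      simpa [mem_KR_bot] using ⟨(h4 k).mp (hPM hk), hu3 k hk⟩
    · push Not at h5
      refine ⟨_, le_rfl, haM, hPM, pos_of_sq fun k hk _ =>
        Prod.ext (OG.ext fun v => ?_) (Int.units_mul_self _)⟩
      have h6 := (h4 k).mp hk
      obtain ⟨c, hc⟩ := Submodule.mem_span_singleton.mp (h5 (k.1.1 v - v) (by
        rw [polar_sub_right, ← h6, OG.map_polar, h6, sub_self]))
      have h7 : k.1.1 v = v + c • w := by rw [hc]; simp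
      rw [Prod.fst_mul, OG.mul_apply, h7, map_add, map_smul, h6, h7, add_assoc, ← two_smul F,
        h2, zero_smul, add_zero]
      rfl
  · by_cases hw0 : w = 0
    swap
    · exact ⟨_, le_rfl, haM, hPM, h3 w hw0⟩
    subst hw0
    obtain ⟨v, hv, h5⟩ := exists_fix h2 hP2 hV
    have h6 : ∀ k ∈ KR Q ⊥ (pw '' insert a S) {0}, act (sn Q) k (a, 1) = (a, 1) := fun k hk =>
      (mem_KS.mp hk).1 a (Or.inl rfl)
    have h7 : KR Q ⊥ (pw '' insert a S) {v} ≤ KR Q ⊥ (pw '' insert a S) {0} := fun k hk =>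
      mem_KS.mpr ⟨(mem_KS.mp hk).1, map_zero _⟩
    have h8 : KR Q ⊥ (pw '' insert a S) {v} ≤
        Subgroup.normalizer (Subgroup.zpowers ((a, 1) : OG Q × ℤˣ) : Set _) := le_norm (by
      rintro k hk _ ⟨n, rfl⟩
      refine ⟨(sn Q k : ℤ) * n, ?_⟩
      beta_reduce
      conv_lhs => rw [← h6 k (h7 hk), act, conj_zpow, ← zpow_mul, ← mul_assoc, ← Units.val_mul,
        Int.units_mul_self, Units.val_one, one_mul])
    have h9 := sup_le (Subgroup.zpowers_le.mpr haM) h7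
    refine ⟨_, h9, Subgroup.mem_sup_left (Subgroup.mem_zpowers _),
      fun k hk => Subgroup.mem_sup_right (mem_KS.mpr ⟨(mem_KS.mp (hPM hk)).1, h5 k hk⟩),
      (h3 v hv).of_central le_sup_right fun k hk => ?_⟩
    rw [← SetLike.mem_coe, Subgroup.coe_mul_of_right_le_normalizer_left _ _ h8] at hk
    obtain ⟨_, ⟨n, rfl⟩, l, hl, rfl⟩ := hk
    exact ⟨_, zpow_mem (show _ ∈ ev _ _ from
      ⟨Subgroup.mem_sup_left (Subgroup.mem_zpowers _), rfl⟩) n,
      fun x hx => Commute.zpow_right (comm_of_act (h6 x (h9 hx.1)) hx.2) n, l, hl, rfl⟩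

end

theorem pos_main {F : Type*} [Field F] [Finite F] (h2 : (2 : F) = 0) (n : ℕ) :
    ∀ {V : Type u} [AddCommGroup V] [Module F V] [FiniteDimensional F V] (Q : QuadraticForm F V),
      finrank F V = n → ND Q → (∀ S : Set (OG Q), Adm S → ∀ w, Pos (sn Q) (KR Q ⊥ (pw '' S) {w})) ∧
        ∀ y w, Q y ≠ 0 → Q w = 0 → polar Q y w = 0 → Pos (sn Q) (KR Q ⊥ ∅ {y, w}) := by
  induction n using Nat.strong_induction_on with
  | _ n ih =>
  intro V _ _ _ Q hn hQ
  have key := fun (D : Submodule F V) (h3 : D ≠ ⊥) (h4 : IsCompl D (perp Q D)) =>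
    ih _ (by
      have := hQ.finrank_perp D
      have := Submodule.finrank_eq_zero.not.mpr h3
      omega) (Q.comp (perp Q D).subtype) rfl (hQ.ndon_perp (U := D) fun x => by
      obtain ⟨a, ha, b, hb, rfl⟩ := Submodule.mem_sup.mp (h4.sup_eq_top ▸ Submodule.mem_top (x := x))
      exact ⟨a, ha, by simpa using hb⟩).nd_comp
  have IA : IHA Q := fun D h3 h4 S hS hD x hx => by
    have h5 : ∀ (a : OG Q) (a' : OG (Q.comp (perp Q D).subtype)),
        (∀ x : perp Q D, a.1 x = a'.1 x) → ∀ ε (x : perp Q D), pw a ε x = pw a' ε x :=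
      fun a a' h ε x => by
        rcases Int.units_eq_one_or ε with rfl | rfl
        · rw [pw_one, pw_one, h]
        · rw [pw_neg, pw_neg, OG.inv_apply_eq_iff, h, OG.apply_inv_apply]
    refine pos_bridge hQ h4 (R' := pw '' {a' | ∃ a ∈ S, ∀ x : perp Q D, a.1 x = a'.1 x})
      (T' := {⟨x, hx⟩}) ?_ ?_ (by simp) (by simp) ((key D h3 h4).1 _ ⟨?_, ?_⟩ _)
    · rintro _ ⟨a, ha, rfl⟩
      exact ⟨_, ⟨resO a (hD a ha), ⟨a, ha, fun _ => rfl⟩, rfl⟩, h5 _ _ fun _ => rfl⟩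
    · rintro _ ⟨a', ⟨a, ha, e⟩, rfl⟩
      exact ⟨_, ⟨a, ha, rfl⟩, h5 _ _ e⟩
    · rintro a' ⟨a, ha, e⟩
      have h6 : ∀ (m : ℕ) (x : perp Q D), (a ^ m).1 x = (a' ^ m).1 x := fun m => by
        induction m with
        | zero => exact fun _ => rfl
        | succ m ih => exact fun x => by rw [pow_succ, pow_succ, OG.mul_apply, OG.mul_apply, e, ih]
      refine (hS.1 a ha).of_dvd_nat (orderOf_dvd_of_pow_eq_one (OG.ext fun x => Subtype.ext ?_))
      rw [← h6, pow_orderOf_eq_one]; rfl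
    · rintro a' ⟨a, ha, e⟩ b' ⟨b, hb, e'⟩
      refine OG.ext fun x => Subtype.ext ?_
      rw [OG.mul_apply, OG.mul_apply, ← e, ← e', ← e', ← e, ← OG.mul_apply, hS.2 a ha b hb,
        OG.mul_apply]
  have IB : ∀ D : Submodule F V, D ≠ ⊥ → IsCompl D (perp Q D) → ∀ y ∈ perp Q D, ∀ x ∈ perp Q D,
      Q y ≠ 0 → Q x = 0 → polar Q y x = 0 → Pos (sn Q) (KR Q D ∅ {y, x}) :=
    fun D h3 h4 y hy x hx h5 h6 h7 => by
      have h8 : polar (Q.comp (perp Q D).subtype) ⟨y, hy⟩ ⟨x, hx⟩ = 0 := h7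
      have h9 := (key D h3 h4).2 ⟨y, hy⟩ ⟨x, hx⟩ h5 h6 h8
      exact pos_bridge hQ h4 (by simp) (by simp) (by simp) (by simp) h9
  have hA : ∀ S : Set (OG Q), Adm S → ∀ w, Pos (sn Q) (KR Q ⊥ (pw '' S) {w}) := fun S hS w =>
    pos_step h2 hQ IA IB (fun _ v hv => by
      simpa using pos_step h2 hQ IA IB (fun h => (hv h).elim) _ ∅ ⟨by simp, by simp⟩ rfl) _ S hS rfl
  refine ⟨hA, fun y w h3 h4 h5 => ?_⟩
  by_cases hw : w = 0
  · convert hA ∅ ⟨by simp, by simp⟩ y using 1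
    ext k; simp [mem_KR_bot, hw]
  · exact pos_sing h2 hQ (fun D h3 h4 x hx => by
      simpa using IA D h3 h4 ∅ ⟨by simp, by simp⟩ (by simp) x hx) IB (Or.inr h3) hw h4 h5

/-- Vector stabilizers in orthogonal groups of characteristic two have no irreducible character
of indicator `-1`. -/
theorem pos_vec {F V : Type*} [Field F] [Finite F] (h2 : (2 : F) = 0) [AddCommGroup V]
    [Module F V] [FiniteDimensional F V] {Q : QuadraticForm F V} (hQ : ND Q) (w : V) :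
    Pos (sn Q) (KR Q ⊥ ∅ {w}) := by
  simpa using (pos_main h2 _ Q rfl hQ).1 ∅ ⟨by simp, by simp⟩ w

end Cfsg.Agent.FSI
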