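import Cfsg.Agent.FSI.Cliff
import Cfsg.Agent.Char.Det
import Cfsg.Agent.Char.AmbExt
import Cfsg.Agent.Char.FSForm
import Cfsg.Agent.ExC.Char
import Cfsg.Agent.Block.DGNSolv

/-!
# Reduction modulo a Heisenberg-type normal subgroup for twisted indicators
-/

set_option autoImplicit false
set_option linter.dupNamespace false

namespace Cfsg.Agent.FSI

open Cfsg Cfsg.Agent.Char
open scoped ComplexConjugate

theorem detChar_conj {X : Type*} [Group X] [Finite X] {χ : X → ℂ} (h : IsCharacter X χ) (g : X) :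
    detChar (fun x => conj (χ x)) g = conj (detChar χ g) := by
  obtain ⟨n, M, rfl⟩ := exists_matrix_of_isCharacter h
  have h1 := detChar_character (matRep M)
  have h2 := detChar_character
    (matRep (((starRingEnd ℂ).mapMatrix (m := Fin n)).toMonoidHom.comp M))
  rw [character_matRep] at h1 h2
  rw [h1, show (fun x => conj (M x).trace) = _ from Eq.trans (funext fun x => by
    simp [Matrix.trace]) rfl |>.trans (rfl : (fun g => ((((starRingEnd ℂ).mapMatrix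
      (m := Fin n)).toMonoidHom.comp M) g).trace) = _), h2]
  simp only [matRep_apply, LinearMap.det_toLin']
  exact ((starRingEnd ℂ).map_det _).symm

variable {G : Type*} [Group G] {H R L : Subgroup G}

/-- Linear characters of a subgroup. -/
def Lin (H : Subgroup G) (b : G → ℂ) : Prop := Ch H b ∧ b 1 = 1

theorem Lin.exists_hom {b : G → ℂ} (h : Lin H b) : ∃ β : H →* ℂˣ, ∀ x : H, b x = β x := by
  obtain ⟨β, e⟩ := h.1.c.exists_linear h.2
  exact ⟨β, congrFun e⟩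

theorem lin_hom (β : H →* ℂˣ) : Lin H (extendByZero H fun x => β x) :=
  ⟨ch_ext (isCharacter_hom β), by rw [extendByZero_of_mem _ _ H.one_mem]; exact congrArg _ β.map_one⟩

theorem Lin.irr {b : G → ℂ} (h : Lin H b) : Irr H b := h.1.c.isIrr_of_one h.2

theorem Lin.map_mul {b : G → ℂ} (h : Lin H b) {x y : G} (hx : x ∈ H) (hy : y ∈ H) :
    b (x * y) = b x * b y := by
  obtain ⟨β, e⟩ := h.exists_hom
  rw [e ⟨x, hx⟩, e ⟨y, hy⟩, ← Units.val_mul, ← β.map_mul, ← e]; rfl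

theorem Lin.mono {b : G → ℂ} (h : Lin H b) (hL : L ≤ H) : Lin L b := ⟨h.1.mono hL, h.2⟩

theorem Lin.mul {b c : G → ℂ} (h : Lin H b) (h' : Lin H c) : Lin H (fun x => b x * c x) :=
  ⟨h.1.mul h'.1, by simp [h.2, h'.2]⟩

theorem Lin.pow {b : G → ℂ} (h : Lin H b) (n : ℕ) : Lin H (fun x => b x ^ n) :=
  ⟨h.1.c.pow n, by simp [h.2]⟩

variable [Finite G]

theorem Lin.conj {b : G → ℂ} (h : Lin H b) : Lin H (fun x => conj (b x)) :=
  ⟨h.1.conj, by simp [h.2]⟩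

theorem Lin.conj_mul {b : G → ℂ} (h : Lin H b) {x : G} (hx : x ∈ H) : conj (b x) * b x = 1 := by
  rw [← h.1.map_inv hx, ← h.map_mul (H.inv_mem hx) hx, inv_mul_cancel, h.2]

theorem Irr.mul_lin {η b : G → ℂ} (hη : Irr H η) (h : Lin H b) : Irr H (fun x => η x * b x) := by
  obtain ⟨β, e⟩ := h.exists_hom
  have := hη.c.mul_linear β
  simp only [← e] at this
  exact this

/-- The determinant of a character of a subgroup. -/
noncomputable def dt (H : Subgroup G) (ψ : G → ℂ) : G → ℂ :=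
  extendByZero H fun x => detHom (fun h : H => ψ h) x

omit [Finite G] in
theorem lin_dt (H : Subgroup G) (ψ : G → ℂ) : Lin H (dt H ψ) := lin_hom _

omit [Finite G] in
theorem dt_congr {ψ φ : G → ℂ} (h : ∀ x ∈ H, ψ x = φ x) : dt H ψ = dt H φ := by
  unfold dt
  rw [show (fun h : H => ψ h) = fun h : H => φ h from funext fun x => h x x.2]

theorem dt_mul {ψ b : G → ℂ} (hψ : Ch H ψ) (hb : Lin H b) {d : ℕ} (hd : ψ 1 = d) {x : G}
    (hx : x ∈ H) : dt H (fun g => b g * ψ g) x = b x ^ d * dt H ψ x := by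
  obtain ⟨β, e⟩ := hb.exists_hom
  simp only [dt, extendByZero_of_mem _ _ hx, e, detHom_hom_mul hψ.c β hd]
  rw [e ⟨x, hx⟩]; simp

variable {s : G →* ℤˣ} {K : Subgroup G}

theorem dt_st {ψ : G → ℂ} (hψ : Ch (ev s K) ψ) {t : G} (ht : t ∈ K) {x : G} (hx : x ∈ ev s K) :
    dt (ev s K) (st t ψ) x = conj (dt (ev s K) ψ (t * x * t⁻¹)) := by
  simp only [dt, extendByZero_of_mem _ _ hx, extendByZero_of_mem _ _ (conj_mem_ev ht hx),
    coe_detHom]
  have h1 := detChar_comp hψ.c (rs (MulAut.conj t).toMonoidHom fun _ hl => conj_mem_ev ht hl)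
  exact (detChar_conj (hψ.c.comp (rs (MulAut.conj t).toMonoidHom
    fun _ hl => conj_mem_ev ht hl)) ⟨x, hx⟩).trans (congrArg _ (congrFun h1 ⟨x, hx⟩))

theorem gal_inj (hRH : R ≤ H) (hn : ∀ h ∈ H, ∀ r ∈ R, h * r * h⁻¹ ∈ R) {τ β γ : G → ℂ}
    (hτ : Ch H τ) (hτR : Irr R τ) (hβ : Irr H β) (hβR : ∀ r ∈ R, β r = β 1) (hγ : Irr H γ)
    (hγR : ∀ r ∈ R, γ r = γ 1) (h : ∀ x ∈ H, β x * τ x = γ x * τ x) {x : G} (hx : x ∈ H) :
    β x = γ x := by
  have := Fintype.ofFinite H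
  have := normal_sub hn
  exact congrFun (gallagher_inj (N := R.subgroupOf H) hτ.c (hτR.sub hRH) hβ.c
    (fun n => hβR _ n.2) hγ.c (fun n => hγR _ n.2) (funext fun y => h y y.2)) ⟨x, hx⟩

theorem gal_surj (hRH : R ≤ H) (hn : ∀ h ∈ H, ∀ r ∈ R, h * r * h⁻¹ ∈ R) {τ η : G → ℂ}
    (hτ : Ch H τ) (hτR : Irr R τ) (hη : Irr H η) (h : inn R η τ ≠ 0) :
    ∃ β, Irr H β ∧ (∀ r ∈ R, β r = β 1) ∧ ∀ x ∈ H, η x = β x * τ x := by
  have := Fintype.ofFinite H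
  have := Fintype.ofFinite (R.subgroupOf H)
  have := normal_sub hn
  rw [inn_sub hRH] at h
  obtain ⟨β, h1, h2, h3⟩ := gallagher_surj (N := R.subgroupOf H) hτ.c (hτR.sub hRH) hη.c h
  refine ⟨_, irr_ex ⟨β, h1⟩, fun r hr => ?_, fun x hx => ?_⟩
  · rw [ex, extendByZero_of_mem _ _ (hRH hr), extendByZero_of_mem _ _ H.one_mem]
    exact h2 ⟨⟨r, hRH hr⟩, hr⟩
  · rw [ex, extendByZero_of_mem _ _ hx]
    exact (congrFun h3 ⟨x, hx⟩).symm

theorem exists_lin_mul (hRH : R ≤ H) (hn : ∀ h ∈ H, ∀ r ∈ R, h * r * h⁻¹ ∈ R) {τ η : G → ℂ}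
    (hτ : Ch H τ) (hτR : Irr R τ) (hη : Ch H η) (h : ∀ r ∈ R, η r = τ r) :
    ∃ b, Lin H b ∧ (∀ r ∈ R, b r = 1) ∧ ∀ x ∈ H, η x = b x * τ x := by
  have := Fintype.ofFinite H
  have := normal_sub hn
  obtain ⟨β, h1, h2⟩ := exists_hom_mul_of_extends (N := R.subgroupOf H) hτ.c (hτR.sub hRH) hη.c
    fun n => h _ n.2
  refine ⟨_, lin_hom β, fun r hr => ?_, fun x hx => ?_⟩
  · rw [extendByZero_of_mem _ _ (hRH hr), h1 _ hr]; rfl
  · rw [extendByZero_of_mem _ _ hx]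
    exact congrFun h2 ⟨x, hx⟩

omit [Finite G] in
theorem le_norm (hn : ∀ h ∈ H, ∀ r ∈ R, h * r * h⁻¹ ∈ R) : H ≤ Subgroup.normalizer (R : Set G) :=
  fun _ hh => Subgroup.mem_normalizer_iff.mpr fun r => (conj_mem_iff hn hh r).symm

omit [Finite G] in
theorem exists_lin_ext (hRH : R ≤ H) (hLH : L ≤ H) (hn : ∀ h ∈ H, ∀ r ∈ R, h * r * h⁻¹ ∈ R)
    (hH : ∀ h ∈ H, ∃ r ∈ R, ∃ l ∈ L, h = r * l) (hRL : ∀ x ∈ R, x ∈ L → x = 1) {γ : G → ℂ}
    (hγ : Lin L γ) : ∃ c, Lin H c ∧ (∀ r ∈ R, c r = 1) ∧ ∀ l ∈ L, c l = γ l := by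
  obtain ⟨μ, e⟩ := hγ.exists_hom
  obtain ⟨lam, h1, h2⟩ := exists_hom_ext_sup hRH hLH (le_norm hn) (fun h hh => by
    obtain ⟨r, hr, l, hl, rfl⟩ := hH h hh
    exact Subgroup.mul_mem_sup hr hl) μ fun v hv => by
      rw [show v = 1 from Subtype.ext (hRL _ hv v.2), map_one]
  refine ⟨_, lin_hom lam, fun r hr => ?_, fun l hl => ?_⟩
  · rw [extendByZero_of_mem _ _ (hRH hr), h1 _ hr]; rfl
  · rw [extendByZero_of_mem _ _ (hLH hl), e ⟨l, hl⟩, ← h2]; rfl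

theorem norm_sq_avg (hRH : R ≤ H) (hn : ∀ h ∈ H, ∀ r ∈ R, h * r * h⁻¹ ∈ R) {τ : G → ℂ}
    (hτ : Ch H τ) (hτR : Irr R τ) {z : G} (hz : z ∈ H) :
    avg R (fun r => τ (r * z) * conj (τ (r * z))) = 1 := by
  have := Fintype.ofFinite R
  rw [avg_eq]
  exact cin_self_of_irr (Subgroup.inclusion hRH) (Subgroup.inclusion_injective hRH) ⟨by
    rintro _ ⟨r, rfl⟩ g
    exact ⟨⟨_, hn g g.2 r r.2⟩, rfl⟩⟩ hτ.c hτR ⟨z, hz⟩

theorem exists_ext (hRH : R ≤ H) (hLH : L ≤ H) (hn : ∀ h ∈ H, ∀ r ∈ R, h * r * h⁻¹ ∈ R)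
    (hH : ∀ h ∈ H, ∃ r ∈ R, ∃ l ∈ L, h = r * l) (hRL : ∀ x ∈ R, x ∈ L → x = 1) {z : G}
    (hz : z ∈ L) (hzc : ∀ l ∈ L, l * z = z * l) (hcop : (Nat.card R).Coprime (orderOf z))
    (hC : ∀ a ∈ R, ∀ b ∈ R, a * z = z * a → b * z = z * b → a * b = b * a) {θ : G → ℂ}
    (hθ : Irr R θ) (hi : ∀ h ∈ H, ∀ r ∈ R, θ (h * r * h⁻¹) = θ r) :
    ∃ τ, Irr H τ ∧ ∀ r ∈ R, τ r = θ r := by
  have := normal_sub hn
  obtain ⟨χ, hχ⟩ := Block.exists_ext_of_comm_fixed (E := R.subgroupOf H) (H := L.subgroupOf H)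
    (K := Subgroup.zpowers ⟨z, hLH hz⟩)
    (eq_bot_iff.mpr fun x hx => Subtype.ext (hRL _ hx.1 hx.2))
    (eq_top_iff.mpr fun x _ => by
      obtain ⟨r, hr, l, hl, e⟩ := hH x x.2
      rw [show x = ⟨r, hRH hr⟩ * ⟨l, hLH hl⟩ from Subtype.ext e]
      exact Subgroup.mul_mem_sup hr hl)
    (Subgroup.zpowers_le.mpr hz)
    (fun l hl => Subgroup.centralizer_le_normalizer _ (by
      rintro _ ⟨k, rfl⟩
      exact (Commute.zpow_left (Subtype.ext (hzc l hl).symm) k).eq))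
    inferInstance
    (by rwa [Nat.card_zpowers, Nat.card_congr (Subgroup.subgroupOfEquivOfLe hRH).toEquiv,
      Subgroup.orderOf_mk])
    (fun a ha b hb => Subtype.ext (hC _ ha.1 _ hb.1
      (congrArg Subtype.val (ha.2 _ (Subgroup.mem_zpowers _))).symm
      (congrArg Subtype.val (hb.2 _ (Subgroup.mem_zpowers _))).symm))
    ⟨_, hθ.sub hRH⟩ fun g n => hi g g.2 n n.2
  refine ⟨_, irr_ex χ, fun r hr => ?_⟩
  rw [ex, extendByZero_of_mem _ _ (hRH hr)]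
  exact hχ ⟨⟨r, hRH hr⟩, hr⟩

theorem odd_of_not_mem_Ev {ψ : G → ℂ} (hψ : Irr H ψ) {z : G} (hz : z ∈ H)
    (hc : ∀ x ∈ H, x * z = z * x) (h : ψ z ∉ Ev) : ∃ k : ℕ, ψ 1 = (2 * k + 1 : ℕ) := by
  obtain ⟨ω, -, h2⟩ := (isCharacter_norm_eq_iff hψ.c.isCharacter ⟨z, hz⟩).mp (hψ.norm_of_comm hz hc)
  have h3 : ∀ n : ℕ, ψ (z ^ n) = ω ^ n * ψ 1 := fun n => by
    induction n with
    | zero => simp
    | succ n ih => rw [pow_succ', pow_succ', mul_assoc, ← ih]; exact h2 ⟨_, H.pow_mem hz n⟩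
  have h4 : ω ^ orderOf z = 1 := mul_right_cancel₀ hψ.one_ne (by
    rw [← h3, pow_orderOf_eq_one, one_mul])
  obtain ⟨d, hd⟩ := hψ.ch.c.exists_nat_one
  have hd : ψ 1 = d := hd
  rcases Nat.even_or_odd d with h5 | ⟨k, rfl⟩
  · refine (h ?_).elim
    rw [← pow_one z, h3, pow_one, hd, mul_comm]
    exact Ev_mul (nat_mem_Ev.mpr h5) (isIntegral_of_pow_eq_one (orderOf_pos z).ne' h4)
  · exact ⟨k, hd⟩

/-- Reduction modulo a normal `2`-subgroup over a fully ramified character. -/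
theorem tw_ne_of_heis (hR : R ≤ ev s K) (hL : L ≤ K) (hn : ∀ k ∈ K, ∀ r ∈ R, k * r * k⁻¹ ∈ R)
    (hK : ∀ k ∈ K, ∃ r ∈ R, ∃ l ∈ L, k = r * l) (hRL : ∀ x ∈ R, x ∈ L → x = 1)
    (h2 : IsPGroup 2 R) {z : G} (hz : z ∈ ev s L) (hzo : Odd (orderOf z))
    (hzc : ∀ l ∈ L, act s l z = z)
    (hC : ∀ r ∈ R, r * z = z * r → ∀ k ∈ K, k * r = r * k) {η θ : G → ℂ}
    (hη : Irr (ev s K) η) (hθ : Irr R θ) (h1 : inn R η θ ≠ 0)
    (hθ0 : ∀ r ∈ R, θ r ≠ 0 → r * r = 1 ∧ ∀ k ∈ K, k * r = r * k) (hpos : Pos s L) :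
    tw s K η ≠ -1 := fun h => by
  have h0 : tw s K η ≠ 0 := by rw [h]; norm_num
  have hi := inv_of_tw hη h0
  have hLK := ev_mono s hL
  have hn0 : ∀ k ∈ ev s K, ∀ r ∈ R, k * r * k⁻¹ ∈ R := fun k hk => hn k hk.1
  have hK0 : ∀ k ∈ ev s K, ∃ r ∈ R, ∃ l ∈ ev s L, k = r * l := fun k hk => by
    obtain ⟨r, hr, l, hl, rfl⟩ := hK k hk.1
    refine ⟨r, hr, l, ⟨hl, ?_⟩, rfl⟩
    have := hk.2
    simpa [show s r = 1 from (hR hr).2] using this
  have hRL0 : ∀ x ∈ R, x ∈ ev s L → x = 1 := fun x hx hx' => hRL x hx hx'.1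
  have hzc0 : ∀ l ∈ ev s L, l * z = z * l := fun l hl => comm_of_act (hzc l hl.1) hl.2
  have hcop : (Nat.card R).Coprime (orderOf z) := by
    obtain ⟨n, hn⟩ := h2.exists_card_eq
    rw [hn]; exact (Nat.coprime_two_left.mpr hzo).pow_left n
  have hθi : ∀ k ∈ K, ∀ r ∈ R, θ (k * r * k⁻¹) = θ r := fun k hk r hr => by
    by_cases h3 : θ r = 0
    · by_contra h4
      have h5 := (hθ0 _ (hn k hk r hr) (h3 ▸ h4)).2 _ (K.inv_mem hk)
      refine h4 (congrArg θ ?_)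
      rw [← mul_inv_cancel_right (k * r * k⁻¹) k⁻¹, ← h5]; group
    · rw [(hθ0 r hr h3).2 k hk, mul_inv_cancel_right]
  have hθr : ∀ r ∈ R, conj (θ r) = θ r := fun r hr => by
    by_cases h3 : θ r = 0
    · simp [h3]
    · rw [← hθ.ch.map_inv hr, inv_eq_of_mul_eq_one_right (hθ0 r hr h3).1]
  obtain ⟨t, ht, hs⟩ : HasOdd s L := by
    obtain ⟨t, ht, hs⟩ := hasOdd_of_tw h0
    obtain ⟨r, hr, l, hl, rfl⟩ := hK t ht
    exact ⟨l, hl, by simpa [show s r = 1 from (hR hr).2] using hs⟩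
  have htK := hL ht
  obtain ⟨τ, hτ, hτθ⟩ := exists_ext hR hLK hn0 hK0 hRL0 hz hzc0 hcop
    (fun a ha b hb h3 _ => (hC a ha h3 b (hR hb).1).symm) hθ fun k hk => hθi k hk.1
  have hτR : Irr R τ := hθ.congr hτθ
  obtain ⟨b, hb, hbR, hbτ⟩ := exists_lin_mul hR hn0 hτ.ch hτR (hτ.ch.st htK) fun r hr => by
    rw [st, hτθ _ (hn t htK r hr), hθi t htK r hr, hθr r hr, hτθ r hr]
  have hstz : ∀ φ, Ch (ev s L) φ → st t φ z = φ z := fun φ hφ => by
    rw [st, ← hφ.map_inv (conj_mem_ev ht hz)]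
    conv_rhs => rw [← hzc t ht, act_odd hs]
    congr 1; group
  have hτz : τ z * conj (τ z) = 1 := by
    rw [← norm_sq_avg hR hn0 hτ.ch hτR (hLK hz), avg_congr (g := fun _ => τ z * conj (τ z)),
      avg_const]
    intro r hr
    obtain ⟨c, hc, u, hu, e⟩ := ExC.exists_conj_coset (le_norm hn0 (hLK hz)) hcop hr
    have h3 := hC u hu.1 (hu.2 z rfl).symm
    obtain ⟨ω, h4, h5⟩ := (isCharacter_norm_eq_iff hτ.c.isCharacter ⟨u, hR hu.1⟩).mp
      (hτ.norm_of_comm (hR hu.1) fun x hx => h3 x hx.1)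
    have h6 : τ (u * z) = ω * τ z := h5 ⟨z, hLK hz⟩
    rw [e, hτ.ch.conj_eq (hR hc) (mul_mem (hLK hz) (hR hu.1)), h3 z (hLK hz).1, h6, map_mul,
      mul_mul_mul_comm, Complex.mul_conj', h4]
    simp
  have hbz : b z = 1 := mul_right_cancel₀ (left_ne_zero_of_mul_eq_one hτz) (by
    rw [← hbτ z (hLK hz), hstz τ (hτ.ch.mono hLK), one_mul])
  have hbt : ∀ g ∈ ev s K, b (t * g * t⁻¹) = b g := fun g hg => by
    have h3 : Lin (ev s K) (st t b) := ⟨hb.1.st htK, by simp [st, hb.2]⟩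
    have h4 := gal_inj hR hn0 hτ.ch hτR (h3.mul hb).irr (fun r hr => by
      simp [st, hbR r hr, hbR _ (hn t htK r hr), hb.2]) (γ := fun _ => 1) isIrrCharacter_one
      (fun _ _ => rfl) (fun x hx => by
        rw [mul_assoc, ← hbτ x hx, one_mul, ← st_st hτ.ch htK hx, st, st, st,
          hbτ _ (conj_mem_ev htK hx), map_mul]) hg
    rw [← one_mul (b g), ← hb.conj_mul (conj_mem_ev htK hg), mul_right_comm]
    rw [show conj (b (t * g * t⁻¹)) * b g = 1 from h4, one_mul]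
  have hb0 := hb.mono hLK
  let σ : IrrCharacter (ev s L) → IrrCharacter (ev s L) := fun χ =>
    ⟨_, (((irr_ex χ).st ht).mul_lin hb0.conj).c⟩
  have hσ : ∀ χ, ∀ g ∈ ev s L, ex (σ χ) g = st t (ex χ) g * conj (b g) := fun χ g hg =>
    ex_mk (((irr_ex χ).st ht).mul_lin hb0.conj) hg
  obtain ⟨χ, hχ, hχz, m, hm, hχm⟩ := (hτ.ch.mono hLK).exists_odd σ (fun χ =>
    irr_ext_iff.mpr fun g hg => by
      rw [hσ _ g hg, st, hσ _ _ (conj_mem_ev ht hg), map_mul, Complex.conj_conj, hbt g (hLK hg),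
        mul_assoc, mul_comm (b g), hb0.conj_mul hg, mul_one]
      exact st_st (irr_ex χ).ch ht hg)
    (fun χ => by
      rw [← inn_st (hτ.ch.mono hLK) (irr_ex χ).ch ht]
      refine avg_congr fun g hg => ?_
      rw [hσ _ g hg, hbτ g (hLK hg), map_mul, Complex.conj_conj]; ring)
    (fun χ => ex χ z) (fun χ => by rw [hσ _ z hz, hbz, hstz _ (irr_ex χ).ch]; simp)
    (fun χ => (irr_ex χ).ch.isIntegral hz) (by
      rw [← (hτ.ch.mono hLK).eq_sum hz]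
      exact fun h3 => one_not_mem_Ev (hτz ▸ Ev_mul h3 (hτ.ch.conj.isIntegral (hLK hz))))
  have hψ := irr_ex χ
  set ψ := ex χ
  have hψb : ∀ g ∈ ev s L, st t ψ g = b g * ψ g := fun g hg => by
    have := hσ χ g hg
    rw [hχ] at this
    rw [show ψ g = _ from this, mul_left_comm, mul_comm (b g), hb0.conj_mul hg, mul_one]
  obtain ⟨k, hk⟩ := odd_of_not_mem_Ev hψ hz hzc0 hχz
  obtain ⟨c, hc, hcR, hcL⟩ := exists_lin_ext hR hLK hn0 hK0 hRL0
    ((lin_dt (ev s L) ψ).mul (hb0.pow k))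
  have hct : ∀ g ∈ ev s K, conj (c (t * g * t⁻¹)) = b g * c g := fun g hg => by
    obtain ⟨r, hr, l, hl, rfl⟩ := hK0 g hg
    rw [show t * (r * l) * t⁻¹ = t * r * t⁻¹ * (t * l * t⁻¹) by group,
      hc.map_mul (hR (hn t htK r hr)) (hLK (conj_mem_ev ht hl)), hcR _ (hn t htK r hr), one_mul,
      hc.map_mul (hR hr) (hLK hl), hb.map_mul (hR hr) (hLK hl), hcR r hr, hbR r hr, one_mul,
      one_mul, hcL _ hl, hcL _ (conj_mem_ev ht hl), map_mul, ← dt_st hψ.ch ht hl, dt_congr hψb,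
      dt_mul hψ.ch hb0 hk hl, hbt l (hLK hl), map_pow]
    have h3 : (conj (b l) * b l) ^ k = 1 := by rw [hb0.conj_mul hl, one_pow]
    linear_combination (b l * dt (ev s L) ψ l * b l ^ k) * h3
  have hct' : ∀ g ∈ ev s K, b g * c (t * g * t⁻¹) = conj (c g) := fun g hg => by
    rw [← Complex.conj_conj (c (t * g * t⁻¹)), hct g hg, map_mul, ← mul_assoc, mul_comm (b g),
      hb.conj_mul hg, one_mul]
  have hτ' := hτ.mul_lin hc.conj
  have hψ' := hψ.mul_lin (hc.mono hLK).conj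
  have hiτ : Inv s K (fun x => τ x * conj (c x)) := inv_of_st hτ'.ch htK hs fun g hg => by
    have := hbτ g hg
    rw [st] at this ⊢
    rw [map_mul, this, Complex.conj_conj, ← hct' g hg]; ring
  have hiψ : Inv s L (fun x => ψ x * conj (c x)) := inv_of_st hψ'.ch ht hs fun g hg => by
    have := hψb g hg
    rw [st] at this ⊢
    rw [map_mul, this, Complex.conj_conj, ← hct' g (hLK hg)]; ring
  have h3 : tw s K (fun x => τ x * conj (c x)) = 1 := by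
    rw [tw_eq_of_odd hτ' hiτ hψ' hiψ (MonoidHom.id G) (fun l hl => ⟨hL hl, rfl⟩) ⟨t, ht, hs⟩
      (m := m) (by
        rw [← hχm]
        refine avg_congr fun g hg => ?_
        simp only [MonoidHom.id_apply, map_mul, Complex.conj_conj]
        linear_combination (τ g * conj (ψ g)) * hc.conj_mul (hLK hg)) hm]
    exact (hiψ.tw_eq_or ⟨t, ht, hs⟩ hψ').resolve_right (hpos _ hψ')
  have hτ'θ : ∀ r ∈ R, τ r * conj (c r) = θ r := fun r hr => by simp [hcR r hr, hτθ r hr]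
  have hτ'R : Irr R (fun x => τ x * conj (c x)) := hθ.congr hτ'θ
  obtain ⟨μ, hμ, hμR, hημ⟩ := gal_surj hR hn0 hτ'.ch hτ'R hη (by
    rwa [inn_congr (fun _ _ => rfl) hτ'θ])
  have hiμ : Inv s K μ := inv_of_st hμ.ch htK hs fun g hg =>
    gal_inj hR hn0 hτ'.ch hτ'R (hμ.st htK) (fun r hr => by
      simp [st, hμR _ (hn t htK r hr)]) hμ hμR (fun x hx => by
        rw [← hημ x hx, ← hi.st_eq htK hs hx, ← hiτ.st_eq htK hs hx, st, st, st,
          hημ _ (conj_mem_ev htK hx), map_mul (starRingEnd ℂ) (μ _)]) hg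
  have hμL : Irr (ev s L) μ := hμ.res_of_scalar hLK fun x hx => by
    obtain ⟨r, hr, l, hl, rfl⟩ := hK0 x hx
    exact ⟨r, hR hr, l, hl, by rw [hμR r hr], rfl⟩
  have h4 : tw s K μ = 1 := by
    rw [tw_eq_of_odd hμ hiμ hμL (hiμ.mono hL) (MonoidHom.id G) (fun l hl => ⟨hL hl, rfl⟩)
      ⟨t, ht, hs⟩ (m := 1) (hμL.inn_self.trans Nat.cast_one.symm) odd_one]
    exact ((hiμ.mono hL).tw_eq_or ⟨t, ht, hs⟩ hμL).resolve_right (hpos _ hμL)
  have h5 := tw_fib (s₁ := s) (s₂ := s) (K₁ := K) (K₂ := K) μ (fun x => τ x * conj (c x))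
  rw [h3, h4, one_mul] at h5
  have h6 : Irr (ev (sfst s G) (fib s s K K)) (fun x => μ x.1 * (τ x.2 * conj (c x.2))) := by
    rw [ev_fib]; exact irr_prod hμ hτ'
  have h7 := tw_eq_of_odd h6 (inv_of_tw h6 (by rw [h5]; exact one_ne_zero)) hη hi
    ((MonoidHom.id G).prod (MonoidHom.id G)) (fun l hl => ⟨mem_fib.mpr ⟨hl, hl, rfl⟩, rfl⟩)
    ⟨t, htK, hs⟩ (m := 1) (by
      rw [Nat.cast_one, ← hη.inn_self]
      exact inn_congr (fun x hx => (hημ x hx).symm) fun _ _ => rfl) odd_one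
  rw [h5, h] at h7
  norm_num at h7

end Cfsg.Agent.FSI
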