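import Cfsg.Agent.FSI.Tw

/-!
# The odd multiplicity lemma for twisted indicators
-/

set_option autoImplicit false
set_option linter.dupNamespace false

namespace Cfsg.Agent.FSI

open Cfsg Cfsg.Agent.Char
open scoped ComplexConjugate

section Ind

variable {G : Type*} [Group G] [Finite G] {s : G →* ℤˣ} {K : Subgroup G} {t : G}

theorem avg_split_zero (ht : t ∈ K) (hs : s t = -1) {f a : G → ℂ}
    (h1 : ∀ g ∈ ev s K, s g = 1 → f g = a g) (h2 : ∀ g, s g = -1 → f g = 0) :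
    avg K f = avg (ev s K) a / 2 := by
  rw [avg_split ht hs, avg_congr fun g hg => h1 g hg hg.2,
    avg_congr (f := fun g => f (g * t)) (g := fun _ => 0) fun g hg =>
      h2 _ (by simp [hs, show s g = 1 from hg.2]), avg_const, add_zero]

/-- Induction from the even part. -/
def ind (s : G →* ℤˣ) (t : G) (ψ : G → ℂ) (g : G) : ℂ :=
  if s g = 1 then ψ g + ψ (t * g * t⁻¹) else 0

theorem ch_ind (ht : t ∈ K) (hs : s t = -1) {ψ : G → ℂ} (hψ : Ch (ev s K) ψ) :
    Ch K (ind s t ψ) := by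
  classical
  have := Fintype.ofFinite K
  let N := (ev s K).subgroupOf K
  have hN : N.Normal := ⟨fun n hn g => conj_mem_ev g.2 hn⟩
  have h1 : IsCharacter N (fun n : N => ψ n) :=
    hψ.c.comp (Subgroup.subgroupOfEquivOfLe (ev_le s K)).toMonoidHom
  have h2 := isCharacter_indFun N h1
  unfold Ch
  convert h2 using 2 with k
  by_cases hk : s k = 1
  · have hk' : (k : G) ∈ ev s K := ⟨k.2, hk⟩
    rw [ind, if_pos hk, show k = ((⟨k, hk'⟩ : N) : K) from rfl, indFun_apply_of_normal]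
    change _ = _ * ∑ x : K, ψ (x * k * (x : G)⁻¹)
    rw [← sum_fs K (fun x => ψ (x * k * x⁻¹)), sum_split s, sum_odd ht hs,
      Finset.sum_congr rfl fun g hg => hψ.conj_eq (mem_fs.mp hg) hk',
      Finset.sum_congr rfl (f := fun g => ψ (g * t * k * (g * t)⁻¹))
        (g := fun _ => ψ (t * k * t⁻¹)) fun g hg => by
        rw [← hψ.conj_eq (mem_fs.mp hg) (conj_mem_ev ht hk')]; congr 1; group,
      Nat.card_congr (Subgroup.subgroupOfEquivOfLe (ev_le s K)).toEquiv, mul_add]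
    exact congrArg₂ _ (avg_const _ _).symm (avg_const _ _).symm
  · rw [ind, if_neg hk, indFun_eq_zero_of_normal]
    exact fun h => hk h.2

omit [Finite G] in
theorem Irr.conj_ev {ψ : G → ℂ} (hψ : Irr (ev s K) ψ) (ht : t ∈ K) :
    Irr (ev s K) (fun g => ψ (t * g * t⁻¹)) :=
  hψ.comp (MulAut.conj t).toMonoidHom (fun _ hl => conj_mem_ev ht hl) fun x hx =>
    ⟨t⁻¹ * x * t⁻¹⁻¹, conj_mem_ev (K.inv_mem ht) hx, by simp [mul_assoc]⟩

theorem irr_ind (ht : t ∈ K) (hs : s t = -1) {ψ : G → ℂ} (hψ : Irr (ev s K) ψ)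
    (hne : ∃ g ∈ ev s K, ψ (t * g * t⁻¹) ≠ ψ g) : Irr K (ind s t ψ) := by
  refine (ch_ind ht hs hψ.ch).irr ?_
  have h1 := hψ.conj_ev ht
  obtain ⟨g, hg, hne⟩ := hne
  have h2 : inn (ev s K) ψ (fun g => ψ (t * g * t⁻¹)) = 0 := by
    by_contra h
    exact hne (hψ.eq_of_inn h1 h hg).symm
  have h3 : inn (ev s K) (fun g => ψ (t * g * t⁻¹)) ψ = 0 := by
    by_contra h
    exact hne (h1.eq_of_inn hψ h hg)
  have h4 := hψ.inn_self
  have h5 := h1.inn_self
  unfold inn at *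
  rw [avg_split_zero ht hs (a := fun g => (ψ g * conj (ψ g) + ψ g * conj (ψ (t * g * t⁻¹))) +
      (ψ (t * g * t⁻¹) * conj (ψ g) + ψ (t * g * t⁻¹) * conj (ψ (t * g * t⁻¹))))
      (fun g _ hg => by simp only [ind, if_pos hg, map_add]; ring) (fun g hg => by simp [ind, hg]),
    avg_add, avg_add, avg_add, h2, h3, h4, h5]
  norm_num

theorem avg_sq_ind (ht : t ∈ K) (hs : s t = -1) (ψ : G → ℂ) :
    avg K (fun k => ind s t ψ (k * k)) = avg (ev s K) (fun g => ψ (g * g)) + tw s K ψ := by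
  have h0 : ∀ k, ind s t ψ (k * k) = ψ (k * k) + ψ (t * (k * k) * t⁻¹) := fun k => by
    simp [ind]
  simp only [h0]
  rw [avg_split ht hs, avg_add, avg_add, tw_eq ht hs,
    avg_congr (f := fun g => ψ (t * (g * g) * t⁻¹))
      (g := fun g => ψ (t * g * t⁻¹ * (t * g * t⁻¹))) fun g _ => by congr 1; group,
    avg_conj_ev ht (fun g => ψ (g * g)),
    avg_congr (f := fun g => ψ (t * (g * t * (g * t)) * t⁻¹))
      (g := fun g => ψ (t * g * t⁻¹ * t * (t * g * t⁻¹ * t))) fun g _ => by congr 1; group,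
    avg_conj_ev ht (fun g => ψ (g * t * (g * t)))]
  ring

theorem avg_sq_eq (H : Subgroup G) [Fintype H] (η : G → ℂ) :
    avg H (fun k => η (k * k)) = fsInd (fun h : H => η h) := by
  rw [avg_eq]; rfl

end Ind

section Enc

/-- The sign of the dihedral group of order six. -/
def sg : DihedralGroup 3 →* ℤˣ where
  toFun
    | .r _ => 1
    | .sr _ => -1
  map_one' := rfl
  map_mul' := by rintro (a | a) (b | b) <;> rfl

/-- A faithful linear character of the rotations. -/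
noncomputable def ze : DihedralGroup 3 → ℂ
  | .r i => ZMod.stdAddChar i
  | .sr _ => 0

theorem exists_r {x : DihedralGroup 3} (h : x ∈ ev sg ⊤) : ∃ i, x = .r i := by
  rcases x with i | i
  · exact ⟨i, rfl⟩
  · exact absurd (show (-1 : ℤˣ) = 1 from h.2) (by decide)

theorem irr_ze : Irr (ev sg ⊤) ze := by
  let f : ev sg ⊤ →* ℂ :=
    { toFun := fun x => ze x
      map_one' := AddChar.map_zero_eq_one _
      map_mul' := by
        rintro ⟨a, ha⟩ ⟨b, hb⟩
        obtain ⟨i, rfl⟩ := exists_r ha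
        obtain ⟨j, rfl⟩ := exists_r hb
        exact AddChar.map_add_eq_mul _ _ _ }
  exact isIrrCharacter_linear f.toHomUnits

theorem tw_ze : tw sg ⊤ ze = 1 := by
  rw [tw_eq (t := .sr 0) (Subgroup.mem_top _) rfl, avg_congr (g := fun _ => 1), avg_const]
  intro x hx
  obtain ⟨i, rfl⟩ := exists_r hx
  simp only [DihedralGroup.r_mul_sr, DihedralGroup.sr_mul_sr, sub_self]
  exact AddChar.map_zero_eq_one _

theorem ze_conj (i : ZMod 3) : ze (.sr 0 * .r i * (.sr 0)⁻¹) = conj (ze (.r i)) := by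
  simp only [DihedralGroup.sr_mul_r, DihedralGroup.inv_sr, DihedralGroup.sr_mul_sr, ze]
  rw [← AddChar.map_neg_eq_conj]; simp

theorem ze_ne : conj (ze (.r 1)) ≠ ze (.r 1) := by
  simp only [ze]
  rw [← AddChar.map_neg_eq_conj]
  exact fun h => absurd (ZMod.injective_stdAddChar h) (by decide)

theorem ze_one : ze 1 = 1 := AddChar.map_zero_eq_one _

variable {G G' : Type*} [Group G] [Finite G] [Group G'] [Finite G'] {s : G →* ℤˣ}
  {s' : G' →* ℤˣ} {K : Subgroup G} {L : Subgroup G'} {t : G} {η : G → ℂ}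

/-- The encoding of a twisted indicator as an ordinary one. -/
theorem enc (ht : t ∈ K) (hs : s t = -1) (hη : Irr (ev s K) η) :
    Irr (fib sg s ⊤ K) (ind (sfst sg G) (.sr 0, t) (fun x => ze x.1 * η x.2)) ∧
      avg (fib sg s ⊤ K) (fun k => ind (sfst sg G) (.sr 0, t) (fun x => ze x.1 * η x.2) (k * k)) =
        tw s K η := by
  have h1 : (DihedralGroup.sr 0, t) ∈ fib sg s ⊤ K := mem_fib.mpr ⟨trivial, ht, hs.symm⟩
  have h2 : Irr (ev (sfst sg G) (fib sg s ⊤ K)) (fun x => ze x.1 * η x.2) := by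
    rw [ev_fib]; exact irr_prod irr_ze hη
  have h3 : (DihedralGroup.r 1, (1 : G)) ∈ ev (sfst sg G) (fib sg s ⊤ K) :=
    ⟨mem_fib.mpr ⟨trivial, K.one_mem, (map_one s).symm⟩, rfl⟩
  refine ⟨irr_ind h1 rfl h2 ⟨_, h3, ?_⟩, ?_⟩
  · simp only [Prod.mk_mul_mk, Prod.inv_mk, mul_one, mul_inv_cancel, ze_conj]
    exact fun h => ze_ne (mul_right_cancel₀ hη.one_ne h)
  · have := Fintype.ofFinite (ev (sfst sg G) (fib sg s ⊤ K))
    rw [avg_sq_ind h1 rfl, tw_fib, tw_ze, one_mul,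
      avg_sq_eq _ (fun x : DihedralGroup 3 × G => ze x.1 * η x.2),
      fsInd_eq_zero_of_not_real h2, zero_add]
    intro h
    have h4 := Complex.conj_eq_iff_im.mpr (h ⟨_, h3⟩)
    simp only [map_mul, hη.ch.conj_one] at h4
    exact ze_ne (mul_right_cancel₀ hη.one_ne h4)

theorem Inv.tw_eq_or (hi : Inv s K η) (ho : HasOdd s K) (hη : Irr (ev s K) η) :
    tw s K η = 1 ∨ tw s K η = -1 := by
  obtain ⟨t, ht, hs⟩ := ho
  obtain ⟨h1, h2⟩ := enc ht hs hη
  have := Fintype.ofFinite (fib sg s ⊤ K)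
  rw [← h2, avg_sq_eq]
  refine fsInd_eq_one_or_of_real h1 ?_
  rintro ⟨⟨c, g⟩, hx⟩
  rw [← Complex.conj_eq_iff_im]
  simp only [ind]
  split_ifs with h
  · obtain ⟨i, rfl⟩ := exists_r (x := c) ⟨trivial, h⟩
    have hg : g ∈ ev s K := ⟨(mem_fib.mp hx).2.1, (mem_fib.mp hx).2.2.symm⟩
    simp only [Prod.mk_mul_mk, Prod.inv_mk, ze_conj, hi t ht hs g hg, map_add, map_mul,
      Complex.conj_conj, add_comm]
  · simp

theorem inv_of_tw (hη : Irr (ev s K) η) (h0 : tw s K η ≠ 0) : Inv s K η := by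
  obtain ⟨t, ht, hs⟩ := hasOdd_of_tw h0
  obtain ⟨h1, h2⟩ := enc ht hs hη
  have := Fintype.ofFinite (fib sg s ⊤ K)
  rw [← h2, avg_sq_eq] at h0
  refine inv_of_one hη.ch ht hs fun g hg => ?_
  have h3 : ∀ i, conj (ze (.r i)) * conj (η g) + ze (.r i) * conj (η (t * g * t⁻¹)) =
      ze (.r i) * η g + conj (ze (.r i)) * η (t * g * t⁻¹) := fun i => by
    have h4 := Complex.conj_eq_iff_im.mpr (real_of_fsInd_ne_zero h1 h0
      ⟨(.r i, g), mem_fib.mpr ⟨trivial, hg.1, hg.2.symm⟩⟩)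
    simp only [ind] at h4
    rw [if_pos (by rfl)] at h4
    simpa only [Prod.mk_mul_mk, Prod.inv_mk, ze_conj, map_add, map_mul, Complex.conj_conj] using h4
  have h4 := h3 0
  have h5 := h3 1
  rw [show ze (.r 0) = 1 from ze_one, map_one] at h4
  refine mul_left_cancel₀ (sub_ne_zero.mpr ze_ne) ?_
  linear_combination -h5 + ze (.r 1) * h4

theorem tw_tri (hη : Irr (ev s K) η) : tw s K η = 0 ∨ tw s K η = 1 ∨ tw s K η = -1 := by
  by_cases h : tw s K η = 0
  · exact Or.inl h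
  · exact Or.inr ((inv_of_tw hη h).tw_eq_or (hasOdd_of_tw h) hη)

/-- A sign as a dihedral element. -/
def dsg : ℤˣ →* DihedralGroup 3 where
  toFun u := if u = 1 then 1 else .sr 0
  map_one' := rfl
  map_mul' := by decide

theorem even_of_tw (hη : Irr (ev s K) η) (h : tw s K η = -1) (f : G' →* G)
    (hf : ∀ l ∈ L, f l ∈ K ∧ s (f l) = s' l) (ho : HasOdd s' L) {m : ℕ}
    (hm : avg (ev s' L) (fun x => η (f x)) = m) : Even m := by
  have h0 : tw s K η ≠ 0 := by rw [h]; norm_num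
  obtain ⟨t, ht, hs⟩ := hasOdd_of_tw h0
  have hi := inv_of_tw hη h0
  obtain ⟨h1, h2⟩ := enc ht hs hη
  have := Fintype.ofFinite (fib sg s ⊤ K)
  have := Fintype.ofFinite L
  rw [← h2, avg_sq_eq] at h
  have h3 : ∀ u : ℤˣ, sg (dsg u) = u := by decide
  refine even_of_fsInd_eq_neg_one h1 h (rs ((dsg.comp s').prod f) (L := L) fun l hl =>
    mem_fib.mpr ⟨trivial, (hf l hl).1, (h3 _).trans (hf l hl).2.symm⟩) ?_
  obtain ⟨u, hu, hus⟩ := ho
  rw [classInner_one_right]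
  refine ((avg_eq L fun l => ind (sfst sg G) (.sr 0, t) (fun x => ze x.1 * η x.2)
    (dsg (s' l), f l)).symm.trans ?_)
  rw [avg_split_zero hu hus (a := fun g => η (f g) + conj (η (f g))) (fun g hg h4 => by
      simp [ind, h4, ze_one, hi t ht hs (f g) ⟨(hf g hg.1).1, (hf g hg.1).2.trans h4⟩])
      (fun g hg => by simp [ind, h3, hg]),
    avg_add, ← conj_avg, hm]
  simp

/-- The odd multiplicity lemma. -/
theorem tw_eq_of_odd (hη : Irr (ev s K) η) (hi : Inv s K η) {φ : G' → ℂ} (hφ : Irr (ev s' L) φ)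
    (hi' : Inv s' L φ) (f : G' →* G) (hf : ∀ l ∈ L, f l ∈ K ∧ s (f l) = s' l)
    (ho : HasOdd s' L) {m : ℕ} (hm : inn (ev s' L) (fun x => η (f x)) φ = m) (hodd : Odd m) :
    tw s K η = tw s' L φ := by
  by_contra hne
  have ho' : HasOdd s K := by
    obtain ⟨u, hu, hus⟩ := ho
    exact ⟨f u, (hf u hu).1, (hf u hu).2.trans hus⟩
  refine Nat.not_odd_iff_even.mpr (even_of_tw (s := sfst s G') (K := fib s s' K L)
    (η := fun x => η x.1 * conj (φ x.2)) ?_ ?_ (f.prod (MonoidHom.id G'))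
    (fun l hl => ⟨mem_fib.mpr ⟨(hf l hl).1, hl, (hf l hl).2⟩, (hf l hl).2⟩) ho hm) hodd
  · rw [ev_fib]; exact irr_prod hη hφ.conj
  · rw [tw_fib η (fun x => conj (φ x)), ← conj_tw]
    rcases hi.tw_eq_or ho' hη with e | e <;> rcases hi'.tw_eq_or ho hφ with e' | e' <;> simp_all

/-- An irreducible pullback has the same indicator. -/
theorem tw_comp (hη : Irr (ev s K) η) (h : tw s K η = -1) (f : G' →* G)
    (hf : ∀ l ∈ L, f l ∈ K ∧ s (f l) = s' l) (ho : HasOdd s' L)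
    (hirr : Irr (ev s' L) (fun x => η (f x))) : tw s' L (fun x => η (f x)) = -1 := by
  have hi := inv_of_tw hη (by rw [h]; norm_num)
  rw [← tw_eq_of_odd hη hi hirr (hi.comp f hf) f hf ho (m := 1)
    (by rw [hirr.inn_self, Nat.cast_one]) odd_one, h]

theorem Pos.of_surj (h : Pos s' L) (f : G' →* G) (hf : ∀ l ∈ L, f l ∈ K ∧ s (f l) = s' l)
    (hs : ∀ k ∈ K, ∃ l ∈ L, f l = k) : Pos s K := fun η hη h1 => by
  have h2 : Irr (ev s' L) (fun x => η (f x)) :=
    hη.comp f (fun l hl => ⟨(hf l hl.1).1, (hf l hl.1).2.trans hl.2⟩) fun x hx => by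
      obtain ⟨l, hl, rfl⟩ := hs x hx.1
      exact ⟨l, ⟨hl, (hf l hl).2.symm.trans hx.2⟩, rfl⟩
  refine h _ h2 (tw_comp hη h1 f hf ?_ h2)
  obtain ⟨t, ht, hts⟩ := hasOdd_of_tw (η := η) (by rw [h1]; norm_num)
  obtain ⟨l, hl, rfl⟩ := hs t ht
  exact ⟨l, hl, (hf l hl).2.symm.trans hts⟩

theorem Pos.fib (h : Pos s K) (h' : Pos s' L) : Pos (sfst s G') (fib s s' K L) := fun η hη h1 => by
  rw [ev_fib] at hη
  obtain ⟨η₁, η₂, h2, h3, e⟩ := hη.exists_prod
  rw [tw_congr (φ := fun x => η₁ x.1 * η₂ x.2) (by rwa [ev_fib]), tw_fib] at h1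
  have h4 := h _ h2
  have h5 := h' _ h3
  rcases tw_tri h2 with e | e | e <;> rcases tw_tri h3 with e' | e' | e' <;>
    simp only [e, e', ne_eq, not_true_eq_false] at h1 h4 h5 <;> norm_num at h1

theorem pos_of_sq (h : ∀ k ∈ K, s k = -1 → k * k = 1) : Pos s K := fun η hη h1 => by
  obtain ⟨t, ht, hs⟩ := hasOdd_of_tw (η := η) (by rw [h1]; norm_num)
  rw [tw_eq ht hs, avg_congr (g := fun _ => η 1) fun g hg => by
    rw [h _ (K.mul_mem hg.1 ht) (by simp [hs, show s g = 1 from hg.2])], avg_const] at h1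
  obtain ⟨n, -, hn⟩ := hη.c.exists_nat_one
  have h2 : ((n : ℤ) : ℂ) = ((-1 : ℤ) : ℂ) := by simpa using hn.symm.trans h1
  have := Int.cast_injective h2
  omega

/-- Restriction to a supplement of a subgroup acting by scalars is irreducible. -/
theorem Irr.res_of_scalar {H M : Subgroup G} (hη : Irr H η) (hM : M ≤ H)
    (h : ∀ x ∈ H, ∃ z ∈ H, ∃ m ∈ M, ‖η z‖ = ‖η 1‖ ∧ x = z * m) : Irr M η := by
  have := Fintype.ofFinite H
  let Z : Subgroup H :=
    { carrier := {z | ‖η z‖ = ‖η 1‖}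
      one_mem' := rfl
      mul_mem' := fun {a b} ha hb => by
        obtain ⟨ω, h1, h2⟩ := (isCharacter_norm_eq_iff hη.c.isCharacter a).mp ha
        change ‖η (a * b : H)‖ = _
        rw [h2, norm_mul, h1, one_mul]; exact hb
      inv_mem' := fun {a} ha => by
        change ‖η (a⁻¹ : H)‖ = _
        rw [hη.c.map_inv, Complex.norm_conj]; exact ha }
  have hZ : Z.Normal := ⟨fun n hn g => by
    change ‖η (g * n * g⁻¹ : H)‖ = _
    rw [show η (g * n * g⁻¹ : H) = η n from hη.c.isClassFunction n g]; exact hn⟩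
  let F : H ⧸ Z → ℂ := fun q => η q.out * conj (η q.out)
  have hF : ∀ x : H, F x = η x * conj (η x) := fun x => by
    obtain ⟨z, hz⟩ := QuotientGroup.mk_out_eq_mul Z x
    obtain ⟨ω, h1, h2⟩ := (isCharacter_norm_eq_iff hη.c.isCharacter z).mp z.2
    have h3 : η (x * z : H) = ω * η x := by rw [hη.c.isClassFunction.mul_comm, h2]
    simp only [F, hz, h3, map_mul]
    rw [mul_mul_mul_comm, Complex.mul_conj', h1]; simp
  refine (hη.ch.mono hM).irr ?_
  have := Fintype.ofFinite M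
  have := Fintype.ofFinite (H ⧸ Z)
  rw [← hη.inn_self, inn, inn, avg_eq, avg_eq]
  have e1 := avg_comp_surjective _ (QuotientGroup.mk'_surjective Z) F
  have e2 := avg_comp_surjective ((QuotientGroup.mk' Z).comp (Subgroup.inclusion hM)) (fun q => by
    obtain ⟨x, rfl⟩ := QuotientGroup.mk'_surjective Z q
    obtain ⟨z, hz, m, hm, h1, h2⟩ := h x x.2
    refine ⟨⟨m, hm⟩, ?_⟩
    rw [show x = ⟨z, hz⟩ * ⟨m, hM hm⟩ from Subtype.ext h2, map_mul,
      (QuotientGroup.eq_one_iff (N := Z) ⟨z, hz⟩).mpr h1 |> fun e => show QuotientGroup.mk' Z _ = 1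
        from e, one_mul]
    rfl) F
  simp only [MonoidHom.comp_apply, QuotientGroup.mk'_apply, hF] at e1 e2
  exact e2.trans e1.symm

theorem Irr.norm_of_comm {H : Subgroup G} (hη : Irr H η) {z : G} (hz : z ∈ H)
    (hc : ∀ x ∈ H, x * z = z * x) : ‖η z‖ = ‖η 1‖ :=
  norm_eq_of_mem_center hη.c (z := ⟨z, hz⟩)
    (Subgroup.mem_center_iff.mpr fun x => Subtype.ext (hc x x.2))

/-- Passing to a supplement of a subgroup of the centre of the even part. -/
theorem Pos.of_central {M : Subgroup G} (h : Pos s M) (hM : M ≤ K)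
    (hK : ∀ k ∈ K, ∃ z ∈ ev s K, (∀ x ∈ ev s K, x * z = z * x) ∧ ∃ m ∈ M, k = z * m) :
    Pos s K := fun η hη h1 => by
  have h2 : Irr (ev s M) η := hη.res_of_scalar (ev_mono s hM) fun x hx => by
    obtain ⟨z, hz, hc, m, hm, rfl⟩ := hK x hx.1
    refine ⟨z, hz, m, ⟨hm, ?_⟩, hη.norm_of_comm hz hc, rfl⟩
    have := hx.2
    simpa [show s z = 1 from hz.2] using this
  refine h _ h2 (tw_comp hη h1 (MonoidHom.id G) (fun l hl => ⟨hM hl, rfl⟩) ?_ h2)
  obtain ⟨t, ht, hts⟩ := hasOdd_of_tw (η := η) (by rw [h1]; norm_num)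
  obtain ⟨z, hz, -, m, hm, rfl⟩ := hK t ht
  exact ⟨m, hm, by simpa [show s z = 1 from hz.2] using hts⟩

end Enc

end Cfsg.Agent.FSI
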