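import Cfsg.Agent.FSI.Odd
import Cfsg.Agent.Char.CycCoset
import Cfsg.Agent.Char.Integrality

/-!
# Parity arguments for twisted indicators
-/

set_option autoImplicit false
set_option linter.dupNamespace false

namespace Cfsg.Agent.FSI

open Cfsg Cfsg.Agent.Char
open scoped ComplexConjugate

/-- Twice an algebraic integer. -/
def Ev : AddSubgroup ℂ where
  carrier := {x | ∃ y, IsIntegral ℤ y ∧ x = 2 * y}
  zero_mem' := ⟨0, isIntegral_zero, by simp⟩
  add_mem' := by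
    rintro _ _ ⟨a, ha, rfl⟩ ⟨b, hb, rfl⟩
    exact ⟨a + b, ha.add hb, by ring⟩
  neg_mem' := by
    rintro _ ⟨a, ha, rfl⟩
    exact ⟨-a, ha.neg, by ring⟩

theorem two_mul_mem_Ev {y : ℂ} (h : IsIntegral ℤ y) : 2 * y ∈ Ev := ⟨y, h, rfl⟩

theorem Ev_mul {x y : ℂ} (hx : x ∈ Ev) (hy : IsIntegral ℤ y) : x * y ∈ Ev := by
  obtain ⟨a, ha, rfl⟩ := hx
  exact ⟨a * y, ha.mul hy, by ring⟩

theorem isIntegral_nat (n : ℕ) : IsIntegral ℤ (n : ℂ) := by
  simpa using isIntegral_algebraMap (R := ℤ) (A := ℂ) (x := n)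

theorem nat_mem_Ev {n : ℕ} : (n : ℂ) ∈ Ev ↔ Even n := by
  constructor
  · rintro ⟨y, hy, e⟩
    refine even_iff_two_dvd.mpr (dvd_of_isIntegral_div two_ne_zero ?_)
    rwa [e, Nat.cast_ofNat, mul_div_cancel_left₀ _ two_ne_zero]
  · rintro ⟨k, rfl⟩
    exact ⟨k, isIntegral_nat k, by push_cast; ring⟩

theorem one_not_mem_Ev : (1 : ℂ) ∉ Ev := fun h => by
  have := (nat_mem_Ev (n := 1)).mp (by simpa using h)
  simp at this

theorem sum_mem_Ev {ι : Type*} [Fintype ι] (σ : ι → ι) (hσ : ∀ i, σ (σ i) = i) (c : ι → ℂ)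
    (hc : ∀ i, c (σ i) = c i) (hi : ∀ i, IsIntegral ℤ (c i)) (hf : ∀ i, σ i = i → c i ∈ Ev) :
    ∑ i, c i ∈ Ev := by
  rw [← QuotientAddGroup.eq_zero_iff, ← QuotientAddGroup.mk'_apply, map_sum]
  refine Finset.sum_involution (fun i _ => σ i) (fun i _ => ?_) (fun i _ h e => h ?_)
    (fun _ _ => Finset.mem_univ _) fun i _ => hσ i
  · rw [← map_add, hc, ← two_mul]
    exact (QuotientAddGroup.eq_zero_iff _).mpr (two_mul_mem_Ev (hi i))
  · exact (QuotientAddGroup.eq_zero_iff _).mpr (hf i e)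

variable {G : Type*} [Group G] [Finite G] {H : Subgroup G}

/-- An irreducible character of a subgroup as a function on the ambient group. -/
noncomputable def ex (χ : IrrCharacter H) : G → ℂ := extendByZero H χ.1

omit [Finite G] in
theorem irr_ex (χ : IrrCharacter H) : Irr H (ex χ) := irr_ext χ

omit [Finite G] in
theorem ex_mk {η : G → ℂ} (h : Irr H η) {g : G} (hg : g ∈ H) : ex ⟨_, h.c⟩ g = η g :=
  extendByZero_of_mem _ _ hg

omit [Finite G] in
theorem irr_ext_iff {χ ψ : IrrCharacter H} : χ = ψ ↔ ∀ g ∈ H, ex χ g = ex ψ g :=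
  ⟨fun h _ _ => h ▸ rfl, fun h => Subtype.ext (funext fun g => by simpa [ex] using h g g.2)⟩

theorem eq_sum_ex {f : G → ℂ} (hf : ∀ x ∈ H, ∀ g ∈ H, f (x * g * x⁻¹) = f g) {g : G}
    (hg : g ∈ H) : f g = ∑ χ : IrrCharacter H, inn H f (ex χ) * ex χ g := by
  have := Fintype.ofFinite H
  have h1 : IsClassFunction H (fun h : H => f h) := fun g x => hf x x.2 g g.2
  rw [show f g = _ from h1.apply_eq_sum_irr ⟨g, hg⟩]
  refine Finset.sum_congr rfl fun χ _ => ?_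
  rw [inn_eq, ex, extendByZero_of_mem _ _ hg]
  simp only [extendByZero_coe]

theorem Ch.eq_sum {f : G → ℂ} (hf : Ch H f) {g : G} (hg : g ∈ H) :
    f g = ∑ χ : IrrCharacter H, inn H f (ex χ) * ex χ g :=
  eq_sum_ex (fun _ hx _ hg => hf.conj_eq hx hg) hg

/-- The parity lemma. -/
theorem Ch.exists_odd {ξ : G → ℂ} (hξ : Ch H ξ) (σ : IrrCharacter H → IrrCharacter H)
    (hσ : ∀ χ, σ (σ χ) = χ) (hm : ∀ χ, inn H ξ (ex (σ χ)) = inn H ξ (ex χ))
    (J : IrrCharacter H → ℂ) (hJ : ∀ χ, J (σ χ) = J χ) (hi : ∀ χ, IsIntegral ℤ (J χ))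
    (h : ∑ χ, inn H ξ (ex χ) * J χ ∉ Ev) :
    ∃ χ, σ χ = χ ∧ J χ ∉ Ev ∧ ∃ m : ℕ, Odd m ∧ inn H ξ (ex χ) = m := by
  by_contra hcon
  refine h (sum_mem_Ev σ hσ _ (fun χ => by rw [hm, hJ]) (fun χ => ?_) fun χ hχ => ?_)
  · obtain ⟨m, hm⟩ := hξ.exists_nat (irr_ex χ).ch
    rw [hm]; exact (isIntegral_nat m).mul (hi χ)
  · obtain ⟨m, hm⟩ := hξ.exists_nat (irr_ex χ).ch
    rw [hm]
    by_cases h1 : J χ ∈ Ev
    · rw [mul_comm]; exact Ev_mul h1 (isIntegral_nat m)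
    · exact Ev_mul (nat_mem_Ev.mpr (Nat.not_odd_iff_even.mp fun h2 =>
        hcon ⟨χ, hχ, h1, m, h2, hm⟩)) (hi χ)

/-- Averages of characters over centralizing cosets are algebraic integers. -/
theorem Ch.isIntegral_avg {χ : G → ℂ} (hχ : Ch H χ) {C : Subgroup G} (hC : C ≤ H) {a : G}
    (ha : a ∈ H) (hc : ∀ c ∈ C, c * a = a * c) : IsIntegral ℤ (avg C (fun u => χ (a * u))) := by
  have := Fintype.ofFinite C
  let f : C × Subgroup.zpowers a →* G :=
    MonoidHom.noncommCoprod C.subtype (Subgroup.zpowers a).subtype fun c z => by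
      obtain ⟨_, k, rfl⟩ := z
      exact Commute.zpow_right (hc c c.2) k
  have h1 : IsCharacter _ (fun x => χ (f x)) :=
    hχ.c.comp (f.codRestrict H fun x => H.mul_mem (hC x.1.2) (Subgroup.zpowers_le.mpr ha x.2.2))
  have h2 := isCharacter_cavg (MonoidHom.inl C (Subgroup.zpowers a))
    (fun _ _ h => congrArg Prod.fst h) ⟨by
      rintro _ ⟨c, rfl⟩ g
      exact ⟨g.1 * c * g.1⁻¹, Prod.ext rfl (by simp)⟩⟩ h1
  convert h2.isIntegral (1, ⟨a, Subgroup.mem_zpowers a⟩) using 1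
  rw [avg_eq, cavg]
  congr 1
  refine Finset.sum_congr rfl fun c _ => ?_
  simp [f, hc c c.2]

variable {s : G →* ℤˣ} {K : Subgroup G} {t : G}

/-- The twisted conjugate of a function. -/
def st (t : G) (f : G → ℂ) (g : G) : ℂ := conj (f (t * g * t⁻¹))

theorem Irr.st {η : G → ℂ} (h : Irr (ev s K) η) (ht : t ∈ K) : Irr (ev s K) (st t η) :=
  (h.conj_ev ht).conj

theorem Ch.st {η : G → ℂ} (h : Ch (ev s K) η) (ht : t ∈ K) : Ch (ev s K) (st t η) :=
  (h.comp (MulAut.conj t).toMonoidHom fun _ hl => conj_mem_ev ht hl).conj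

omit [Finite G] in
theorem st_st {η : G → ℂ} (h : Ch (ev s K) η) (ht : t ∈ K) {g : G} (hg : g ∈ ev s K) :
    st t (st t η) g = η g := by
  simp only [st, Complex.conj_conj]
  rw [← h.conj_eq (sq_mem_ev ht) hg]; congr 1; group

omit [Finite G] in
theorem Inv.st_eq {η : G → ℂ} (h : Inv s K η) (ht : t ∈ K) (hs : s t = -1) {g : G}
    (hg : g ∈ ev s K) : st t η g = η g := by
  rw [st, h t ht hs g hg, Complex.conj_conj]

omit [Finite G] in
theorem inv_of_st {η : G → ℂ} (hη : Ch (ev s K) η) (ht : t ∈ K) (hs : s t = -1)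
    (h : ∀ g ∈ ev s K, st t η g = η g) : Inv s K η :=
  inv_of_one hη ht hs fun g hg => by rw [← h g hg, st, Complex.conj_conj]

theorem inn_st {α β : G → ℂ} (hα : Ch (ev s K) α) (hβ : Ch (ev s K) β) (ht : t ∈ K) :
    inn (ev s K) (st t α) (st t β) = inn (ev s K) α β := by
  obtain ⟨m, hm⟩ := hα.exists_nat hβ
  rw [hm, ← Complex.conj_natCast, ← hm, inn, inn, conj_avg,
    ← avg_conj_ev ht (fun h => conj (α h * conj (β h)))]
  simp [st]

/-- The twisted conjugation of irreducible characters. -/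
noncomputable def stI (ht : t ∈ K) (χ : IrrCharacter (ev s K)) : IrrCharacter (ev s K) :=
  ⟨_, ((irr_ex χ).st ht).c⟩

theorem ex_stI (ht : t ∈ K) (χ : IrrCharacter (ev s K)) {g : G} (hg : g ∈ ev s K) :
    ex (stI ht χ) g = st t (ex χ) g := ex_mk ((irr_ex χ).st ht) hg

theorem stI_stI (ht : t ∈ K) (χ : IrrCharacter (ev s K)) : stI ht (stI ht χ) = χ :=
  irr_ext_iff.mpr fun g hg => by
    rw [ex_stI ht _ hg, ← st_st (irr_ex χ).ch ht hg, st, st, ex_stI ht _ (conj_mem_ev ht hg)]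

theorem Inv.inn_stI {ξ : G → ℂ} (hξ : Ch (ev s K) ξ) (hi : Inv s K ξ) (ht : t ∈ K)
    (hs : s t = -1) (χ : IrrCharacter (ev s K)) :
    inn (ev s K) ξ (ex (stI ht χ)) = inn (ev s K) ξ (ex χ) := by
  rw [← inn_st hξ (irr_ex χ).ch ht]
  exact inn_congr (fun x hx => (hi.st_eq ht hs hx).symm) fun x hx => ex_stI ht χ hx

theorem inv_of_stI (ht : t ∈ K) (hs : s t = -1) {χ : IrrCharacter (ev s K)}
    (h : stI ht χ = χ) : Inv s K (ex χ) :=
  inv_of_st (irr_ex χ).ch ht hs fun g hg => by rw [← ex_stI ht χ hg, h]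

end Cfsg.Agent.FSI
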