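import Cfsg.Agent.Class.Char2.Main

/-!
# Reality of isometries of quadratic spaces in characteristic two
-/

set_option autoImplicit false
set_option linter.dupNamespace false

namespace Cfsg.Agent.FSI

open Module Polynomial Cfsg.Agent.Class Cfsg.Agent.Class.Char2 Cfsg.Agent.Class.Wall

variable {F V : Type*} [Field F] [AddCommGroup V] [Module F V] {B : LinearMap.BilinForm F V}
  {Q : V → F} {g g' : End F V} {α : F} {U P : Submodule F V}

/-- Mutually inverse isometries. -/
structure IV (B : LinearMap.BilinForm F V) (Q : V → F) (g g' : End F V) : Prop where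
  of : OF B Q
  two : (2 : F) = 0
  pres : Pres B Q g
  mul : g * g' = 1
  mul' : g' * g = 1

theorem add_self_eq (h2 : (2 : F) = 0) (x : V) : x + x = 0 := by
  rw [← two_smul F, h2, zero_smul]

namespace IV

theorem apply (h : IV B Q g g') (x : V) : g (g' x) = x := LinearMap.congr_fun h.mul x

theorem apply' (h : IV B Q g g') (x : V) : g' (g x) = x := LinearMap.congr_fun h.mul' x

theorem symm (h : IV B Q g g') : IV B Q g' g :=
  ⟨h.of, h.two, ⟨fun x y => by rw [← h.pres.map_B, h.apply, h.apply],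
    fun x => by rw [← h.pres.map_Q, h.apply]⟩, h.mul', h.mul⟩

theorem st (h : IV B Q g g') : St B Q (g - 1) := h.of.st h.two h.pres

theorem sub_eq (h : IV B Q g g') : g' - 1 = g' * (g - 1) := by
  ext x
  simp only [LinearMap.sub_apply, End.one_apply, End.mul_apply, map_sub, h.apply']
  linear_combination (norm := module) add_self_eq h.two (g' x - x)

theorem pow_eq (h : IV B Q g g') (j : ℕ) (x : V) :
    ((g' - 1) ^ j) x = (g' ^ j) (((g - 1) ^ j) x) := by
  rw [h.sub_eq, Commute.mul_pow (Commute.sub_right (h.mul'.trans h.mul.symm) (.one_right _)),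
    End.mul_apply]

theorem Q_pow (h : IV B Q g g') (j : ℕ) (x : V) : Q (((g' - 1) ^ j) x) = Q (((g - 1) ^ j) x) := by
  rw [h.pow_eq, (h.symm.pres.pow j).map_Q]

theorem pow_zero (h : IV B Q g g') {j : ℕ} {x : V} (hx : ((g - 1) ^ j) x = 0) :
    ((g' - 1) ^ j) x = 0 := by rw [h.pow_eq, hx, map_zero]

theorem top (h : IV B Q g g') {j : ℕ} {x : V} (hx : ((g - 1) ^ (j + 1)) x = 0) :
    ((g' - 1) ^ j) x = ((g - 1) ^ j) x := by
  rw [← t_pow, LinearMap.sub_apply, sub_eq_zero, End.one_apply] at hx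
  rw [h.pow_eq, End.pow_apply]
  exact Function.IsFixedPt.iterate ((congrArg g' hx.symm).trans (h.apply' _)) j

variable [FiniteDimensional F V]

theorem mem (h : IV B Q g g') (hU : ∀ v ∈ U, (g - 1) v ∈ U) : ∀ v ∈ U, (g' - 1) v ∈ U :=
  fun v hv => sub_mem (mem_of_map_mem (h.pres.toIsom h.of.nd).1
    (fun w hw => show g w ∈ U by simpa using add_mem (hU w hw) hw)
    (show g (g' v) ∈ U by rwa [h.apply])) hv

theorem gen_eq (h : IV B Q g g') (x : V) : gen (g' - 1) x = gen (g - 1) x :=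
  le_antisymm (gen_le (h.mem (t_mem_gen x)) (mem_gen x))
    (gen_le (h.symm.mem (t_mem_gen x)) (mem_gen x))

theorem isBlk (h : IV B Q g g') {b : Blk} (hb : IsBlk α B Q (g - 1) b U) :
    IsBlk α B Q (g' - 1) b U := by
  have hn := hb.nil h.st
  have hd := hb.finrank_eq h.st
  obtain ⟨k, β⟩ | ⟨m, β⟩ := b
  · obtain ⟨x, rfl, h1, h2⟩ := hb
    exact ⟨x, (h.gen_eq x).symm, h.pow_zero h1, fun j => (h.Q_pow j x).trans (h2 j)⟩
  obtain ⟨h0, x, y, h1, hx, hy, h2, h3, h4⟩ := hb
  have hn' : Nil (g' - 1) m U := ⟨h.mem hn.mem, fun v hv => h.pow_zero (hn.zero v hv)⟩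
  obtain ⟨x', hx', y', hy', k1, k2, k3⟩ := h.symm.st.exists_pair hn'
    (h1 ▸ Submodule.mem_sup_left (mem_gen x)) (h1 ▸ Submodule.mem_sup_right (mem_gen y))
    (by rw [h.top hx, h4, if_pos rfl])
    (by rw [h.top hx]; exact h.st.top_self hx fun j hj => by rw [h2, if_neg fun e => by omega])
    (by rw [h.top hy]; exact h.st.top_self hy fun j hj => by rw [h3, if_neg fun e => by omega])
  have k4 : IsBlk α B Q (g' - 1) (.pair m β) (gen (g' - 1) x' ⊔ gen (g' - 1) y') :=
    ⟨h0, x', y', rfl, hn'.zero _ hx', hn'.zero _ hy', fun j => by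
      rw [k1, h.Q_pow, h2]; split_ifs <;> simp_all, fun j => by
      rw [k2, h.Q_pow, h3]; split_ifs <;> simp_all, k3⟩
  rwa [Submodule.eq_of_le_of_finrank_eq (sup_le (gen_le hn'.mem hx') (gen_le hn'.mem hy'))
    ((k4.finrank_eq h.symm.st).trans hd.symm)] at k4

theorem dec (h : IV B Q g g') {s : Multiset Blk} (hP : Dec α B Q (g - 1) P s) :
    Dec α B Q (g' - 1) P s := by
  induction hP with
  | nil => exact .nil
  | cons h1 h2 _ ih => exact .cons (h.isBlk h1) h2 ih

theorem sim (h : IV B Q g g') : KSG.Sim g g' := by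
  have h1 : h.of.nd.adj g = g' := h.of.nd.adj_eq fun x y => by rw [← h.pres.map_B, h.apply]
  refine KSG.sim_of_finrank_ker fun p _ _ k _ => ?_
  rw [← h1, ← h.of.nd.finrank_ker_adj, h.of.nd.adj_aeval, Polynomial.map_id]

/-- Every isometry is inverted by an isometry. -/
theorem exists_inv [Finite F] (h : IV B Q g g') : ∃ e : V ≃ₗ[F] V,
    (∀ u v, B (e u) (e v) = B u v) ∧ (∀ u, Q (e u) = Q u) ∧ ∀ v, e (g v) = g' (e v) := by
  obtain ⟨α, -, hα⟩ := exists_alpha h.two
  have hk := (finrank F V).le_succ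
  obtain ⟨-, s, h1, -⟩ := h.of.exists_code h.two h.pres hα hk
  obtain ⟨e, e1, e2, e3⟩ := h.of.exists_equiv h.of h.two h.pres h.symm.pres hk hk
    (sim_restrict_range h.sim _).elemDiv_eq h1 (by
      convert h.dec h1 using 1
      ext x
      simpa using ⟨h.symm.pow_zero, h.pow_zero⟩) (p := true) rfl
  exact ⟨e, e1, e2 rfl, e3⟩

end IV

end Cfsg.Agent.FSI
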