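import Mathlib
import Cfsg.Agent.Char.RealClifford
import Cfsg.Agent.Char.Values
import Cfsg.Agent.Char.Inflate

/-!
# Twisted Frobenius-Schur indicators

`G` is an ambient finite group with a sign `s : G →* ℤˣ`; for a subgroup `K` its even part is
`ev s K`.  Characters of subgroups are functions on `G`.  `tw s K η` is the average of `η (k * k)`
over the odd elements `k` of `K`, and `Pos s K` says it is never `-1`.
-/

set_option autoImplicit false
set_option linter.dupNamespace false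

namespace Cfsg.Agent.FSI

open Cfsg Cfsg.Agent.Char
open scoped ComplexConjugate

section Basic

variable {G G' : Type*} [Group G] [Group G']

/-- `η` restricts to an irreducible character of `H`. -/
def Irr (H : Subgroup G) (η : G → ℂ) : Prop := IsIrrCharacter H (fun h : H => η h)

/-- `η` restricts to a character of `H`. -/
def Ch (H : Subgroup G) (η : G → ℂ) : Prop := IsCharacter H (fun h : H => η h)

theorem Irr.c {H : Subgroup G} {η : G → ℂ} (h : Irr H η) :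
    IsIrrCharacter H (fun h : H => η h) := h

theorem Ch.c {H : Subgroup G} {η : G → ℂ} (h : Ch H η) : IsCharacter H (fun h : H => η h) := h

theorem Irr.ch {H : Subgroup G} {η : G → ℂ} (h : Irr H η) : Ch H η := h.c.isCharacter

/-- The restriction of a homomorphism to subgroups. -/
def rs (f : G' →* G) {L : Subgroup G'} {H : Subgroup G} (hf : ∀ l ∈ L, f l ∈ H) : L →* H :=
  (f.comp L.subtype).codRestrict H fun l => hf l l.2

theorem rs_surj (f : G' →* G) {L : Subgroup G'} {H : Subgroup G} (hf : ∀ l ∈ L, f l ∈ H)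
    (hs : ∀ x ∈ H, ∃ l ∈ L, f l = x) : Function.Surjective (rs f hf) := fun x => by
  obtain ⟨l, hl, e⟩ := hs x x.2
  exact ⟨⟨l, hl⟩, Subtype.ext e⟩

theorem Irr.congr {H : Subgroup G} {η φ : G → ℂ} (h : Irr H η) (e : ∀ x ∈ H, φ x = η x) :
    Irr H φ := by
  unfold Irr at *
  rwa [show (fun h : H => φ h) = fun h : H => η h from funext fun x => e x x.2]

theorem Ch.congr {H : Subgroup G} {η φ : G → ℂ} (h : Ch H η) (e : ∀ x ∈ H, φ x = η x) :
    Ch H φ := by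
  unfold Ch at *
  rwa [show (fun h : H => φ h) = fun h : H => η h from funext fun x => e x x.2]

theorem Ch.conj_eq {H : Subgroup G} {η : G → ℂ} (h : Ch H η) {x g : G} (hx : x ∈ H)
    (hg : g ∈ H) : η (x * g * x⁻¹) = η g :=
  h.c.isClassFunction ⟨g, hg⟩ ⟨x, hx⟩

theorem Ch.comp {H : Subgroup G} {L : Subgroup G'} {η : G → ℂ} (h : Ch H η) (f : G' →* G)
    (hf : ∀ l ∈ L, f l ∈ H) : Ch L (fun x => η (f x)) :=
  h.c.comp (rs f hf)

theorem Ch.mono {H L : Subgroup G} {η : G → ℂ} (h : Ch H η) (hf : L ≤ H) : Ch L η :=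
  h.comp (MonoidHom.id G) hf

theorem Ch.mul {H : Subgroup G} {η φ : G → ℂ} (h : Ch H η) (h' : Ch H φ) :
    Ch H (fun x => η x * φ x) := h.c.mul h'.c

theorem Ch.add {H : Subgroup G} {η φ : G → ℂ} (h : Ch H η) (h' : Ch H φ) :
    Ch H (fun x => η x + φ x) := h.c.add h'.c

theorem ch_one (H : Subgroup G) : Ch H (fun _ => 1) := isCharacter_one

theorem Irr.comp {H : Subgroup G} {L : Subgroup G'} {η : G → ℂ} (h : Irr H η) (f : G' →* G)
    (hf : ∀ l ∈ L, f l ∈ H) (hs : ∀ x ∈ H, ∃ l ∈ L, f l = x) : Irr L (fun x => η (f x)) :=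
  h.c.comp_surjective (rs f hf) (rs_surj f hf hs)

theorem irr_ext {H : Subgroup G} (χ : IrrCharacter H) : Irr H (extendByZero H χ.1) := by
  unfold Irr
  simpa using χ.2

theorem ch_ext {H : Subgroup G} {χ : H → ℂ} (h : IsCharacter H χ) :
    Ch H (extendByZero H χ) := by
  unfold Ch
  simpa using h

theorem Irr.one_ne {H : Subgroup G} {η : G → ℂ} (h : Irr H η) : η 1 ≠ 0 := h.c.one_ne_zero

theorem Ch.conj_one {H : Subgroup G} {η : G → ℂ} (h : Ch H η) : conj (η 1) = η 1 :=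
  h.c.conj_one

/-- The even part of `K`. -/
def ev (s : G →* ℤˣ) (K : Subgroup G) : Subgroup G := K ⊓ s.ker

theorem mem_ev {s : G →* ℤˣ} {K : Subgroup G} {g : G} : g ∈ ev s K ↔ g ∈ K ∧ s g = 1 := Iff.rfl

theorem ev_le (s : G →* ℤˣ) (K : Subgroup G) : ev s K ≤ K := inf_le_left

theorem ev_mono (s : G →* ℤˣ) {K L : Subgroup G} (h : K ≤ L) : ev s K ≤ ev s L :=
  inf_le_inf_right _ h

theorem conj_mem_ev {s : G →* ℤˣ} {K : Subgroup G} {t g : G} (ht : t ∈ K) (hg : g ∈ ev s K) :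
    t * g * t⁻¹ ∈ ev s K :=
  ⟨K.mul_mem (K.mul_mem ht hg.1) (K.inv_mem ht), by
    have := (mem_ev.mp hg).2
    simp [this]⟩

theorem mul_mem_ev {s : G →* ℤˣ} {K : Subgroup G} {t u : G} (ht : t ∈ K) (hu : u ∈ K)
    (h1 : s t = -1) (h2 : s u = -1) : t * u ∈ ev s K :=
  ⟨K.mul_mem ht hu, by simp [h1, h2]⟩

theorem sq_mem_ev {s : G →* ℤˣ} {K : Subgroup G} {t : G} (ht : t ∈ K) : t * t ∈ ev s K :=
  ⟨K.mul_mem ht ht, by simp⟩

theorem s_inv (s : G →* ℤˣ) (t : G) : s t⁻¹ = s t := by simp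

/-- `K` has an odd element. -/
def HasOdd (s : G →* ℤˣ) (K : Subgroup G) : Prop := ∃ t ∈ K, s t = -1

/-- `η` is invariant under the twisted action of `K`. -/
def Inv (s : G →* ℤˣ) (K : Subgroup G) (η : G → ℂ) : Prop :=
  ∀ t ∈ K, s t = -1 → ∀ g ∈ ev s K, η (t * g * t⁻¹) = conj (η g)

theorem Inv.mono {s : G →* ℤˣ} {K L : Subgroup G} {η : G → ℂ} (h : Inv s K η) (hL : L ≤ K) :
    Inv s L η := fun t ht hs g hg => h t (hL ht) hs g (ev_mono s hL hg)

theorem Inv.comp {s : G →* ℤˣ} {s' : G' →* ℤˣ} {K : Subgroup G} {L : Subgroup G'} {η : G → ℂ}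
    (h : Inv s K η) (f : G' →* G) (hf : ∀ l ∈ L, f l ∈ K ∧ s (f l) = s' l) :
    Inv s' L (fun x => η (f x)) := fun t ht hs g hg => by
  simp only [map_mul, map_inv]
  exact h _ (hf t ht).1 ((hf t ht).2.trans hs) _ ⟨(hf g hg.1).1, (hf g hg.1).2.trans hg.2⟩

theorem inv_of_one {s : G →* ℤˣ} {K : Subgroup G} {η : G → ℂ} (hη : Ch (ev s K) η) {t : G}
    (ht : t ∈ K) (hs : s t = -1) (h : ∀ g ∈ ev s K, η (t * g * t⁻¹) = conj (η g)) :
    Inv s K η := fun u hu hus g hg => by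
  have h1 : u * t⁻¹ ∈ ev s K := mul_mem_ev hu (K.inv_mem ht) hus (by rw [s_inv, hs])
  rw [← h g hg, ← hη.conj_eq h1 (conj_mem_ev ht hg)]
  congr 1; group

variable [Finite G] [Finite G']

theorem Ch.conj {H : Subgroup G} {η : G → ℂ} (h : Ch H η) : Ch H (fun x => conj (η x)) :=
  h.c.conj

theorem Irr.conj {H : Subgroup G} {η : G → ℂ} (h : Irr H η) : Irr H (fun x => conj (η x)) :=
  h.c.conj

theorem Ch.map_inv {H : Subgroup G} {η : G → ℂ} (h : Ch H η) {g : G} (hg : g ∈ H) :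
    η g⁻¹ = conj (η g) := h.c.map_inv ⟨g, hg⟩

theorem Ch.isIntegral {H : Subgroup G} {η : G → ℂ} (h : Ch H η) {g : G} (hg : g ∈ H) :
    IsIntegral ℤ (η g) := h.c.isIntegral ⟨g, hg⟩

/-- A set as a finset. -/
noncomputable def fs (S : Set G) : Finset G := S.toFinite.toFinset

omit [Group G] in
@[simp] theorem mem_fs {S : Set G} {x : G} : x ∈ fs S ↔ x ∈ S := Set.Finite.mem_toFinset _

theorem sum_fs (H : Subgroup G) [Fintype H] (f : G → ℂ) :
    ∑ h ∈ fs (H : Set G), f h = ∑ h : H, f h :=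
  Finset.sum_subtype _ (fun _ => mem_fs) f

/-- The average over a subgroup. -/
noncomputable def avg (H : Subgroup G) (f : G → ℂ) : ℂ :=
  (Nat.card H : ℂ)⁻¹ * ∑ h ∈ fs (H : Set G), f h

theorem avg_eq (H : Subgroup G) [Fintype H] (f : G → ℂ) :
    avg H f = (Nat.card H : ℂ)⁻¹ * ∑ h : H, f h := by rw [avg, sum_fs]

theorem avg_congr {H : Subgroup G} {f g : G → ℂ} (h : ∀ x ∈ H, f x = g x) : avg H f = avg H g := by
  unfold avg
  rw [Finset.sum_congr rfl fun x hx => h x (mem_fs.mp hx)]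

theorem avg_add (H : Subgroup G) (f g : G → ℂ) :
    avg H (fun x => f x + g x) = avg H f + avg H g := by
  simp only [avg, Finset.sum_add_distrib, mul_add]

theorem avg_sub (H : Subgroup G) (f g : G → ℂ) :
    avg H (fun x => f x - g x) = avg H f - avg H g := by
  simp only [avg, Finset.sum_sub_distrib, mul_sub]

theorem avg_mul (H : Subgroup G) (c : ℂ) (f : G → ℂ) :
    avg H (fun x => c * f x) = c * avg H f := by
  simp only [avg, ← Finset.mul_sum]; ring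

theorem avg_sum {ι : Type*} (H : Subgroup G) (t : Finset ι) (f : ι → G → ℂ) :
    avg H (fun x => ∑ i ∈ t, f i x) = ∑ i ∈ t, avg H (f i) := by
  simp only [avg]
  rw [Finset.sum_comm, Finset.mul_sum]

theorem avg_const (H : Subgroup G) (c : ℂ) : avg H (fun _ => c) = c := by
  have := Fintype.ofFinite H
  rw [avg_eq, Finset.sum_const, Finset.card_univ, ← Nat.card_eq_fintype_card, nsmul_eq_mul,
    ← mul_assoc, inv_mul_cancel₀ (card_ne_zero H), one_mul]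

theorem conj_avg (H : Subgroup G) (f : G → ℂ) :
    conj (avg H f) = avg H (fun x => conj (f x)) := by
  simp [avg]

theorem avg_comp {H : Subgroup G} {L : Subgroup G'} (f : G' →* G) (hf : ∀ l ∈ L, f l ∈ H)
    (hs : ∀ x ∈ H, ∃ l ∈ L, f l = x) (F : G → ℂ) : avg L (fun x => F (f x)) = avg H F := by
  have := Fintype.ofFinite H
  have := Fintype.ofFinite L
  rw [avg_eq, avg_eq]
  exact avg_comp_surjective (rs f hf) (rs_surj f hf hs) (fun x : H => F x)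

/-- Reindexing an average by a bijection of `G` preserving `H`. -/
theorem avg_equiv {H : Subgroup G} (e : G ≃ G) (he : ∀ x, e x ∈ H ↔ x ∈ H) (F : G → ℂ) :
    avg H (fun x => F (e x)) = avg H F := by
  unfold avg
  congr 1
  exact Finset.sum_equiv e (fun x => by simp [he]) fun _ _ => rfl

theorem avg_mul_left {H : Subgroup G} {a : G} (ha : a ∈ H) (F : G → ℂ) :
    avg H (fun x => F (a * x)) = avg H F :=
  avg_equiv (Equiv.mulLeft a) (fun _ => H.mul_mem_cancel_left ha) F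

theorem avg_mul_right {H : Subgroup G} {a : G} (ha : a ∈ H) (F : G → ℂ) :
    avg H (fun x => F (x * a)) = avg H F :=
  avg_equiv (Equiv.mulRight a) (fun _ => H.mul_mem_cancel_right ha) F

theorem avg_inv (H : Subgroup G) (F : G → ℂ) : avg H (fun x => F x⁻¹) = avg H F :=
  avg_equiv (Equiv.inv G) (fun _ => H.inv_mem_iff) F

theorem avg_conj_ev {s : G →* ℤˣ} {K : Subgroup G} {t : G} (ht : t ∈ K) (F : G → ℂ) :
    avg (ev s K) (fun x => F (t * x * t⁻¹)) = avg (ev s K) F :=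
  avg_equiv (MulAut.conj t).toEquiv (fun x => ⟨fun h => by
    have := conj_mem_ev (K.inv_mem ht) h
    simpa [mul_assoc] using this, fun h => conj_mem_ev ht h⟩) F

/-- The inner product on a subgroup. -/
noncomputable def inn (H : Subgroup G) (α β : G → ℂ) : ℂ := avg H (fun h => α h * conj (β h))

theorem inn_eq (H : Subgroup G) [Fintype H] (α β : G → ℂ) :
    inn H α β = classInner (fun h : H => α h) (fun h : H => β h) := by
  rw [inn, avg_eq]; rfl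

theorem inn_congr {H : Subgroup G} {α β α' β' : G → ℂ} (h : ∀ x ∈ H, α x = α' x)
    (h' : ∀ x ∈ H, β x = β' x) : inn H α β = inn H α' β' :=
  avg_congr fun x hx => by rw [h x hx, h' x hx]

theorem Irr.inn_self {H : Subgroup G} {η : G → ℂ} (h : Irr H η) : inn H η η = 1 := by
  have := Fintype.ofFinite H
  rw [inn_eq]; exact h.c.inner_self

theorem Ch.irr {H : Subgroup G} {η : G → ℂ} (h : Ch H η) (h1 : inn H η η = 1) : Irr H η := by
  have := Fintype.ofFinite H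
  rw [inn_eq] at h1; exact h.c.isIrr_of_inner_self h1

theorem Ch.exists_nat {H : Subgroup G} {η φ : G → ℂ} (h : Ch H η) (h' : Ch H φ) :
    ∃ n : ℕ, inn H η φ = n := by
  have := Fintype.ofFinite H
  rw [inn_eq]; exact h.c.exists_nat_inner h'.c

theorem Irr.eq_of_inn {H : Subgroup G} {η φ : G → ℂ} (h : Irr H η) (h' : Irr H φ)
    (hne : inn H η φ ≠ 0) {x : G} (hx : x ∈ H) : η x = φ x := by
  have := Fintype.ofFinite H
  rw [inn_eq] at hne
  exact congrFun (h.c.eq_of_inner_ne_zero h'.c hne) ⟨x, hx⟩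

theorem sum_odd {s : G →* ℤˣ} {K : Subgroup G} {t : G} (ht : t ∈ K) (hs : s t = -1)
    (f : G → ℂ) : ∑ k ∈ fs {k | k ∈ K ∧ s k = -1}, f k = ∑ g ∈ fs (ev s K : Set G), f (g * t) := by
  symm
  refine Finset.sum_equiv (Equiv.mulRight t) (fun x => ?_) fun _ _ => rfl
  simp only [mem_fs, SetLike.mem_coe, mem_ev, Equiv.coe_mulRight, Set.mem_ofPred_eq, map_mul, hs,
    K.mul_mem_cancel_right ht]
  rcases Int.units_eq_one_or (s x) with h | h <;> simp [h]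

theorem sum_split (s : G →* ℤˣ) (K : Subgroup G) (f : G → ℂ) : ∑ k ∈ fs (K : Set G), f k =
    ∑ g ∈ fs (ev s K : Set G), f g + ∑ k ∈ fs {k | k ∈ K ∧ s k = -1}, f k := by
  classical
  rw [← Finset.sum_filter_add_sum_filter_not _ (fun k => s k = 1)]
  congr 1
  · exact Finset.sum_congr (by ext x; simp [mem_ev]) fun _ _ => rfl
  · refine Finset.sum_congr ?_ fun _ _ => rfl
    ext x
    rcases Int.units_eq_one_or (s x) with h | h <;> simp [h]

theorem card_eq_sum (H : Subgroup G) : (Nat.card H : ℂ) = ∑ _h ∈ fs (H : Set G), (1 : ℂ) := by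
  have := Fintype.ofFinite H
  rw [sum_fs]; simp

theorem card_eq_two_mul {s : G →* ℤˣ} {K : Subgroup G} (h : HasOdd s K) :
    (Nat.card K : ℂ) = 2 * Nat.card (ev s K) := by
  obtain ⟨t, ht, hs⟩ := h
  rw [card_eq_sum, sum_split s, sum_odd ht hs, card_eq_sum, two_mul]

theorem avg_split {s : G →* ℤˣ} {K : Subgroup G} {t : G} (ht : t ∈ K) (hs : s t = -1)
    (f : G → ℂ) : avg K f = (avg (ev s K) f + avg (ev s K) (fun g => f (g * t))) / 2 := by
  rw [avg, sum_split s, sum_odd ht hs, card_eq_two_mul ⟨t, ht, hs⟩, avg, avg]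
  have := card_ne_zero (ev s K)
  field_simp

/-- The twisted Frobenius-Schur indicator. -/
noncomputable def tw (s : G →* ℤˣ) (K : Subgroup G) (η : G → ℂ) : ℂ :=
  (Nat.card (ev s K) : ℂ)⁻¹ * ∑ k ∈ fs {k | k ∈ K ∧ s k = -1}, η (k * k)

theorem tw_eq {s : G →* ℤˣ} {K : Subgroup G} {t : G} (ht : t ∈ K) (hs : s t = -1)
    (η : G → ℂ) : tw s K η = avg (ev s K) (fun g => η (g * t * (g * t))) := by
  rw [tw, sum_odd ht hs, avg]

theorem tw_eq_zero {s : G →* ℤˣ} {K : Subgroup G} (h : ¬ HasOdd s K) (η : G → ℂ) :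
    tw s K η = 0 := by
  rw [tw, Finset.sum_eq_zero, mul_zero]
  intro k hk
  exact (h ⟨k, (mem_fs.mp hk).1, (mem_fs.mp hk).2⟩).elim

theorem hasOdd_of_tw {s : G →* ℤˣ} {K : Subgroup G} {η : G → ℂ} (h : tw s K η ≠ 0) :
    HasOdd s K := by
  by_contra h'
  exact h (tw_eq_zero h' η)

theorem tw_congr {s : G →* ℤˣ} {K : Subgroup G} {η φ : G → ℂ} (h : ∀ x ∈ ev s K, η x = φ x) :
    tw s K η = tw s K φ := by
  unfold tw
  rw [Finset.sum_congr rfl fun x hx => h _ (sq_mem_ev (mem_fs.mp hx).1)]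

theorem conj_tw (s : G →* ℤˣ) (K : Subgroup G) (η : G → ℂ) :
    conj (tw s K η) = tw s K (fun x => conj (η x)) := by
  simp [tw]

/-- No irreducible character of the even part has twisted indicator `-1`. -/
def Pos (s : G →* ℤˣ) (K : Subgroup G) : Prop := ∀ η : G → ℂ, Irr (ev s K) η → tw s K η ≠ -1

end Basic

section Fib

variable {G₁ G₂ : Type*} [Group G₁] [Group G₂]

/-- The fibre product over the signs. -/
def fib (s₁ : G₁ →* ℤˣ) (s₂ : G₂ →* ℤˣ) (K₁ : Subgroup G₁) (K₂ : Subgroup G₂) :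
    Subgroup (G₁ × G₂) :=
  K₁.prod K₂ ⊓ (s₁.comp (MonoidHom.fst _ _)).eqLocus (s₂.comp (MonoidHom.snd _ _))

variable {s₁ : G₁ →* ℤˣ} {s₂ : G₂ →* ℤˣ} {K₁ : Subgroup G₁} {K₂ : Subgroup G₂}

theorem mem_fib {x : G₁ × G₂} :
    x ∈ fib s₁ s₂ K₁ K₂ ↔ x.1 ∈ K₁ ∧ x.2 ∈ K₂ ∧ s₁ x.1 = s₂ x.2 :=
  ⟨fun h => ⟨h.1.1, h.1.2, h.2⟩, fun h => ⟨⟨h.1, h.2.1⟩, h.2.2⟩⟩

/-- The sign on a product. -/
abbrev sfst (s₁ : G₁ →* ℤˣ) (G₂ : Type*) [Group G₂] : G₁ × G₂ →* ℤˣ :=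
  s₁.comp (MonoidHom.fst _ _)

theorem ev_fib : ev (sfst s₁ G₂) (fib s₁ s₂ K₁ K₂) = (ev s₁ K₁).prod (ev s₂ K₂) := by
  ext x
  simp only [mem_ev, mem_fib, Subgroup.mem_prod, MonoidHom.comp_apply, MonoidHom.coe_fst]
  constructor
  · rintro ⟨⟨h1, h2, h3⟩, h4⟩
    exact ⟨⟨h1, h4⟩, h2, h3 ▸ h4⟩
  · rintro ⟨⟨h1, h2⟩, h3, h4⟩
    exact ⟨⟨h1, h3, h2.trans h4.symm⟩, h2⟩

variable [Finite G₁] [Finite G₂]

theorem avg_prod (H₁ : Subgroup G₁) (H₂ : Subgroup G₂) (f₁ : G₁ → ℂ) (f₂ : G₂ → ℂ) :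
    avg (H₁.prod H₂) (fun x => f₁ x.1 * f₂ x.2) = avg H₁ f₁ * avg H₂ f₂ := by
  unfold avg
  rw [show fs (H₁.prod H₂ : Set (G₁ × G₂)) = fs (H₁ : Set G₁) ×ˢ fs (H₂ : Set G₂) from by
    ext x; simp [Subgroup.mem_prod], Finset.sum_product, ← Finset.sum_mul_sum,
    Nat.card_congr (Subgroup.prodEquiv H₁ H₂).toEquiv, Nat.card_prod]
  push_cast
  ring

theorem irr_prod {H₁ : Subgroup G₁} {H₂ : Subgroup G₂} {η₁ : G₁ → ℂ} {η₂ : G₂ → ℂ}
    (h₁ : Irr H₁ η₁) (h₂ : Irr H₂ η₂) : Irr (H₁.prod H₂) (fun x => η₁ x.1 * η₂ x.2) :=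
  (h₁.c.prodFun h₂.c).comp_mulEquiv (Subgroup.prodEquiv H₁ H₂)

theorem Irr.exists_prod {H₁ : Subgroup G₁} {H₂ : Subgroup G₂} {η : G₁ × G₂ → ℂ}
    (h : Irr (H₁.prod H₂) η) : ∃ η₁ η₂, Irr H₁ η₁ ∧ Irr H₂ η₂ ∧
      ∀ x ∈ H₁.prod H₂, η x = η₁ x.1 * η₂ x.2 := by
  obtain ⟨φ, ψ, h1, h2, e⟩ :=
    (h.c.comp_mulEquiv (Subgroup.prodEquiv H₁ H₂).symm).exists_prodFun
  refine ⟨_, _, irr_ext ⟨φ, h1⟩, irr_ext ⟨ψ, h2⟩, fun x hx => ?_⟩
  rw [extendByZero_of_mem _ _ hx.1, extendByZero_of_mem _ _ hx.2]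
  exact congrFun e (⟨x.1, hx.1⟩, ⟨x.2, hx.2⟩)

theorem tw_fib (η₁ : G₁ → ℂ) (η₂ : G₂ → ℂ) :
    tw (sfst s₁ G₂) (fib s₁ s₂ K₁ K₂) (fun x => η₁ x.1 * η₂ x.2) =
      tw s₁ K₁ η₁ * tw s₂ K₂ η₂ := by
  by_cases h₁ : HasOdd s₁ K₁
  · by_cases h₂ : HasOdd s₂ K₂
    · obtain ⟨t₁, ht₁, hs₁⟩ := h₁
      obtain ⟨t₂, ht₂, hs₂⟩ := h₂
      rw [tw_eq ht₁ hs₁, tw_eq ht₂ hs₂, ← avg_prod,
        tw_eq (t := (t₁, t₂)) (mem_fib.mpr ⟨ht₁, ht₂, hs₁.trans hs₂.symm⟩) hs₁, ev_fib]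
      rfl
    · rw [tw_eq_zero h₂, mul_zero, tw_eq_zero]
      rintro ⟨t, ht, hs⟩
      exact h₂ ⟨t.2, (mem_fib.mp ht).2.1, (mem_fib.mp ht).2.2.symm.trans hs⟩
  · rw [tw_eq_zero h₁, zero_mul, tw_eq_zero]
    rintro ⟨t, ht, hs⟩
    exact h₁ ⟨t.1, (mem_fib.mp ht).1, hs⟩

end Fib

end Cfsg.Agent.FSI
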